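import Cfsg.Agent.Lib.RootSubgroups.RankOne

/-!
Rank one pairs inside the subgroup they generate.
-/

set_option autoImplicit false

namespace CfsgLib.RankOneRestrict

open Subgroup Cfsg

variable {G : Type*} [Group G] {A B K : Subgroup G}

theorem map_conjBy_subtype (C : Subgroup K) (g : K) : (conjBy C g).map K.subtype = conjBy (C.map K.subtype) (g : G) := by
  simp only [conjBy, Subgroup.map_map]
  congr 1

theorem pair_subgroupOf (h : IsRankOnePair A B) (hA : A ≤ K) (hB : B ≤ K) :
    IsRankOnePair (A.subgroupOf K) (B.subgroupOf K) := by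
  have key : ∀ A B : Subgroup G, A ≤ K → B ≤ K → RankOneCondition A B →
      RankOneCondition (A.subgroupOf K) (B.subgroupOf K) := by
    intro A B hA hB hc a ha ha1
    obtain ⟨b, hb, hb1, he⟩ := hc (a : G) ha (fun e => ha1 (Subtype.ext e))
    refine ⟨⟨b, hB hb⟩, hb, fun e => hb1 (congrArg Subtype.val e), ?_⟩
    apply Subgroup.map_injective K.subtype_injective
    rw [map_conjBy_subtype, map_conjBy_subtype, Subgroup.map_subgroupOf_eq_of_le hA,
      Subgroup.map_subgroupOf_eq_of_le hB]
    simpa using he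
  refine ⟨fun e => h.ne ?_, ?_, ?_, key A B hA hB h.cond_left, key B A hB hA h.cond_right⟩
  · rw [← Subgroup.map_subgroupOf_eq_of_le hA, e, Subgroup.map_subgroupOf_eq_of_le hB]
  · haveI := h.nilpotent_left; exact Group.nilpotent_of_mulEquiv (subgroupOfEquivOfLe hA).symm
  · haveI := h.nilpotent_right; exact Group.nilpotent_of_mulEquiv (subgroupOfEquivOfLe hB).symm

theorem isRankOneGroup_sup (h : IsRankOnePair A B) :
    IsRankOneGroup (↥(A ⊔ B)) (A.subgroupOf (A ⊔ B)) (B.subgroupOf (A ⊔ B)) := by
  refine ⟨?_, pair_subgroupOf h le_sup_left le_sup_right⟩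
  apply Subgroup.map_injective (A ⊔ B).subtype_injective
  rw [Subgroup.map_sup, Subgroup.map_subgroupOf_eq_of_le le_sup_left,
    Subgroup.map_subgroupOf_eq_of_le le_sup_right, ← MonoidHom.range_eq_map, Subgroup.range_subtype]

end CfsgLib.RankOneRestrict
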