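import Cfsg.Agent.Lib.RootSubgroups.RankOne

/-!
Elementary theory of sets of abstract root subgroups.
-/

namespace CfsgLib.RankOne

open Subgroup Cfsg

variable {G : Type*} [Group G] {S : Set (Subgroup G)} {A B C D : Subgroup G}

theorem commute_of_commutator_eq_bot (h : ⁅A, B⁆ = ⊥) {a b : G} (ha : a ∈ A) (hb : b ∈ B) :
    a * b = b * a :=
  ((mem_centralizer_iff.1 (commutator_eq_bot_iff_le_centralizer.1 h ha)) b hb).symm

theorem commutator_ne_bot_of_isRankOnePair (h : IsRankOnePair A B) : ⁅A, B⁆ ≠ ⊥ := by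
  intro he
  apply left_ne_bot h
  rw [eq_bot_iff, ← normalizer_inf_eq_bot h]
  exact le_inf le_rfl ((commutator_eq_bot_iff_le_centralizer.1 he).trans (centralizer_le_normalizer _))

theorem member_comm (hS : IsRootSubgroupSet S) (hA : A ∈ S) {a a' : G} (ha : a ∈ A) (ha' : a' ∈ A) :
    a * a' = a' * a :=
  congrArg Subtype.val ((hS.commutative A hA).is_comm.comm ⟨a, ha⟩ ⟨a', ha'⟩)

theorem unipotent_subgroup_le {C : Subgroup G} (hC : C ∈ unipotentSubgroups A B) : C ≤ A ⊔ B := by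
  obtain ⟨x, hx, rfl⟩ := hC
  rintro _ ⟨a, ha, rfl⟩
  exact mul_mem (mul_mem hx (mem_sup_left ha)) (inv_mem hx)

theorem map_commutator_conj (A B : Subgroup G) (g : G) :
    conjBy ⁅A, B⁆ g = ⁅conjBy A g, conjBy B g⁆ :=
  Subgroup.map_commutator A B _

theorem isRankOnePair_conjBy (h : IsRankOnePair A B) (g : G) : IsRankOnePair (conjBy A g) (conjBy B g) := by
  have key : ∀ A B : Subgroup G, RankOneCondition A B → RankOneCondition (conjBy A g) (conjBy B g) := by
    intro A B hc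
    rintro _ ⟨a, ha, rfl⟩ ha1
    obtain ⟨b, hb, hb1, hab⟩ := hc a ha (fun e => ha1 (by rw [e, map_one]))
    refine ⟨g * b * g⁻¹, ⟨b, hb, rfl⟩, fun e => hb1 (conj_eq_one_iff.1 e), ?_⟩
    · show conjBy (conjBy A g) (g * b * g⁻¹)⁻¹ = conjBy (conjBy B g) (g * a * g⁻¹)⁻¹
      rw [← conjBy_mul, ← conjBy_mul, show (g * b * g⁻¹)⁻¹ * g = g * b⁻¹ by group,
        show (g * a * g⁻¹)⁻¹ * g = g * a⁻¹ by group, conjBy_mul, hab, ← conjBy_mul]
  exact ⟨fun e => h.ne (conjBy_injective e),
    (haveI := h.nilpotent_left; Group.nilpotent_of_mulEquiv (equivMapOfInjective A _ (MulAut.conj g).injective)),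
    (haveI := h.nilpotent_right; Group.nilpotent_of_mulEquiv (equivMapOfInjective B _ (MulAut.conj g).injective)),
    key A B h.cond_left, key B A h.cond_right⟩

/-- Two different unipotent subgroups of a rank one group do not commute. -/
theorem eq_of_commute_unipotent (h : IsRankOnePair A B) {U V : Subgroup G}
    (hU : U ∈ unipotentSubgroups A B) (hV : V ∈ unipotentSubgroups A B)
    (hc : ∀ u ∈ U, ∀ v ∈ V, u * v = v * u) : U = V := by
  by_contra hne
  obtain ⟨x, -, hx1, hx2⟩ := two_transitive h hU hV self_mem_unipotentSubgroups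
    (right_mem_unipotentSubgroups h) hne h.ne
  apply commutator_ne_bot_of_isRankOnePair h
  rw [← hx1, ← hx2, ← map_commutator_conj,
    commutator_eq_bot_iff_le_centralizer.2 (fun u hu => mem_centralizer_iff.2 fun v hv => (hc u hu v hv).symm)]
  exact Subgroup.map_bot _

theorem centralize_commutator_sup (hS : IsRootSubgroupSet S) (hB : B ∈ S) (h : RootCommutatorCase S A B)
    {b : G} (hb : b ∈ B) {x : G} (hx : x ∈ ⁅A, B⁆ ⊔ B) : x * b = b * x := by
  have hle : ⁅A, B⁆ ⊔ B ≤ centralizer ({b} : Set G) := by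
    refine sup_le (fun c hc => ?_) (fun c hc => ?_) <;> rw [mem_centralizer_singleton_iff]
    · exact h.2.1 c hc b (mem_sup_right hb)
    · exact member_comm hS hB hc hb
  exact mem_centralizer_singleton_iff.1 (hle hx)

/-- If `A`, `B` do not form a rank one pair, then `B` commutes with its conjugates under `A`. -/
theorem commute_conj_of_not_rankOne (hS : IsRootSubgroupSet S) (hA : A ∈ S) (hB : B ∈ S)
    (h : ¬ IsRankOnePair A B) {a : G} (ha : a ∈ A) {u v : G} (hu : u ∈ conjBy B a) (hv : v ∈ B) :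
    u * v = v * u := by
  obtain ⟨b, hb, rfl⟩ := hu
  rcases hS.pair A hA B hB with h1 | h1 | h1
  · show a * b * a⁻¹ * v = v * (a * b * a⁻¹)
    rw [commute_of_commutator_eq_bot h1 ha hb, mul_inv_cancel_right]
    exact member_comm hS hB hb hv
  · exact absurd h1 h
  · refine centralize_commutator_sup hS hB h1 hv ?_
    have : MulAut.conj a b = (a * b * a⁻¹ * b⁻¹) * b := by simp [mul_assoc]
    show MulAut.conj a b ∈ _
    rw [this]
    exact mul_mem (mem_sup_left (commutator_mem_commutator ha hb)) (mem_sup_right hb)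

/-- A member contained in a rank one group of members is one of its unipotent subgroups. -/
theorem mem_unipotentSubgroups_of_le (hS : IsRootSubgroupSet S) (hA : A ∈ S) (hC : C ∈ S)
    (hD : D ∈ S) (hCD : IsRankOnePair C D) (hA' : ∃ B : Subgroup G, B ≤ C ⊔ D ∧ IsRankOnePair A B)
    (hle : A ≤ C ⊔ D) : A ∈ unipotentSubgroups C D := by
  have hU : ∀ U ∈ unipotentSubgroups C D, U ∈ S := by
    rintro U ⟨x, -, rfl⟩
    exact hS.conj_mem C hC x
  by_contra hnot
  have hfix : ∀ U ∈ unipotentSubgroups C D, ∀ a ∈ A, conjBy U a = U := by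
    intro U hUm a ha
    refine eq_of_commute_unipotent hCD (conjBy_mem_unipotentSubgroups hUm (hle ha)) hUm
      fun u hu v hv => commute_conj_of_not_rankOne hS hA (hU U hUm) ?_ ha hu hv
    intro hr
    obtain ⟨a₀, ha₀, ha₀1⟩ := (ne_bot_iff_exists_ne_one' A).1 (hS.ne_bot A hA)
    obtain ⟨b, hb, -, hab⟩ := hr.cond_left a₀ ha₀ ha₀1
    apply hnot
    rw [← conjBy_conjBy_inv A b, hab]
    exact conjBy_mem_unipotentSubgroups (conjBy_mem_unipotentSubgroups hUm (hle (inv_mem ha₀)))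
      (unipotent_subgroup_le hUm hb)
  obtain ⟨B, hB, hr⟩ := hA'
  apply commutator_ne_bot_of_isRankOnePair hr
  rw [commutator_eq_bot_iff_le_centralizer]
  intro a ha
  rw [mem_centralizer_iff]
  intro b hb
  have hcen : C ⊔ D ≤ centralizer ({a} : Set G) := by
    have key : ∀ P Q : Subgroup G, P ∈ S → conjBy P a = P → (∀ q ∈ P, conjBy Q (q * a * q⁻¹ * a⁻¹) = Q) →
        P ⊓ normalizer (Q : Set G) = ⊥ → P ≤ centralizer ({a} : Set G) := by
      intro P Q _ hP hQ hPQ q hq
      rw [mem_centralizer_singleton_iff]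
      have h1 : q * a * q⁻¹ * a⁻¹ ∈ P := by
        rw [mul_assoc q a, mul_assoc q]
        exact mul_mem hq ((mem_normalizer_iff.1 (conjBy_eq_self_iff.1 hP) _).1 (inv_mem hq))
      have h2 : q * a * q⁻¹ * a⁻¹ ∈ (⊥ : Subgroup G) := hPQ ▸ mem_inf.2 ⟨h1, conjBy_eq_self_iff.1 (hQ q hq)⟩
      rw [mem_bot, mul_inv_eq_one, mul_inv_eq_iff_eq_mul] at h2
      exact h2
    have hfixc : ∀ U ∈ unipotentSubgroups C D, ∀ q ∈ C ⊔ D, conjBy U (q * a * q⁻¹ * a⁻¹) = U := by
      intro U hUm q hq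
      rw [conjBy_mul, conjBy_mul, conjBy_mul, hfix U hUm a⁻¹ (inv_mem ha),
        hfix _ (conjBy_mem_unipotentSubgroups hUm (inv_mem hq)) a ha, conjBy_conjBy_inv]
    refine sup_le ?_ ?_
    · exact key C D hC (hfix C self_mem_unipotentSubgroups a ha)
        (fun q hq => hfixc D (right_mem_unipotentSubgroups hCD) q (mem_sup_left hq)) (normalizer_inf_eq_bot hCD)
    · exact key D C hD (hfix D (right_mem_unipotentSubgroups hCD) a ha)
        (fun q hq => hfixc C self_mem_unipotentSubgroups q (mem_sup_right hq)) (normalizer_inf_eq_bot' hCD)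
  exact (mem_centralizer_singleton_iff.1 (hcen (hB hb)))
where
  ne_bot_iff_exists_ne_one' (H : Subgroup G) : H ≠ ⊥ ↔ ∃ x ∈ H, x ≠ 1 := by
    rw [ne_eq, Subgroup.eq_bot_iff_forall]; push Not; rfl

/-- If `z` centralizes `⟨A,B⟩` then no element `z a`, `a ∈ A#`, is a root element. -/
theorem not_mem_rootElements (hS : IsRootSubgroupSet S) (hA : A ∈ S) (hB : B ∈ S) (hAB : IsRankOnePair A B)
    {z : G} (hz : z ∈ centralizer ((A ⊔ B : Subgroup G) : Set G)) (hz1 : z ≠ 1) {a : G} (ha : a ∈ A)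
    (ha1 : a ≠ 1) : z * a ∉ rootElements S := by
  rintro ⟨hza1, C, hC, hza⟩
  rw [mem_centralizer_iff] at hz
  have hzA : ∀ y ∈ A, (z * a) * y = y * (z * a) := fun y hy => by
    rw [mul_assoc, member_comm hS hA ha hy, ← mul_assoc, ← hz y (mem_sup_left hy), mul_assoc]
  have hCA : ⁅C, A⁆ = ⊥ := by
    rcases hS.pair C hC A hA with h | h | h
    · exact h
    · exfalso
      apply hza1
      refine (Subgroup.eq_bot_iff_forall _).1 (normalizer_inf_eq_bot h) _ (mem_inf.2 ⟨hza, ?_⟩)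
      exact centralizer_le_normalizer _ (mem_centralizer_iff.2 fun y hy => (hzA y hy).symm)
    · rw [← h.2.2.1 _ hza hza1, eq_bot_iff, closure_le]
      rintro _ ⟨y, hy, rfl⟩
      show z * a * y * (z * a)⁻¹ * y⁻¹ ∈ (⊥ : Subgroup G)
      rw [mem_bot, hzA y hy, mul_assoc y, mul_inv_cancel, mul_one, mul_inv_cancel]
  have hconj : conjBy B (z * a)⁻¹ = conjBy B a⁻¹ := by
    have hza' : (z * a)⁻¹ = a⁻¹ * z⁻¹ := mul_inv_rev z a
    rw [hza', conjBy_mul, conjBy_eq_self_iff.2 (inv_mem (centralizer_le_normalizer _ (mem_centralizer_iff.2 fun y hy => hz y (mem_sup_right hy))))]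
  have hCB : IsRankOnePair C B := by
    by_contra hnot
    have hmem : conjBy B a⁻¹ ∈ unipotentSubgroups A B :=
      conjBy_mem_unipotentSubgroups (right_mem_unipotentSubgroups hAB) (inv_mem (mem_sup_left ha))
    have he := eq_of_commute_unipotent hAB hmem (right_mem_unipotentSubgroups hAB)
      fun u hu v hv => commute_conj_of_not_rankOne hS hC hB hnot (inv_mem hza) (hconj ▸ hu) hv
    exact ha1 (inv_eq_one.1 (eq_of_conjBy_eq_right hAB (inv_mem ha) (one_mem A) (he.trans (conjBy_one B).symm)))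
  obtain ⟨b, hb, -, hcb⟩ := hCB.cond_left _ hza hza1
  obtain ⟨b', hb', -, hab⟩ := hAB.cond_left a ha ha1
  rw [hconj, ← hab] at hcb
  have hCu : C ∈ unipotentSubgroups A B :=
    ⟨b * b'⁻¹, mul_mem (mem_sup_right hb) (inv_mem (mem_sup_right hb')), by
      rw [conjBy_mul, ← hcb, conjBy_conjBy_inv]⟩
  have hCeq : C = A := eq_of_commute_unipotent hAB hCu self_mem_unipotentSubgroups
    fun u hu v hv => commute_of_commutator_eq_bot hCA hu hv
  have hzmem : z ∈ A := by
    have := mul_mem (hCeq ▸ hza : z * a ∈ A) (inv_mem ha)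
    rwa [mul_inv_cancel_right] at this
  exact hz1 ((Subgroup.eq_bot_iff_forall _).1 (normalizer_inf_eq_bot hAB) z
    (mem_inf.2 ⟨hzmem, centralizer_le_normalizer _ (mem_centralizer_iff.2 fun y hy => hz y (mem_sup_right hy))⟩))

theorem exists_partner_of_not_isolated (hA : A ∈ S) (h : ¬ IsIsolatedIn (FAdj S) S A) :
    ∃ B ∈ S, IsRankOnePair A B := by
  by_contra hcon
  push Not at hcon
  exact h ⟨hA, fun B => ⟨fun ha => hcon B ha.2.1 ha.2.2, fun ha => hcon B ha.1 (RankOnePair_symm ha.2.2)⟩⟩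

theorem inf_eq_bot_or_eq (hS : IsRootSubgroupSet S) (hA : A ∈ S) (hn : ¬ IsIsolatedIn (FAdj S) S A)
    (hB : B ∈ S) : A ⊓ B = ⊥ ∨ A = B := by
  refine or_iff_not_imp_left.2 fun hne => ?_
  obtain ⟨C, hC, hAC⟩ := exists_partner_of_not_isolated hA hn
  obtain ⟨x, hxm, hx1⟩ := exists_mem_ne_one' hne
  obtain ⟨hxA, hxB⟩ := mem_inf.1 hxm
  have hxn : conjBy C x⁻¹ ≠ C := fun he =>
    hx1 (inv_eq_one.1 (eq_of_conjBy_eq_right hAC (inv_mem hxA) (one_mem A) (he.trans (conjBy_one C).symm)))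
  have hBC : IsRankOnePair B C := by
    by_contra hnot
    exact hxn (eq_of_commute_unipotent hAC
      (conjBy_mem_unipotentSubgroups (right_mem_unipotentSubgroups hAC) (inv_mem (mem_sup_left hxA)))
      (right_mem_unipotentSubgroups hAC) fun u hu v hv => commute_conj_of_not_rankOne hS hB hC hnot (inv_mem hxB) hu hv)
  obtain ⟨c, hc, -, hbc⟩ := hBC.cond_left x hxB hx1
  obtain ⟨c', hc', -, hac⟩ := hAC.cond_left x hxA hx1
  rw [← hac] at hbc
  have hBu : B ∈ unipotentSubgroups A C :=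
    ⟨c * c'⁻¹, mul_mem (mem_sup_right hc) (inv_mem (mem_sup_right hc')), by
      rw [conjBy_mul, ← hbc, conjBy_conjBy_inv]⟩
  by_contra hAB
  obtain ⟨a, ⟨-, -⟩, hu⟩ := existsUnique_conjBy hAC hBu hBu (Ne.symm hAB) (Ne.symm hAB)
  exact hx1 ((hu x ⟨hxA, conjBy_of_mem hxB⟩).trans (hu 1 ⟨one_mem A, conjBy_one B⟩).symm)
where
  exists_mem_ne_one' {H : Subgroup G} (h : H ≠ ⊥) : ∃ x ∈ H, x ≠ 1 := by
    by_contra hc
    push Not at hc
    exact h ((Subgroup.eq_bot_iff_forall H).2 hc)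

theorem centralizingMembers_zpowers (x : G) :
    centralizingMembers S (zpowers x) = {C | C ∈ S ∧ ∀ c ∈ C, c * x = x * c} := by
  ext C
  constructor
  · exact fun h => ⟨h.1, fun c hc => ((mem_centralizer_iff.1 (h.2 hc)) x (mem_zpowers x)).symm⟩
  · refine fun h => ⟨h.1, fun c hc => mem_centralizer_iff.2 ?_⟩
    rintro _ ⟨i, rfl⟩
    exact (Commute.zpow_left (h.2 c hc).symm i).eq

theorem FAdj_symm : Symmetric (FAdj S) := fun _ _ h => ⟨h.2.1, h.1, RankOnePair_symm h.2.2⟩

theorem fAdj_conj (hS : IsRootSubgroupSet S) {X Y : Subgroup G} (g : G)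
    (h : Relation.ReflTransGen (FAdj S) X Y) :
    Relation.ReflTransGen (FAdj S) (conjBy X g) (conjBy Y g) := by
  induction h with
  | refl => exact .refl
  | tail _ h' ih =>
    exact ih.tail ⟨hS.conj_mem _ h'.1 g, hS.conj_mem _ h'.2.1 g, isRankOnePair_conjBy h'.2.2 g⟩

theorem fAdj_rsymm {X Y : Subgroup G} (h : Relation.ReflTransGen (FAdj S) X Y) :
    Relation.ReflTransGen (FAdj S) Y X := by
  induction h with
  | refl => exact .refl
  | tail _ h' ih => exact Relation.ReflTransGen.head (FAdj_symm h') ih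

/-- A member conjugates every non-isolated member into its own component. -/
theorem reachable_conj (hS : IsRootSubgroupSet S) (hA : A ∈ S) (hC : C ∈ S) (hAC : IsRankOnePair A C)
    (hB : B ∈ S) {b : G} (hb : b ∈ B) : Relation.ReflTransGen (FAdj S) A (conjBy A b) := by
  rcases hS.pair A hA B hB with h | h | h
  · rw [conjBy_eq_self_iff.2 (centralizer_le_normalizer _ (mem_centralizer_iff.2 fun y hy =>
      commute_of_commutator_eq_bot h hy hb))]
  · have h1 : Relation.ReflTransGen (FAdj S) A B := .single ⟨hA, hB, h⟩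
    have h2 := fAdj_conj hS b h1
    rw [conjBy_of_mem hb] at h2
    exact h1.trans (fAdj_rsymm h2)
  set A' := conjBy A b with hA'def
  have hA' : A' ∈ S := hS.conj_mem A hA b
  by_cases hA'C : IsRankOnePair A' C
  · exact (Relation.ReflTransGen.single ⟨hA, hC, hAC⟩).tail ⟨hC, hA', RankOnePair_symm hA'C⟩
  set W := ⁅A, B⁆ with hWdef
  have hW : W ∈ S := h.1
  have hWb : conjBy W b = W := conjBy_eq_self_iff.2 (centralizer_le_normalizer _
    (mem_centralizer_iff.2 fun y hy => h.2.1 y hy b (mem_sup_right hb)))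
  obtain ⟨a, ha, ha1⟩ : ∃ a ∈ A, a ≠ 1 := by
    by_contra hc
    push Not at hc
    exact hS.ne_bot A hA ((Subgroup.eq_bot_iff_forall A).2 hc)
  set w := b * a * b⁻¹ * a⁻¹ with hwdef
  have hw : w ∈ W := by
    rw [hWdef, commutator_comm]
    exact commutator_mem_commutator hb ha
  have hwa : w * a ∈ A' := ⟨a, ha, by rw [hwdef, inv_mul_cancel_right]; rfl⟩
  set Ca := conjBy C a with hCa
  have hCaU : Ca ∈ unipotentSubgroups A C :=
    conjBy_mem_unipotentSubgroups (right_mem_unipotentSubgroups hAC) (mem_sup_left ha)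
  have hCaS : Ca ∈ S := hS.conj_mem C hC a
  have hCane : Ca ≠ C := fun he =>
    ha1 (eq_of_conjBy_eq_right hAC ha (one_mem A) (he.trans (conjBy_one C).symm))
  have hcomm : ∀ u ∈ conjBy Ca w, ∀ v ∈ C, u * v = v * u := fun u hu v hv => by
    rw [hCa, ← conjBy_mul] at hu
    exact commute_conj_of_not_rankOne hS hA' hC hA'C hwa hu hv
  rcases hS.pair W hW C hC with h1 | h1 | h1
  · exfalso
    apply hCane
    refine eq_of_commute_unipotent hAC hCaU (right_mem_unipotentSubgroups hAC) fun u hu v hv => ?_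
    have h2 := hcomm _ ⟨u, hu, rfl⟩ v hv
    have hwv : w * v = v * w := commute_of_commutator_eq_bot h1 hw hv
    have h3 : (w * u * w⁻¹) * v = v * (w * u * w⁻¹) := h2
    have h4 := congrArg (fun q => w⁻¹ * q * w) h3
    calc u * v = w⁻¹ * ((w * u * w⁻¹) * (w * v)) := by group
      _ = w⁻¹ * ((w * u * w⁻¹) * v * w) := by rw [hwv, ← mul_assoc (w * u * w⁻¹)]
      _ = w⁻¹ * (v * (w * u * w⁻¹) * w) := by rw [h3]
      _ = w⁻¹ * (v * w) * u := by group
      _ = v * u := by rw [← hwv]; group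
  · have h2 : Relation.ReflTransGen (FAdj S) A W :=
      (Relation.ReflTransGen.single ⟨hA, hC, hAC⟩).tail ⟨hC, hW, RankOnePair_symm h1⟩
    have h3 := fAdj_conj hS b h2
    rw [hWb] at h3
    exact h2.trans (fAdj_rsymm h3)
  set U := ⁅W, C⁆ with hUdef
  have hU : U ∈ S := h1.1
  set U' := conjBy U a with hU'def
  have hU'S : U' ∈ S := hS.conj_mem U hU a
  have hWa : conjBy W a = W := conjBy_eq_self_iff.2 (centralizer_le_normalizer _
    (mem_centralizer_iff.2 fun y hy => h.2.1 y hy a (mem_sup_left ha)))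
  have hU'eq : U' = ⁅W, Ca⁆ := by rw [hU'def, hUdef, map_commutator_conj, hWa, hCa]
  have hwU : ∀ y ∈ U, w * y = y * w := fun y hy => (h1.2.1 y hy w (mem_sup_left hw)).symm
  have hwa' : w * a = a * w := h.2.1 w hw a (mem_sup_left ha)
  have hwU' : ∀ y ∈ U', w * y = y * w := by
    rintro _ ⟨y, hy, rfl⟩
    show w * (a * y * a⁻¹) = a * y * a⁻¹ * w
    calc w * (a * y * a⁻¹) = (w * a) * y * a⁻¹ := by group
      _ = a * (w * y) * a⁻¹ := by rw [hwa']; group
      _ = a * (y * w) * a⁻¹ := by rw [hwU y hy]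
      _ = a * y * (w * a⁻¹) := by group
      _ = a * y * (a⁻¹ * w) := by rw [(Commute.inv_right (show Commute w a from hwa')).eq]
      _ = a * y * a⁻¹ * w := by group
  rcases hS.pair U' hU'S C hC with h2 | h2 | h2
  · exfalso
    apply hCane
    refine eq_of_commute_unipotent hAC hCaU (right_mem_unipotentSubgroups hAC) fun d hd v hv => ?_
    have hu : w * d * w⁻¹ * d⁻¹ ∈ U' := hU'eq ▸ commutator_mem_commutator hw hd
    have h3 : (w * d * w⁻¹) * v = v * (w * d * w⁻¹) := hcomm _ ⟨d, hd, rfl⟩ v hv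
    have h4 : (w * d * w⁻¹ * d⁻¹) * v = v * (w * d * w⁻¹ * d⁻¹) := commute_of_commutator_eq_bot h2 hu hv
    calc d * v = (w * d * w⁻¹ * d⁻¹)⁻¹ * ((w * d * w⁻¹) * v) := by group
      _ = (w * d * w⁻¹ * d⁻¹)⁻¹ * (v * (w * d * w⁻¹ * d⁻¹)) * d := by rw [h3]; group
      _ = v * d := by rw [← h4]; group
  · have hAa : conjBy A a = A := conjBy_of_mem ha
    have h3 : Relation.ReflTransGen (FAdj S) A U' :=
      (Relation.ReflTransGen.single ⟨hA, hC, hAC⟩).tail ⟨hC, hU'S, RankOnePair_symm h2⟩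
    by_cases hAU : IsRankOnePair A' U
    · have h4 := fAdj_conj hS a⁻¹ h3
      rw [hU'def, conjBy_inv_conjBy, conjBy_of_mem (inv_mem ha)] at h4
      exact h4.tail ⟨hU, hA', RankOnePair_symm hAU⟩
    exfalso
    have hUU' : ∀ u ∈ U', ∀ v ∈ U, u * v = v * u := by
      intro u hu v hv
      refine commute_conj_of_not_rankOne hS hA' hU hAU hwa ?_ hv
      have hUw : conjBy U w = U := conjBy_eq_self_iff.2 (centralizer_le_normalizer _
        (mem_centralizer_iff.2 fun y hy => (hwU y hy).symm))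
      rw [hwa', conjBy_mul, hUw]
      exact hu
    have hwC : conjBy C w = C := by
      obtain ⟨c, hc, hc1⟩ : ∃ c ∈ C, c ≠ 1 := by
        by_contra hcc
        push Not at hcc
        exact hS.ne_bot C hC ((Subgroup.eq_bot_iff_forall C).2 hcc)
      obtain ⟨u', hu', -, he⟩ := h2.cond_right c hc hc1
      have huc : w * c⁻¹ * w⁻¹ * c ∈ U := by
        have := commutator_mem_commutator (H₁ := W) (H₂ := C) hw (inv_mem hc)
        rw [commutatorElement_def, inv_inv] at this
        exact this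
      have hfixU' : conjBy U' w = U' := conjBy_eq_self_iff.2 (centralizer_le_normalizer _
        (mem_centralizer_iff.2 fun y hy => (hwU' y hy).symm))
      have hnorm : conjBy U' (w * c⁻¹ * w⁻¹) = conjBy U' c⁻¹ := by
        have h5 : conjBy (conjBy U' c⁻¹) (w * c⁻¹ * w⁻¹ * c) = conjBy U' c⁻¹ := by
          apply conjBy_eq_self_iff.2
          refine centralizer_le_normalizer _ (mem_centralizer_iff.2 ?_)
          rintro _ ⟨y, hy, rfl⟩
          show c⁻¹ * y * c⁻¹⁻¹ * (w * c⁻¹ * w⁻¹ * c) = w * c⁻¹ * w⁻¹ * c * (c⁻¹ * y * c⁻¹⁻¹)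
          have e1 : c * (w * c⁻¹ * w⁻¹ * c) = (w * c⁻¹ * w⁻¹ * c) * c :=
            (h1.2.1 _ huc c (mem_sup_right hc)).symm
          have e2 : y * (w * c⁻¹ * w⁻¹ * c) = (w * c⁻¹ * w⁻¹ * c) * y := hUU' y hy _ huc
          generalize w * c⁻¹ * w⁻¹ * c = u at e1 e2 ⊢
          have e1' : c⁻¹ * u = u * c⁻¹ := by
            rw [← (Commute.inv_left (show Commute c u from e1)).eq]
          rw [inv_inv, mul_assoc _ c u, e1, ← mul_assoc, mul_assoc c⁻¹ y u, e2, ← mul_assoc, e1']
          group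
        rw [← conjBy_mul, mul_inv_cancel_right] at h5
        exact h5
      have h6 : conjBy (conjBy C u'⁻¹) w = conjBy C u'⁻¹ := by
        rw [he, ← conjBy_mul]
        calc conjBy U' (w * c⁻¹) = conjBy (conjBy U' w) (w * c⁻¹ * w⁻¹) := by
              rw [← conjBy_mul U', inv_mul_cancel_right]
          _ = conjBy U' c⁻¹ := by rw [hfixU']; exact hnorm
      have h8 : w * u'⁻¹ = u'⁻¹ * w := hwU' _ (inv_mem hu')
      rw [← conjBy_mul, h8, conjBy_mul] at h6
      exact conjBy_injective h6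
    apply hS.ne_bot U hU
    rw [hUdef, eq_bot_iff, commutator_le]
    intro y hy z hz
    have hmU : y * z * y⁻¹ * z⁻¹ ∈ U := commutator_mem_commutator hy hz
    have hw1 : w ≠ 1 := by
      intro e
      rw [e, one_mul] at hwa
      apply hA'C
      rcases inf_eq_bot_or_eq hS hA (fun hi => (hi.2 C).1 ⟨hA, hC, hAC⟩) hA' with h9 | h9
      · exact absurd ((Subgroup.eq_bot_iff_forall _).1 h9 a (mem_inf.2 ⟨ha, hwa⟩)) ha1
      · rwa [← h9]
    have hsub : U ≤ C := by
      rw [hUdef, ← h1.2.2.1 w hw hw1, closure_le]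
      rintro _ ⟨q, hq, rfl⟩
      exact mul_mem ((mem_normalizer_iff.1 (conjBy_eq_self_iff.1 hwC) q).1 hq) (inv_mem hq)
    refine mem_bot.2 ((Subgroup.eq_bot_iff_forall _).1 (normalizer_inf_eq_bot' h2) _ (mem_inf.2 ⟨hsub hmU, ?_⟩))
    exact centralizer_le_normalizer _ (mem_centralizer_iff.2 fun v hv => hUU' v hv _ hmU)
  · exfalso
    apply hCane
    -- here `C` commutes with its conjugates under `C^a`
    obtain ⟨d, hd, hd1⟩ : ∃ d ∈ Ca, d ≠ 1 := by
      by_contra hcc
      push Not at hcc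
      exact hS.ne_bot Ca hCaS ((Subgroup.eq_bot_iff_forall Ca).2 hcc)
    by_contra hne
    have hu : w * d * w⁻¹ * d⁻¹ ∈ U' := hU'eq ▸ commutator_mem_commutator hw hd
    have hconjd : conjBy C d = conjBy C (w * d * w⁻¹ * d⁻¹)⁻¹ := by
      have h3 : conjBy C (w * d * w⁻¹) = C := conjBy_eq_self_iff.2 (centralizer_le_normalizer _
        (mem_centralizer_iff.2 fun v hv => (hcomm _ ⟨d, hd, rfl⟩ v hv).symm))
      calc conjBy C d = conjBy C ((w * d * w⁻¹ * d⁻¹)⁻¹ * (w * d * w⁻¹)) := by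
            congr 1; group
        _ = _ := by rw [conjBy_mul, h3]
    have he : conjBy C d = C := eq_of_commute_unipotent hAC
      (conjBy_mem_unipotentSubgroups (right_mem_unipotentSubgroups hAC) (unipotent_subgroup_le hCaU hd))
      (right_mem_unipotentSubgroups hAC) fun u hu' v hv =>
        commute_conj_of_not_rankOne hS hU'S hC (fun hr => commutator_case_not_rankOne hS hC h2 hr) (inv_mem hu) (hconjd ▸ hu') hv
    obtain ⟨x, hx, hx1, hx2⟩ := two_transitive hAC self_mem_unipotentSubgroups (right_mem_unipotentSubgroups hAC)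
      hCaU (right_mem_unipotentSubgroups hAC) hAC.ne hne
    have hr : IsRankOnePair Ca C := hx1 ▸ hx2 ▸ isRankOnePair_conjBy hAC x
    exact hd1 ((Subgroup.eq_bot_iff_forall _).1 (normalizer_inf_eq_bot hr) d (mem_inf.2 ⟨hd, conjBy_eq_self_iff.1 he⟩))
where
  commutator_case_not_rankOne (hS : IsRootSubgroupSet S) {P Q : Subgroup G} (hQ : Q ∈ S)
      (h : RootCommutatorCase S P Q) (hr : IsRankOnePair P Q) : False := by
    obtain ⟨p, hp, hp1⟩ : ∃ p ∈ P, p ≠ 1 := by
      by_contra hcc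
      push Not at hcc
      exact left_ne_bot hr ((Subgroup.eq_bot_iff_forall P).2 hcc)
    refine hp1 (eq_of_conjBy_eq_right hr hp (one_mem P) ?_)
    rw [conjBy_one]
    refine eq_of_commute_unipotent hr (conjBy_mem_unipotentSubgroups (right_mem_unipotentSubgroups hr) (mem_sup_left hp))
      (right_mem_unipotentSubgroups hr) ?_
    rintro _ ⟨q, hq, rfl⟩ v hv
    refine centralize_commutator_sup hS hQ h hv ?_
    have : MulAut.conj p q = (p * q * p⁻¹ * q⁻¹) * q := by simp [mul_assoc]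
    show MulAut.conj p q ∈ _
    rw [this]
    exact mul_mem (mem_sup_left (commutator_mem_commutator hp hq)) (mem_sup_right hq)

theorem connected_of_class (hS : IsRootSubgroupSet S) (hcl : IsConjClassOfSubgroups S)
    (hex : ∃ A ∈ S, ¬ IsIsolatedIn (FAdj S) S A) : IsConnectedFamily (FAdj S) S := by
  obtain ⟨A₀, hA₀, hn⟩ := hex
  obtain ⟨C₀, hC₀, hAC₀⟩ := exists_partner_of_not_isolated hA₀ hn
  have hpartner : ∀ A ∈ S, ∃ C ∈ S, IsRankOnePair A C := by
    intro A hA
    obtain ⟨g, rfl⟩ := hcl.2 A₀ hA₀ A hA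
    exact ⟨conjBy C₀ g, hS.conj_mem C₀ hC₀ g, isRankOnePair_conjBy hAC₀ g⟩
  have hmem : ∀ g : G, ∀ A ∈ S, Relation.ReflTransGen (FAdj S) A (conjBy A g) := by
    intro g
    have hg : g ∈ (⨆ A ∈ S, A : Subgroup G) := hS.generates ▸ mem_top g
    have hle : (⨆ A ∈ S, A : Subgroup G) = closure (⋃ A ∈ S, (A : Set G)) := by
      apply le_antisymm
      · exact iSup₂_le fun A hA x hx => subset_closure (Set.mem_biUnion hA hx)
      · rw [closure_le]
        exact Set.iUnion₂_subset fun A hA => SetLike.coe_subset_coe.2 (le_iSup₂_of_le A hA le_rfl)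
    rw [hle] at hg
    induction hg using closure_induction with
    | mem x hx =>
      intro A hA
      obtain ⟨B, hB, hxB⟩ := Set.mem_iUnion₂.1 hx
      obtain ⟨C, hC, hAC⟩ := hpartner A hA
      exact reachable_conj hS hA hC hAC hB hxB
    | one => intro A _; rw [conjBy_one]
    | mul x y _ _ ihx ihy =>
      intro A hA
      rw [conjBy_mul]
      exact (ihy A hA).trans (ihx _ (hS.conj_mem A hA y))
    | inv x _ ih =>
      intro A hA
      have := ih _ (hS.conj_mem A hA x⁻¹)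
      rw [conjBy_conjBy_inv] at this
      exact fAdj_rsymm this
  intro A hA B hB
  obtain ⟨g, rfl⟩ := hcl.2 A hA B hB
  exact hmem g A hA

theorem isConjClass_of_connected (hS : IsRootSubgroupSet S) (hne : S.Nonempty)
    (hc : IsConnectedFamily (FAdj S) S) : IsConjClassOfSubgroups S := by
  refine ⟨hne, fun A hA B hB => ?_⟩
  induction hc A hA B hB with
  | refl => exact ⟨1, (conjBy_one A).symm⟩
  | @tail X Y _ hXY ih =>
    obtain ⟨g, rfl⟩ := ih hXY.1
    obtain ⟨x, -, hx⟩ := right_mem_unipotentSubgroups hXY.2.2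
    exact ⟨x * g, by rw [hx, conjBy_mul]⟩

end CfsgLib.RankOne
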