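import Cfsg.Agent.Lib.RootSubgroups.PerfectPair
import Cfsg.Agent.Lib.RootSubgroups.RootSet
import Cfsg.Agent.Lib.RootSubgroups.Restrict
import Cfsg.Agent.Lib.Cores.Components

/-!
Quasisimplicity of a group generated by a connected set of abstract root subgroups.
-/

set_option autoImplicit false

namespace CfsgLib.RootQuasisimple

open Cfsg Subgroup CfsgLib.RankOne

variable {G : Type*} [Group G] {S : Set (Subgroup G)}

theorem exists_partner (hc : IsConnectedFamily (FAdj S) S) (h2 : ∃ A ∈ S, ∃ B ∈ S, A ≠ B) {A : Subgroup G}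
    (hA : A ∈ S) : ∃ B ∈ S, IsRankOnePair A B := by
  obtain ⟨P, hP, Q, hQ, hne⟩ := h2
  obtain ⟨Y, hY, hAY⟩ : ∃ Y ∈ S, A ≠ Y := by
    by_cases h : A = P
    · exact ⟨Q, hQ, h ▸ hne⟩
    · exact ⟨P, hP, h⟩
  rcases Relation.ReflTransGen.cases_head (hc A hA Y hY) with e | ⟨B, hB, -⟩
  · exact absurd e hAY
  · exact ⟨B, hB.2.1, hB.2.2⟩

theorem le_of_member (hS : IsRootSubgroupSet S) (hcl : IsConjClassOfSubgroups S) {N : Subgroup G} [N.Normal]
    {D : Subgroup G} (hD : D ∈ S) (hle : D ≤ N) : N = ⊤ := by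
  rw [eq_top_iff, ← hS.generates]
  refine iSup₂_le fun A hA => ?_
  obtain ⟨g, rfl⟩ := hcl.2 D hD A hA
  rintro _ ⟨d, hd, rfl⟩
  exact ‹N.Normal›.conj_mem d (hle hd) g

/-- In a rank one pair commuting modulo a normal subgroup, one member is congruent into the other. -/
theorem congr_pair (hS : IsRootSubgroupSet S) {N : Subgroup G} [N.Normal] {U V : Subgroup G}
    (h : IsRankOnePair U V) (hU : U ∈ S) (hle : ⁅U, V⁆ ≤ N) : V ≤ N ⊔ U := by
  have hX := CfsgLib.RankOneRestrict.isRankOneGroup_sup h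
  rcases normal_sup_eq_top_or_le_center hX (N.subgroupOf (U ⊔ V)) with ht | hz
  · have := congrArg (Subgroup.map (U ⊔ V).subtype) ht
    rw [Subgroup.map_sup, subgroupOf_map_subtype, Subgroup.map_subgroupOf_eq_of_le le_sup_left,
      ← MonoidHom.range_eq_map, Subgroup.range_subtype] at this
    exact le_sup_right.trans (this.ge.trans (sup_le_sup_right inf_le_left _))
  · exfalso
    obtain ⟨v, hv, hv1⟩ : ∃ v ∈ V, v ≠ 1 := (V.bot_or_exists_ne_one).resolve_left (right_ne_bot h)
    have hcomm : ∀ u ∈ conjBy U v, ∀ w ∈ U, u * w = w * u := by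
      rintro _ ⟨u, hu, rfl⟩ w hw
      have hc : u * v * u⁻¹ * v⁻¹ ∈ N := hle (commutator_mem_commutator hu hv)
      have hmem : u * v * u⁻¹ * v⁻¹ ∈ U ⊔ V := mul_mem (mul_mem (mul_mem (mem_sup_left hu) (mem_sup_right hv))
        (mem_sup_left (inv_mem hu))) (mem_sup_right (inv_mem hv))
      have hz' : Commute w (u * v * u⁻¹ * v⁻¹) := congrArg Subtype.val (Subgroup.mem_center_iff.1
        (hz (x := ⟨_, hmem⟩) (Subgroup.mem_subgroupOf.2 hc)) ⟨w, mem_sup_left hw⟩)
      show v * u * v⁻¹ * w = w * (v * u * v⁻¹)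
      have huw : Commute w u := CfsgLib.RankOne.member_comm hS hU hw hu
      rw [show v * u * v⁻¹ = (u * v * u⁻¹ * v⁻¹)⁻¹ * u by group]
      exact (hz'.inv_right.mul_right huw).eq.symm
    have he : conjBy U v = U := eq_of_commute_unipotent h
      (conjBy_mem_unipotentSubgroups self_mem_unipotentSubgroups (mem_sup_right hv)) self_mem_unipotentSubgroups
      hcomm
    exact hv1 ((Subgroup.eq_bot_iff_forall _).1 (normalizer_inf_eq_bot' h) v ⟨hv, conjBy_eq_self_iff.1 he⟩)

theorem map_le_of_le_sup {N U V : Subgroup G} [N.Normal] (h : V ≤ N ⊔ U) :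
    V.map (QuotientGroup.mk' N) ≤ U.map (QuotientGroup.mk' N) := by
  refine (Subgroup.map_mono h).trans ?_
  rw [Subgroup.map_sup, QuotientGroup.map_mk'_self, bot_sup_eq]

theorem map_commutator_eq_bot {N U V : Subgroup G} [N.Normal] :
    ⁅U.map (QuotientGroup.mk' N), V.map (QuotientGroup.mk' N)⁆ = ⊥ ↔ ⁅U, V⁆ ≤ N := by
  rw [← Subgroup.map_commutator, Subgroup.map_eq_bot_iff, QuotientGroup.ker_mk']

/-- A normal subgroup is central or everything. -/
theorem normal_cases (hS : IsRootSubgroupSet S) (hcl : IsConjClassOfSubgroups S)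
    (hrad : ∀ N : Subgroup G, N.Normal →
      (∀ A ∈ S, ∀ n ∈ N, centralizingMembers S (conjBy A n) = centralizingMembers S A) →
      ∀ A ∈ S, ∀ n ∈ N, conjBy A n = A)
    (hperf : (∀ A ∈ S, ∀ B ∈ rankOnePartners S A, A ⊔ B ≤ ⁅A ⊔ B, A ⊔ B⁆) ∨
      ∃ P ∈ S, ∃ Q ∈ S, RootCommutatorCase S P Q)
    (hp : ∀ A ∈ S, ∃ B ∈ S, IsRankOnePair A B)
    (N : Subgroup G) [hN : N.Normal] : N ≤ center G ∨ N = ⊤ := by
  by_cases hfix : ∀ A ∈ S, ∀ n ∈ N, conjBy A n = A
  · left
    intro n hn
    rw [← Subgroup.centralizer_univ, ← Subgroup.coe_top, ← hS.generates, mem_centralizer_iff]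
    have hle : (⨆ A ∈ S, A) ≤ centralizer ({n} : Set G) := by
      refine iSup₂_le fun A hA a ha => mem_centralizer_singleton_iff.2 ?_
      obtain ⟨B, hB, hAB⟩ := hp A hA
      have h1 : a * n * a⁻¹ * n⁻¹ ∈ A := by
        rw [mul_assoc a n, mul_assoc a]
        exact mul_mem ha ((mem_normalizer_iff.1 (conjBy_eq_self_iff.1 (hfix A hA n hn)) _).1 (inv_mem ha))
      have h2 : a * n * a⁻¹ * n⁻¹ ∈ N := mul_mem (hN.conj_mem n hn a) (inv_mem hn)
      have h3 : a * n * a⁻¹ * n⁻¹ ∈ (⊥ : Subgroup G) :=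
        normalizer_inf_eq_bot hAB ▸ ⟨h1, conjBy_eq_self_iff.1 (hfix B hB _ h2)⟩
      rw [mem_bot, mul_inv_eq_one, mul_inv_eq_iff_eq_mul] at h3
      exact h3
    intro m hm
    exact mem_centralizer_singleton_iff.1 (hle hm)
  · by_contra hno
    rw [not_or] at hno
    have hnt : ∀ D ∈ S, ¬ D ≤ N := fun D hD hle => hno.2 (le_of_member hS hcl hD hle)
    have hr1 : ∀ U ∈ S, ∀ V ∈ S, ⁅U, V⁆ ≠ ⊥ → ⁅U, V⁆ ≤ N → IsRankOnePair U V := by
      intro U hU V hV hne hle
      rcases hS.pair U hU V hV with h | h | h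
      · exact absurd h hne
      · exact h
      · exact absurd hle (hnt _ h.1)
    have hget : ∀ A ∈ S, ∀ C ∈ S, ∀ n ∈ N, C ≤ centralizer (A : Set G) →
        ¬ C ≤ centralizer ((conjBy A n : Subgroup G) : Set G) →
        ∃ U ∈ S, ∃ V ∈ S, IsRankOnePair U V ∧ ⁅U, V⁆ ≤ N := by
      intro A hA C hC n hn hCA hCn
      have hle : ⁅C, conjBy A n⁆ ≤ N := by
        have h1 : QuotientGroup.mk' N n = 1 := (QuotientGroup.eq_one_iff n).2 hn
        have hmap : (conjBy A n).map (QuotientGroup.mk' N) ≤ A.map (QuotientGroup.mk' N) := by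
          rintro _ ⟨_, ⟨a, ha, rfl⟩, rfl⟩
          refine ⟨a, ha, ?_⟩
          show QuotientGroup.mk' N a = QuotientGroup.mk' N (n * a * n⁻¹)
          rw [map_mul, map_mul, map_inv, h1, one_mul, inv_one, mul_one]
        rw [← map_commutator_eq_bot, eq_bot_iff]
        refine (commutator_mono le_rfl hmap).trans ?_
        rw [← Subgroup.map_commutator, commutator_eq_bot_iff_le_centralizer.2 hCA, Subgroup.map_bot]
      exact ⟨C, hC, _, hS.conj_mem A hA n,
        hr1 C hC _ (hS.conj_mem A hA n) (fun e => hCn (commutator_eq_bot_iff_le_centralizer.1 e)) hle, hle⟩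
    obtain ⟨U, hU, V, hV, hUV, hle⟩ : ∃ U ∈ S, ∃ V ∈ S, IsRankOnePair U V ∧ ⁅U, V⁆ ≤ N := by
      by_contra hex
      refine hfix (hrad N hN fun A hA n hn => ?_)
      by_contra hne
      apply hex
      by_cases hs : centralizingMembers S A ⊆ centralizingMembers S (conjBy A n)
      · have hs' : ¬ centralizingMembers S (conjBy A n) ⊆ centralizingMembers S A := fun h =>
          hne (h.antisymm hs)
        obtain ⟨C, hC, hCA⟩ := Set.not_subset.1 hs'
        exact hget _ (hS.conj_mem A hA n) C hC.1 n⁻¹ (inv_mem hn) hC.2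
          (by rw [conjBy_inv_conjBy]; exact fun h => hCA ⟨hC.1, h⟩)
      · obtain ⟨C, hC, hCA⟩ := Set.not_subset.1 hs
        exact hget A hA C hC.1 n hn hC.2 fun h => hCA ⟨hC.1, h⟩
    rcases hperf with hperf | ⟨P, hP, Q, hQ, hPQ⟩
    · refine hnt U hU (le_sup_left.trans ((hperf U hU V ⟨hV, hUV⟩).trans ?_))
      have hVU := congr_pair hS hUV hU hle
      rw [← map_commutator_eq_bot]
      have hbot : ⁅U.map (QuotientGroup.mk' N), U.map (QuotientGroup.mk' N)⁆ = ⊥ := by
        rw [map_commutator_eq_bot, (commutator_eq_bot_iff_le_centralizer (H₁ := U) (H₂ := U)).2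
          (fun a ha => mem_centralizer_iff.2 fun b hb => member_comm hS hU hb ha)]
        exact bot_le
      rw [eq_bot_iff, ← hbot]
      have : (U ⊔ V).map (QuotientGroup.mk' N) ≤ U.map (QuotientGroup.mk' N) := by
        rw [Subgroup.map_sup]
        exact sup_le le_rfl (map_le_of_le_sup hVU)
      exact commutator_mono this this
    · have hD := hPQ.1
      obtain ⟨g, hg⟩ := hcl.2 U hU _ hD
      set R := conjBy V g with hRdef
      have hR : R ∈ S := hS.conj_mem V hV g
      have hDR : IsRankOnePair ⁅P, Q⁆ R := hg ▸ isRankOnePair_conjBy hUV g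
      have hRle : ⁅⁅P, Q⁆, R⁆ ≤ N := by
        rw [hg, hRdef, ← map_commutator_conj]
        rintro _ ⟨x, hx, rfl⟩
        exact hN.conj_mem x (hle hx) g
      have hRD : R.map (QuotientGroup.mk' N) ≤ (⁅P, Q⁆).map (QuotientGroup.mk' N) :=
        map_le_of_le_sup (congr_pair hS hDR hD hRle)
      have hcP : ∀ Y : Subgroup G, Y ≤ P ⊔ Q → ⁅⁅P, Q⁆, Y⁆ = ⊥ := fun Y hY =>
        commutator_eq_bot_iff_le_centralizer.2 fun c hc => mem_centralizer_iff.2 fun y hy =>
          (hPQ.2.1 c hc y (hY hy)).symm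
      have hcase : ∀ Y ∈ S, ∀ Z ∈ S, Y ≤ P ⊔ Q → Z ≤ P ⊔ Q → ⁅Y, Z⁆ = ⁅P, Q⁆ → ⁅Y, R⁆ = ⊥ := by
        intro Y hY Z _ hYle hZle hYZ
        by_contra hYR
        have hle' : ⁅Y, R⁆ ≤ N := by
          rw [← map_commutator_eq_bot, eq_bot_iff]
          refine (commutator_mono le_rfl hRD).trans ?_
          rw [← Subgroup.map_commutator, commutator_comm, hcP Y hYle, Subgroup.map_bot]
        have hYR' := hr1 Y hY R hR hYR hle'
        have hYD : Y.map (QuotientGroup.mk' N) ≤ (⁅P, Q⁆).map (QuotientGroup.mk' N) :=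
          (map_le_of_le_sup (congr_pair hS (RankOnePair_symm hYR') hR
            (by rw [commutator_comm]; exact hle'))).trans hRD
        refine hnt _ hD ?_
        rw [← hYZ, ← map_commutator_eq_bot, eq_bot_iff]
        refine (commutator_mono hYD le_rfl).trans ?_
        rw [← Subgroup.map_commutator, hcP Z hZle, Subgroup.map_bot]
      have hPR := hcase P hP Q hQ le_sup_left le_sup_right rfl
      have hQR := hcase Q hQ P hP le_sup_right le_sup_left (commutator_comm Q P)
      refine commutator_ne_bot_of_isRankOnePair hDR ?_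
      rw [commutator_eq_bot_iff_le_centralizer] at hPR hQR ⊢
      refine (commutator_le.2 fun p hp' q hq => ?_)
      exact mul_mem (mul_mem (mul_mem (hPR hp') (hQR hq)) (inv_mem (hPR hp'))) (inv_mem (hQR hq))

/-- The group is perfect and quasisimple; the condition on normal subgroups replaces the usual requirement that
different members have different sets of commuting members. -/
theorem quasisimple_core (hS : IsRootSubgroupSet S) (h2 : ∃ A ∈ S, ∃ B ∈ S, A ≠ B)
    (h1 : IsConnectedFamily (FAdj S) S)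
    (hrad : ∀ N : Subgroup G, N.Normal →
      (∀ A ∈ S, ∀ n ∈ N, centralizingMembers S (conjBy A n) = centralizingMembers S A) →
      ∀ A ∈ S, ∀ n ∈ N, conjBy A n = A)
    (h3 : IsDegenerateRootSet S → ∀ A ∈ S, 3 < ENat.card A)
    (h4 : ∀ A ∈ S, ∀ B ∈ rankOnePartners S A, IsSpecialRankOnePair A B) :
    _root_.commutator G = ⊤ ∧ IsQuasisimple G := by
  have hp : ∀ A ∈ S, ∃ B ∈ S, IsRankOnePair A B := fun A hA => exists_partner h1 h2 hA
  have hne : S.Nonempty := let ⟨A, hA, _⟩ := h2; ⟨A, hA⟩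
  have hcl := isConjClass_of_connected hS hne h1
  have hperf : (∀ A ∈ S, ∀ B ∈ rankOnePartners S A, A ⊔ B ≤ ⁅A ⊔ B, A ⊔ B⁆) ∨
      ∃ P ∈ S, ∃ Q ∈ S, RootCommutatorCase S P Q := by
    by_cases hd : IsDegenerateRootSet S
    · exact Or.inl fun A hA B hB => CfsgLib.RankOnePerfect.sup_le_commutator (h4 A hA B hB) (h3 hd A hA)
    · unfold IsDegenerateRootSet at hd
      push Not at hd
      exact Or.inr hd
  have htop : commutator G = ⊤ := by
    rcases hperf with h | ⟨P, hP, Q, hQ, hPQ⟩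
    · rw [eq_top_iff, ← hS.generates]
      refine iSup₂_le fun A hA => ?_
      obtain ⟨B, hB, hAB⟩ := hp A hA
      rw [_root_.commutator_def]
      exact le_sup_left.trans ((h A hA B ⟨hB, hAB⟩).trans (commutator_mono le_top le_top))
    · refine le_of_member hS hcl hPQ.1 ?_
      rw [_root_.commutator_def]
      exact commutator_mono le_top le_top
  have hnc : center G ≠ ⊤ := by
    intro hc
    obtain ⟨A, hA⟩ := hne
    obtain ⟨B, -, hAB⟩ := hp A hA
    apply commutator_ne_bot_of_isRankOnePair hAB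
    rw [commutator_eq_bot_iff_le_centralizer]
    exact fun a _ => mem_centralizer_iff.2 fun b _ => Subgroup.mem_center_iff.1 (hc ▸ mem_top a) b
  have hq : IsQuasisimple G := by
    refine ⟨⟨htop⟩, ?_⟩
    have : Nontrivial (G ⧸ center G) :=
      not_subsingleton_iff_nontrivial.1 fun hs => hnc (QuotientGroup.subsingleton_iff.1 hs)
    refine ⟨fun M hM => ?_⟩
    have hs := QuotientGroup.mk'_surjective (center G)
    rcases normal_cases hS hcl hrad hperf hp (M.comap (QuotientGroup.mk' (center G))) with hz | ht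
    · left
      rw [eq_bot_iff, ← Subgroup.map_comap_eq_self_of_surjective hs M]
      rintro _ ⟨x, hx, rfl⟩
      exact Subgroup.mem_bot.2 ((QuotientGroup.eq_one_iff x).2 (hz hx))
    · right
      rw [← Subgroup.map_comap_eq_self_of_surjective hs M, ht, Subgroup.map_top_of_surjective _ hs]
  exact ⟨htop, hq⟩

end CfsgLib.RootQuasisimple
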