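import Cfsg.Agent.S5016
import Cfsg.Agent.Lib.RootSubgroups.RootSet

/-!
Rank one pairs coming from embeddings of `SL₂`, and symmetry of the commutator case.
-/

set_option autoImplicit false

namespace CfsgLib.RootSubgroups.SL2Pair

open Cfsg

variable {G : Type*} [Group G] {k : Type*} [Field k]

/-- An injective homomorphism carries rank one pairs to rank one pairs. -/
theorem isRankOnePair_map {H : Type*} [Group H] (φ : H →* G) (hφ : Function.Injective φ) {A B : Subgroup H}
    (h : IsRankOnePair A B) : IsRankOnePair (A.map φ) (B.map φ) := by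
  have hc : ∀ (C : Subgroup H) (g : H), conjBy (C.map φ) (φ g) = (conjBy C g).map φ := by
    intro C g
    simp only [conjBy, Subgroup.map_map]
    congr 1
    ext x
    simp
  have key : ∀ A B : Subgroup H, RankOneCondition A B → RankOneCondition (A.map φ) (B.map φ) := by
    intro A B hAB
    rintro _ ⟨a, ha, rfl⟩ ha1
    obtain ⟨b, hb, hb1, he⟩ := hAB a ha (fun e => ha1 (by rw [e, map_one]))
    exact ⟨φ b, Subgroup.mem_map_of_mem φ hb, fun e => hb1 (hφ (e.trans (map_one φ).symm)),
      by rw [← map_inv, ← map_inv, hc, hc, he]⟩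
  exact ⟨fun e => h.ne (Subgroup.map_injective hφ e),
    (haveI := h.nilpotent_left; Group.nilpotent_of_mulEquiv (Subgroup.equivMapOfInjective A φ hφ)),
    (haveI := h.nilpotent_right; Group.nilpotent_of_mulEquiv (Subgroup.equivMapOfInjective B φ hφ)),
    key A B h.cond_left, key B A h.cond_right⟩

/-- An embedding of `SL₂` gives a rank one pair over `k`. -/
theorem pair_of_embedding (φ : Matrix.SpecialLinearGroup (Fin 2) k →* G) (hφ : Function.Injective φ)
    {A B : Subgroup G} (hA : (upperUnipotentSL2 k).map φ = A) (hB : (lowerUnipotentSL2 k).map φ = B) :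
    IsRankOnePair A B ∧ IsPSL2PairOver k A B := by
  refine ⟨?_, φ, ?_, ?_, hA, hB⟩
  · rw [← hA, ← hB]
    refine isRankOnePair_map φ hφ (RankOnePair_symm ?_)
    rw [Cfsg.Agent.S5016.lower_eq, Cfsg.Agent.S5016.upper_eq]
    exact Cfsg.Agent.S5016.pair k
  · rw [← hA, ← hB, ← Subgroup.map_sup, sup_comm, Cfsg.Agent.S5016.lower_eq, Cfsg.Agent.S5016.upper_eq,
      Cfsg.Agent.S5016.sup_eq_top k, MonoidHom.range_eq_map]
  · rw [(MonoidHom.ker_eq_bot_iff φ).2 hφ]
    exact bot_le

/-- The commutator case is symmetric. -/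
theorem commutatorCase_symm {S : Set (Subgroup G)} {A B : Subgroup G} (h : RootCommutatorCase S A B) :
    RootCommutatorCase S B A := by
  obtain ⟨h1, h2, h3, h4⟩ := h
  have key : ∀ (P : Set G) (f g : G → G), (∀ x, g x = (f x)⁻¹) →
      Subgroup.closure (g '' P) = Subgroup.closure (f '' P) := by
    intro P f g hfg
    apply le_antisymm <;> rw [Subgroup.closure_le] <;> rintro _ ⟨x, hx, rfl⟩
    · rw [hfg]
      exact inv_mem (Subgroup.subset_closure ⟨x, hx, rfl⟩)
    · rw [show f x = (g x)⁻¹ by rw [hfg, inv_inv]]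
      exact inv_mem (Subgroup.subset_closure ⟨x, hx, rfl⟩)
  refine ⟨by rwa [Subgroup.commutator_comm], fun c hc x hx => h2 c (by rwa [Subgroup.commutator_comm]) x (by rwa [sup_comm]),
    fun b hb hb1 => ?_, fun a ha ha1 => ?_⟩ <;> rw [Subgroup.commutator_comm]
  · rw [← h4 b hb hb1]
    exact key _ _ _ fun x => by group
  · rw [← h3 a ha ha1]
    exact key _ _ _ fun x => by group

/-- The commutator case is not a rank one pair. -/
theorem not_rankOne_of_commutatorCase {S : Set (Subgroup G)} (hS : IsRootSubgroupSet S) {A B : Subgroup G}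
    (hB : B ∈ S) (h : RootCommutatorCase S A B) : ¬ IsRankOnePair A B :=
  CfsgLib.RankOne.reachable_conj.commutator_case_not_rankOne hS hB h

end CfsgLib.RootSubgroups.SL2Pair
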