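import Cfsg.Agent.Lib.RootSubgroups.SL2Pair

/-!
The commutator case in a set of abstract root subgroups: the partition of `A ⊔ ⁅A, B⁆`.
-/

set_option autoImplicit false

namespace CfsgLib.RootLine

open scoped commutatorElement
open Subgroup Cfsg CfsgLib.RankOne CfsgLib.RootSubgroups.SL2Pair

variable {G : Type*} [Group G] {S : Set (Subgroup G)} {A B D R : Subgroup G}

theorem exists_ne_one {A : Subgroup G} (h : A ≠ ⊥) : ∃ a ∈ A, a ≠ 1 := by
  by_contra hc
  push Not at hc
  exact h ((Subgroup.eq_bot_iff_forall A).2 hc)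

theorem conjBy_le_iff {A : Subgroup G} {g : G} {H : Subgroup G} :
    conjBy A g ≤ H ↔ ∀ x ∈ A, g * x * g⁻¹ ∈ H :=
  ⟨fun h x hx => h ⟨x, hx, rfl⟩, fun h => by rintro _ ⟨x, hx, rfl⟩; exact h x hx⟩

theorem commutator_invariant (hS : IsRootSubgroupSet S) (hA : A ∈ S) (B : Subgroup G) {a : G} (ha : a ∈ A) :
    conjBy ⁅A, B⁆ a = ⁅A, B⁆ := by
  have key : ∀ a ∈ A, conjBy ⁅A, B⁆ a ≤ ⁅A, B⁆ := by
    intro a ha
    rw [map_commutator_conj, conjBy_of_mem ha, commutator_le]
    rintro a' ha' _ ⟨b, hb, rfl⟩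
    have e : ⁅a', (MulAut.conj a).toMonoidHom b⁆ = ⁅a' * a, b⁆ * ⁅a, b⁆⁻¹ := by
      have h1 : a⁻¹ * a'⁻¹ * a = a'⁻¹ := by
        rw [mul_assoc, member_comm hS hA (inv_mem ha') ha, inv_mul_cancel_left]
      have h2 : a' * a * a'⁻¹ = a := by rw [member_comm hS hA ha' ha, mul_inv_cancel_right]
      calc ⁅a', (MulAut.conj a).toMonoidHom b⁆ = a' * a * b * (a⁻¹ * a'⁻¹ * a) * b⁻¹ * a⁻¹ := by
            simp [commutatorElement_def, mul_assoc]
        _ = (a' * a) * b * (a' * a)⁻¹ * b⁻¹ * (b * (a' * a * a'⁻¹) * b⁻¹ * a⁻¹) := by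
            rw [h1]; group
        _ = ⁅a' * a, b⁆ * ⁅a, b⁆⁻¹ := by
            rw [h2, commutatorElement_def, commutatorElement_def]; group
    rw [e]
    exact mul_mem (commutator_mem_commutator (mul_mem ha' ha) hb) (inv_mem (commutator_mem_commutator ha hb))
  refine le_antisymm (key a ha) ?_
  intro x hx
  exact mem_conjBy.2 (by
    have := key a⁻¹ (inv_mem ha) (Subgroup.mem_map_of_mem _ hx)
    simpa [mul_assoc] using this)

/-- If the commutator of two members is a member, they are in the commutator case. -/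
theorem commCase (hS : IsRootSubgroupSet S) (hA : A ∈ S) (hB : B ∈ S) (hC : ⁅A, B⁆ ∈ S) :
    RootCommutatorCase S A B := by
  rcases hS.pair A hA B hB with h | h | h
  · exact absurd h (hS.ne_bot _ hC)
  · exfalso
    set C := ⁅A, B⁆ with hCdef
    have hnA : ∀ a ∈ A, conjBy C a = C := fun a ha => commutator_invariant hS hA B ha
    have hnB : ∀ b ∈ B, conjBy C b = C := fun b hb => by
      rw [hCdef, commutator_comm A B]; exact commutator_invariant hS hB A hb
    -- `C` centralises both members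
    have key : ∀ P Q : Subgroup G, P ∈ S → IsRankOnePair P Q → C ≤ P ⊔ Q → (∀ p ∈ P, conjBy C p = C) →
        ∀ c ∈ C, conjBy P c = P := by
      intro P Q hP hPQ hle hfix c hc
      have hCP : ¬ IsRankOnePair C P := fun hr => by
        obtain ⟨p, hp, hp1⟩ := exists_ne_one (hS.ne_bot P hP)
        exact hp1 ((Subgroup.eq_bot_iff_forall _).1 (normalizer_inf_eq_bot' hr) p
          ⟨hp, conjBy_eq_self_iff.1 (hfix p hp)⟩)
      exact eq_of_commute_unipotent hPQ (conjBy_mem_unipotentSubgroups self_mem_unipotentSubgroups (hle hc))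
        self_mem_unipotentSubgroups fun u hu v hv => commute_conj_of_not_rankOne hS hC hP hCP hc hu hv
    have hle : C ≤ A ⊔ B := (Subgroup.commutator_le).2 fun a ha b hb =>
      mul_mem (mul_mem (mul_mem (mem_sup_left ha) (mem_sup_right hb)) (inv_mem (mem_sup_left ha)))
        (inv_mem (mem_sup_right hb))
    have hA' := key A B hA h hle hnA
    have hB' := key B A hB (RankOnePair_symm h) (sup_comm A B ▸ hle) hnB
    have hcent : ∀ c ∈ C, ∀ a ∈ A, c * a = a * c := by
      intro c hc a ha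
      have h1 : c * a * c⁻¹ * a⁻¹ ∈ A :=
        mul_mem ((mem_normalizer_iff.1 (conjBy_eq_self_iff.1 (hA' c hc)) a).1 ha) (inv_mem ha)
      have h2 : c * a * c⁻¹ * a⁻¹ ∈ C := by
        rw [mul_assoc c a, mul_assoc c]
        exact mul_mem hc ((mem_normalizer_iff.1 (conjBy_eq_self_iff.1 (hnA a ha)) _).1 (inv_mem hc))
      have h3 := (Subgroup.eq_bot_iff_forall _).1 (normalizer_inf_eq_bot h) _
        ⟨h1, conjBy_eq_self_iff.1 (hB' _ h2)⟩
      rw [mul_inv_eq_one, mul_inv_eq_iff_eq_mul] at h3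
      exact h3
    obtain ⟨b, hb, hb1⟩ := exists_ne_one (hS.ne_bot B hB)
    refine hb1 ((Subgroup.eq_bot_iff_forall _).1 (normalizer_inf_eq_bot' h) b
      ⟨hb, conjBy_eq_self_iff.1 (eq_of_commute_unipotent h
        (conjBy_mem_unipotentSubgroups self_mem_unipotentSubgroups (mem_sup_right hb))
        self_mem_unipotentSubgroups ?_)⟩)
    rintro _ ⟨a, ha, rfl⟩ v hv
    have hm : (a * b * a⁻¹ * b⁻¹)⁻¹ ∈ C := inv_mem (commutator_mem_commutator ha hb)
    show b * a * b⁻¹ * v = v * (b * a * b⁻¹)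
    have e : b * a * b⁻¹ = (a * b * a⁻¹ * b⁻¹)⁻¹ * a := by group
    rw [e]
    exact ((show Commute _ v from hcent _ hm v hv).mul_left (show Commute a v from member_comm hS hA ha hv)).eq
  · exact h

theorem mem_commutatorSet (h : RootCommutatorCase S A B) {a : G} (ha : a ∈ A) {b b' : G} (hb : b ∈ B) (hb' : b' ∈ B) :
    a * (b * b') * a⁻¹ * (b * b')⁻¹ = (a * b * a⁻¹ * b⁻¹) * (a * b' * a⁻¹ * b'⁻¹) := by
  have hc := h.2.1 _ (commutator_mem_commutator ha hb') b (mem_sup_right hb)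
  simp only [commutatorElement_def] at hc
  calc a * (b * b') * a⁻¹ * (b * b')⁻¹
      = (a * b * a⁻¹ * b⁻¹) * (b * (a * b' * a⁻¹ * b'⁻¹) * b⁻¹) := by group
    _ = _ := by rw [← hc, mul_inv_cancel_right]

/-- Every element of the commutator is a commutator with a fixed element. -/
theorem exists_commutator (h : RootCommutatorCase S A B) {a : G} (ha : a ∈ A) (ha1 : a ≠ 1) {c : G}
    (hc : c ∈ ⁅A, B⁆) : ∃ b ∈ B, a * b * a⁻¹ * b⁻¹ = c := by
  rw [← h.2.2.1 a ha ha1] at hc
  induction hc using closure_induction with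
  | mem x hx => exact let ⟨b, hb, e⟩ := hx; ⟨b, hb, e⟩
  | one => exact ⟨1, one_mem B, by group⟩
  | mul x y _ _ hx hy =>
    obtain ⟨b, hb, rfl⟩ := hx
    obtain ⟨b', hb', rfl⟩ := hy
    exact ⟨b * b', mul_mem hb hb', mem_commutatorSet h ha hb hb'⟩
  | inv x _ hx =>
    obtain ⟨b, hb, rfl⟩ := hx
    refine ⟨b⁻¹, inv_mem hb, eq_inv_of_mul_eq_one_right ?_⟩
    rw [← mem_commutatorSet h ha hb (inv_mem hb), mul_inv_cancel]
    group

theorem commute_right (h : RootCommutatorCase S A B) {a c : G} (ha : a ∈ A) (hc : c ∈ ⁅A, B⁆) : c * a = a * c :=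
  h.2.1 c hc a (mem_sup_left ha)

theorem inf_commutator (hS : IsRootSubgroupSet S) (hA : A ∈ S) (hn : ¬ IsIsolatedIn (FAdj S) S A)
    (h : RootCommutatorCase S A B) : A ⊓ ⁅A, B⁆ = ⊥ := by
  refine (inf_eq_bot_or_eq hS hA hn h.1).resolve_right fun e => hS.ne_bot _ h.1 ?_
  rw [commutator_eq_bot_iff_le_centralizer]
  intro a ha
  exact mem_centralizer_iff.2 fun b hb => (h.2.1 a (e ▸ ha) b (mem_sup_right hb)).symm

/-- A non-identity element of a non-isolated member has trivial centraliser in its commutator partner. -/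
theorem eq_one_of_commute (hS : IsRootSubgroupSet S) (hA : A ∈ S) (hn : ¬ IsIsolatedIn (FAdj S) S A)
    (h : RootCommutatorCase S A B) {a b : G} (ha : a ∈ A) (ha1 : a ≠ 1) (hb : b ∈ B) (hab : a * b = b * a) :
    b = 1 := by
  by_contra hb1
  have hmem : a ∈ conjBy A b := mem_conjBy.2 (by rw [mul_assoc, hab, inv_mul_cancel_left]; exact ha)
  have hAb : A = conjBy A b := (inf_eq_bot_or_eq hS hA hn (hS.conj_mem A hA b)).resolve_left fun e =>
    ha1 ((Subgroup.eq_bot_iff_forall _).1 e a ⟨ha, hmem⟩)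
  refine hS.ne_bot _ h.1 ?_
  rw [← h.2.2.2 b hb hb1, eq_bot_iff, closure_le]
  rintro _ ⟨a', ha', rfl⟩
  refine (mem_bot).2 ((Subgroup.eq_bot_iff_forall _).1 (inf_commutator hS hA hn h) _ ⟨?_, commutator_mem_commutator ha' hb⟩)
  show a' * b * a'⁻¹ * b⁻¹ ∈ A
  rw [mul_assoc a' b, mul_assoc a']
  exact mul_mem ha' ((mem_normalizer_iff.1 (conjBy_eq_self_iff.1 hAb.symm) _).1 (inv_mem ha'))

theorem conjBy_le_sup (h : RootCommutatorCase S A B) {b : G} (hb : b ∈ B) : conjBy A b ≤ A ⊔ ⁅A, B⁆ := by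
  refine conjBy_le_iff.2 fun a ha => ?_
  rw [show b * a * b⁻¹ = (a * b * a⁻¹ * b⁻¹)⁻¹ * a by group]
  exact mul_mem (mem_sup_right (inv_mem (commutator_mem_commutator ha hb))) (mem_sup_left ha)

theorem commute_sup (hS : IsRootSubgroupSet S) (hA : A ∈ S) (h : RootCommutatorCase S A B) {x a : G}
    (hx : x ∈ A ⊔ ⁅A, B⁆) (ha : a ∈ A) : x * a = a * x := by
  have hle : A ⊔ ⁅A, B⁆ ≤ centralizer ({a} : Set G) := by
    refine sup_le (fun y hy => ?_) (fun y hy => ?_) <;> rw [mem_centralizer_singleton_iff]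
    · exact member_comm hS hA hy ha
    · exact commute_right h ha hy
  exact mem_centralizer_singleton_iff.1 (hle hx)

/-- No member lies properly inside the commutator of a non-isolated member and a partner. -/
theorem eq_commutator_of_le (hS : IsRootSubgroupSet S) (hA : A ∈ S) (hn : ¬ IsIsolatedIn (FAdj S) S A)
    (hB : B ∈ S) (h : RootCommutatorCase S A B) (hD : D ∈ S) (hle : D ≤ ⁅A, B⁆) : D = ⁅A, B⁆ := by
  obtain ⟨R, hR, hAR⟩ := exists_partner_of_not_isolated hA hn
  have hRn : ¬ IsIsolatedIn (FAdj S) S R := fun hi => (hi.2 A).1 ⟨hR, hA, RankOnePair_symm hAR⟩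
  set C := ⁅A, B⁆ with hCdef
  have hCS : C ∈ S := h.1
  have hinf : ∀ {P : Subgroup G}, P ∈ S → ¬ IsIsolatedIn (FAdj S) S P → ∀ {Q : Subgroup G}, Q ∈ S →
      P ⊓ Q ≠ ⊥ → P = Q := fun hP hPn _ hQ hne => (inf_eq_bot_or_eq hS hP hPn hQ).resolve_left hne
  rcases hS.pair C hCS R hR with hCR | hCR | hCR
  · exfalso
    obtain ⟨a, ha, ha1⟩ := exists_ne_one (hS.ne_bot A hA)
    obtain ⟨b, hb, hb1⟩ := exists_ne_one (hS.ne_bot B hB)
    set A' := conjBy A b with hA'def
    have hA' : A' ∈ S := hS.conj_mem A hA b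
    set w := b * a * b⁻¹ * a⁻¹ with hwdef
    have hw : w ∈ C := by
      rw [hwdef, hCdef, commutator_comm]
      exact commutator_mem_commutator hb ha
    have hwa : w * a ∈ A' := ⟨a, ha, by simp [hwdef, mul_assoc]⟩
    have hwR : ∀ v ∈ R, w * v = v * w := fun v hv => commute_of_commutator_eq_bot hCR hw hv
    have hne : A' ≠ A := fun e => by
      refine hb1 (eq_one_of_commute hS hA hn h ha ha1 hb ?_)
      have h1 : b * a * b⁻¹ * a⁻¹ ∈ A := mul_mem (e.le ⟨a, ha, rfl⟩) (inv_mem ha)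
      have h2 := (Subgroup.eq_bot_iff_forall _).1 (inf_commutator hS hA hn h) _ ⟨h1, hw⟩
      rw [mul_inv_eq_one, mul_inv_eq_iff_eq_mul] at h2
      exact h2.symm
    have hcomm : ∀ u ∈ A', ∀ v ∈ A, u * v = v * u := fun u hu v hv => commute_sup hS hA h (conjBy_le_sup h hb hu) hv
    have hr : IsRankOnePair A' R := by
      by_contra hr
      refine ha1 (eq_of_conjBy_eq_right hAR ha (one_mem A) ?_)
      rw [conjBy_one]
      refine eq_of_commute_unipotent hAR (conjBy_mem_unipotentSubgroups (right_mem_unipotentSubgroups hAR) (mem_sup_left ha))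
        (right_mem_unipotentSubgroups hAR) fun u hu v hv => ?_
      have h3 : (w * u * w⁻¹) * v = v * (w * u * w⁻¹) := by
        refine commute_conj_of_not_rankOne hS hA' hR hr hwa ?_ hv
        rw [conjBy_mul]
        exact ⟨u, hu, rfl⟩
      calc u * v = w⁻¹ * ((w * u * w⁻¹) * (w * v)) := by group
        _ = w⁻¹ * ((w * u * w⁻¹) * v * w) := by rw [hwR v hv, ← mul_assoc (w * u * w⁻¹)]
        _ = w⁻¹ * (v * (w * u * w⁻¹) * w) := by rw [h3]
        _ = w⁻¹ * (v * w) * u := by group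
        _ = v * u := by rw [← hwR v hv]; group
    have hwa1 : w * a ≠ 1 := fun e => by
      have h1 : b * a * b⁻¹ = 1 := by rw [show b * a * b⁻¹ = w * a by rw [hwdef]; group, e]
      exact ha1 (conj_eq_one_iff.1 h1)
    obtain ⟨r, hr', -, he⟩ := hr.cond_left _ hwa hwa1
    have hfix : conjBy R w⁻¹ = R := conjBy_eq_self_iff.2 (centralizer_le_normalizer _
      (mem_centralizer_iff.2 fun v hv => ((show Commute w v from hwR v hv).inv_left.eq).symm))
    rw [mul_inv_rev, conjBy_mul, hfix] at he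
    refine hne (eq_of_commute_unipotent hAR ?_ self_mem_unipotentSubgroups hcomm)
    rw [← conjBy_conjBy_inv A' r, he]
    exact conjBy_mem_unipotentSubgroups (conjBy_mem_unipotentSubgroups (right_mem_unipotentSubgroups hAR)
      (mem_sup_left (inv_mem ha))) (mem_sup_right hr')
  · exact (hinf hCS (fun hi => (hi.2 R).1 ⟨hCS, hR, hCR⟩) hD
      (by rw [inf_eq_right.2 hle]; exact hS.ne_bot D hD)).symm
  · obtain ⟨d, hd, hd1⟩ := exists_ne_one (hS.ne_bot D hD)
    rcases hS.pair D hD R hR with hDR | hDR | hDR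
    · exfalso
      refine hS.ne_bot _ hCR.1 ?_
      rw [← hCR.2.2.1 d (hle hd) hd1, eq_bot_iff, closure_le]
      rintro _ ⟨r, hr, rfl⟩
      have := commute_of_commutator_eq_bot hDR hd hr
      rw [SetLike.mem_coe, mem_bot]
      show d * r * d⁻¹ * r⁻¹ = 1
      rw [this, mul_assoc r d, mul_inv_cancel, mul_one, mul_inv_cancel]
    · exact hinf hD (fun hi => (hi.2 R).1 ⟨hD, hR, hDR⟩) hCS
        (by rw [inf_eq_left.2 hle]; exact hS.ne_bot D hD)
    · refine le_antisymm hle fun c hc => ?_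
      obtain ⟨r, hr, hr1⟩ := exists_ne_one (hS.ne_bot R hR)
      have heq : ⁅D, R⁆ = ⁅C, R⁆ := by rw [← hDR.2.2.1 d hd hd1, hCR.2.2.1 d (hle hd) hd1]
      have hs := commutatorCase_symm hDR
      have hs' := commutatorCase_symm hCR
      have hmem : r * c * r⁻¹ * c⁻¹ ∈ ⁅R, D⁆ := by
        rw [commutator_comm R D, heq, commutator_comm C R]
        exact commutator_mem_commutator hr hc
      obtain ⟨d', hd', he⟩ := exists_commutator hs hr hr1 hmem
      have h1 : r * (c⁻¹ * d') * r⁻¹ * (c⁻¹ * d')⁻¹ = 1 := by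
        rw [mem_commutatorSet hs' hr (inv_mem hc) (hle hd'), he, ← mem_commutatorSet hs' hr (inv_mem hc) hc,
          inv_mul_cancel]
        group
      rw [mul_inv_eq_one, mul_inv_eq_iff_eq_mul] at h1
      have h2 := eq_one_of_commute hS hR hRn hs' hr hr1 (mul_mem (inv_mem hc) (hle hd')) h1
      rwa [inv_mul_eq_one.1 h2]

/-- The conjugates of a non-isolated member under its partner cover the complement of the commutator. -/
theorem exists_conj_mem (hS : IsRootSubgroupSet S) (hA : A ∈ S) (h : RootCommutatorCase S A B) {x : G}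
    (hx : x ∈ A ⊔ ⁅A, B⁆) (hxC : x ∉ ⁅A, B⁆) : ∃ b ∈ B, x ∈ conjBy A b := by
  have hn : A ≤ normalizer ((⁅A, B⁆ : Subgroup G) : Set G) := fun a ha =>
    conjBy_eq_self_iff.1 (commutator_invariant hS hA B ha)
  rw [sup_comm, ← SetLike.mem_coe, coe_mul_of_right_le_normalizer_left ⁅A, B⁆ A hn] at hx
  obtain ⟨c, hc, a, ha, rfl⟩ := hx
  have ha1 : a ≠ 1 := fun e => hxC (by simpa [e] using hc)
  obtain ⟨b, hb, he⟩ := exists_commutator h ha ha1 (inv_mem hc)
  refine ⟨b, hb, a, ha, ?_⟩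
  show b * a * b⁻¹ = c * a
  rw [show b * a * b⁻¹ = (a * b * a⁻¹ * b⁻¹)⁻¹ * a by group, he, inv_inv]

end CfsgLib.RootLine
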