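import Cfsg.Agent.Lib.RootSubgroups.LineLemmas

/-!
Every line carries a member moving one point and fixing another.
-/

set_option autoImplicit false

namespace CfsgLib.RootLineMoves

open scoped commutatorElement
open Subgroup Cfsg CfsgLib.RankOne CfsgLib.RootLine CfsgLib.RootSubgroups.SL2Pair

variable {G : Type*} [Group G] {S : Set (Subgroup G)} {A B Q R : Subgroup G}

theorem not_rankOne_mem {U V : Subgroup G} (hU : U ∈ unipotentSubgroups A B) (hV : V ∈ unipotentSubgroups A B)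
    (h : IsRankOnePair A B) (hne : U ≠ V) : IsRankOnePair U V := by
  obtain ⟨x, -, hx1, hx2⟩ := two_transitive h self_mem_unipotentSubgroups (right_mem_unipotentSubgroups h)
    hU hV h.ne hne
  rw [← hx1, ← hx2]
  exact isRankOnePair_conjBy h x

theorem not_isolated {P Q : Subgroup G} (hP : P ∈ S) (hQ : Q ∈ S) (h : IsRankOnePair P Q) :
    ¬ IsIsolatedIn (FAdj S) S P := fun hi => (hi.2 Q).1 ⟨hP, hQ, h⟩

/-- In a line through `A`, a member `Q` not opposite to the partner `R` of `A` is a commutator of `A`. -/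
theorem commutator_eq (hS : IsRootSubgroupSet S) (hFA : ¬ IsIsolatedIn (FAdj S) S A) (hFQ : ¬ IsIsolatedIn (FAdj S) S Q)
    (hA : A ∈ S) (hQ : Q ∈ S) (hne : A ≠ Q)
    (hR : R ∈ S) (hAR : IsRankOnePair A R) (hQR : ¬ IsRankOnePair Q R) (hcomm : ∀ a ∈ A, ∀ q ∈ Q, a * q = q * a)
    (hroot : ∀ a ∈ A, ∀ q ∈ Q, a * q ≠ 1 → ∃ C ∈ S, a * q ∈ C ∧ ∀ c ∈ C, ∀ a' ∈ A, c * a' = a' * c) :
    RootCommutatorCase S Q R ∧ RootCommutatorCase S A ⁅Q, R⁆ ∧ ⁅A, ⁅Q, R⁆⁆ = Q := by
  obtain ⟨a, ha, ha1⟩ := exists_ne_one (hS.ne_bot A hA)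
  obtain ⟨q, hq, hq1⟩ := exists_ne_one (hS.ne_bot Q hQ)
  have hAQ : A ⊓ Q = ⊥ := (inf_eq_bot_or_eq hS hA hFA hQ).resolve_right hne
  have hcase : RootCommutatorCase S Q R := by
    rcases hS.pair Q hQ R hR with h | h | h
    · exfalso
      have hne1 : a * q ≠ 1 := fun e => hq1 ((Subgroup.eq_bot_iff_forall _).1 hAQ q
        ⟨by rw [eq_inv_of_mul_eq_one_right e]; exact A.inv_mem ha, hq⟩)
      obtain ⟨C, hC, ht, hCA⟩ := hroot a ha q hq hne1
      have hqR : conjBy R q = R := conjBy_eq_self_iff.2 (centralizer_le_normalizer _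
        (mem_centralizer_iff.2 fun v hv => (commute_of_commutator_eq_bot h hq hv).symm))
      have hRt : conjBy R (a * q) = conjBy R a := by rw [conjBy_mul, hqR]
      have hCR : ¬ IsRankOnePair C R := by
        intro hr
        obtain ⟨r, hr', -, he⟩ := hr.cond_left _ ht hne1
        have hRt' : conjBy R (a * q)⁻¹ = conjBy R a⁻¹ := by
          rw [hcomm a ha q hq, mul_inv_rev, conjBy_mul]
          congr 1
          exact conjBy_eq_self_iff.2 (inv_mem (conjBy_eq_self_iff.1 hqR))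
        rw [hRt'] at he
        have hCU : C ∈ unipotentSubgroups A R := by
          rw [← conjBy_conjBy_inv C r, he]
          exact conjBy_mem_unipotentSubgroups (conjBy_mem_unipotentSubgroups (right_mem_unipotentSubgroups hAR)
            (mem_sup_left (inv_mem ha))) (mem_sup_right hr')
        have hCeq := eq_of_commute_unipotent hAR hCU self_mem_unipotentSubgroups hCA
        rw [hCeq] at ht
        exact hq1 ((Subgroup.eq_bot_iff_forall _).1 hAQ q
          ⟨by simpa using mul_mem (inv_mem ha) ht, hq⟩)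
      refine ha1 (eq_of_conjBy_eq_right hAR ha (one_mem A) ?_)
      rw [conjBy_one]
      exact eq_of_commute_unipotent hAR (conjBy_mem_unipotentSubgroups (right_mem_unipotentSubgroups hAR)
        (mem_sup_left ha)) (right_mem_unipotentSubgroups hAR)
        fun u hu v hv => commute_conj_of_not_rankOne hS hC hR hCR ht (hRt.symm ▸ hu) hv
    · exact absurd h hQR
    · exact h
  set E := ⁅Q, R⁆ with hE
  have hES : E ∈ S := hcase.1
  have hEQ : ∀ e ∈ E, ∀ q ∈ Q, e * q = q * e := fun e he q hq => hcase.2.1 e he q (mem_sup_left hq)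
  have hER : ∀ e ∈ E, ∀ v ∈ R, e * v = v * e := fun e he v hv => hcase.2.1 e he v (mem_sup_right hv)
  have hEA : ¬ IsRankOnePair A E := by
    intro hr
    have hne1 : q * a ≠ 1 := fun e => hq1 ((Subgroup.eq_bot_iff_forall _).1 hAQ q
        ⟨by rw [eq_inv_of_mul_eq_one_left e]; exact A.inv_mem ha, hq⟩)
    obtain ⟨C, hC, ht, -⟩ := hroot a ha q hq (by rwa [hcomm a ha q hq])
    have hle : A ⊔ E ≤ centralizer ({q} : Set G) :=
      sup_le (fun x hx => mem_centralizer_singleton_iff.2 (hcomm x hx q hq))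
        (fun x hx => mem_centralizer_singleton_iff.2 (hEQ x hx q hq))
    refine not_mem_rootElements hS hA hES hr
      (mem_centralizer_iff.2 fun y hy => mem_centralizer_singleton_iff.1 (hle hy)) hq1 ha ha1 ?_
    exact ⟨hne1, C, hC, by rwa [← hcomm a ha q hq]⟩
  have hAE : RootCommutatorCase S A E := by
    rcases hS.pair A hA E hES with h | h | h
    · exfalso
      -- `x ↦ q x q⁻¹ x⁻¹` is a homomorphism on the rank one group with trivial restriction to `A`
      have hXE : ∀ x ∈ A ⊔ R, ∀ e ∈ E, x * e = e * x := by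
        intro x hx e he
        have hle : A ⊔ R ≤ centralizer ({e} : Set G) :=
          sup_le (fun y hy => mem_centralizer_singleton_iff.2 (commute_of_commutator_eq_bot h hy he))
            (fun y hy => mem_centralizer_singleton_iff.2 (hER e he y hy).symm)
        exact mem_centralizer_singleton_iff.1 (hle hx)
      let T : Subgroup G :=
        { carrier := {x | x ∈ A ⊔ R ∧ q * x * q⁻¹ * x⁻¹ ∈ E}
          one_mem' := ⟨one_mem _, by simp⟩
          mul_mem' := fun {x y} hx hy => ⟨mul_mem hx.1 hy.1, by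
            have e1 := hXE x hx.1 _ hy.2
            have : q * (x * y) * q⁻¹ * (x * y)⁻¹ = (q * x * q⁻¹ * x⁻¹) * (q * y * q⁻¹ * y⁻¹) := by
              calc q * (x * y) * q⁻¹ * (x * y)⁻¹
                  = (q * x * q⁻¹ * x⁻¹) * (x * (q * y * q⁻¹ * y⁻¹) * x⁻¹) := by group
                _ = _ := by rw [e1, mul_inv_cancel_right]
            rw [this]; exact mul_mem hx.2 hy.2⟩
          inv_mem' := fun {x} hx => ⟨inv_mem hx.1, by
            have e1 := hXE x⁻¹ (inv_mem hx.1) _ hx.2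
            have : q * x⁻¹ * q⁻¹ * x⁻¹⁻¹ = (q * x * q⁻¹ * x⁻¹)⁻¹ := by
              calc q * x⁻¹ * q⁻¹ * x⁻¹⁻¹ = (x⁻¹ * (q * x * q⁻¹ * x⁻¹) * x⁻¹⁻¹)⁻¹ := by group
                _ = _ := by rw [e1, mul_inv_cancel_right]
            rw [this]; exact inv_mem hx.2⟩ }
      have hT : A ⊔ R ≤ T := sup_le
        (fun x hx => ⟨mem_sup_left hx, by
          rw [← hcomm x hx q hq, mul_inv_cancel_right, mul_inv_cancel]; exact one_mem _⟩)
        (fun x hx => ⟨mem_sup_right hx, commutator_mem_commutator hq hx⟩)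
      obtain ⟨x, hx, hxR⟩ := right_mem_unipotentSubgroups hAR
      refine hS.ne_bot E hES ?_
      rw [hE, ← hcase.2.2.1 q hq hq1, eq_bot_iff, closure_le]
      rintro _ ⟨v, hv, rfl⟩
      rw [SetLike.mem_coe, mem_bot]
      obtain ⟨a', ha', rfl⟩ := hxR.le hv
      show q * (x * a' * x⁻¹) * q⁻¹ * (x * a' * x⁻¹)⁻¹ = 1
      have hf := (hT hx).2
      set f := q * x * q⁻¹ * x⁻¹ with hfdef
      have h1 : f * (x * a' * x⁻¹) = (x * a' * x⁻¹) * f :=
        (hXE _ (mul_mem (mul_mem hx (mem_sup_left ha')) (inv_mem hx)) f hf).symm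
      calc q * (x * a' * x⁻¹) * q⁻¹ * (x * a' * x⁻¹)⁻¹
          = f * x * ((q * a') * q⁻¹) * x⁻¹ * f⁻¹ * (x * a' * x⁻¹)⁻¹ := by rw [hfdef]; group
        _ = f * (x * a' * x⁻¹) * f⁻¹ * (x * a' * x⁻¹)⁻¹ := by rw [← hcomm a' ha' q hq]; group
        _ = 1 := by rw [h1]; group
    · exact absurd h hEA
    · exact h
  refine ⟨hcase, hAE, ?_⟩
  obtain ⟨r, hr, hr1, hab⟩ := hAR.cond_left a ha ha1
  set w := q⁻¹ * r⁻¹ * q * r with hwdef
  have hw : w ∈ E := by
    have := commutator_mem_commutator (inv_mem hq) (inv_mem hr)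
    rwa [commutatorElement_def, inv_inv, inv_inv] at this
  set f := a * w * a⁻¹ * w⁻¹ with hfdef
  have hf : f ∈ ⁅A, E⁆ := commutator_mem_commutator ha hw
  set z := q * f with hzdef
  have hzR : ∀ v ∈ R, z * v = v * z := by
    intro v hv
    -- `a (r⁻¹ q r) a⁻¹` centralises `R`
    obtain ⟨a', ha', he⟩ : a⁻¹ * v * a⁻¹⁻¹ ∈ conjBy A r⁻¹ := hab ▸ ⟨v, hv, rfl⟩
    have he' : a⁻¹ * v * a = r⁻¹ * a' * r := by
      have := he.symm
      simpa using this
    have h1 : (r⁻¹ * q * r) * (a⁻¹ * v * a) = (a⁻¹ * v * a) * (r⁻¹ * q * r) := by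
      rw [he']
      calc r⁻¹ * q * r * (r⁻¹ * a' * r) = r⁻¹ * (q * a') * r := by group
        _ = r⁻¹ * (a' * q) * r := by rw [hcomm a' ha' q hq]
        _ = r⁻¹ * a' * r * (r⁻¹ * q * r) := by group
    have hqa : a * q * a⁻¹ = q := by rw [hcomm a ha q hq, mul_inv_cancel_right]
    have hzw : a * (r⁻¹ * q * r) * a⁻¹ = z * w := by
      calc a * (r⁻¹ * q * r) * a⁻¹ = (a * q * a⁻¹) * (a * w * a⁻¹) := by rw [hwdef]; group
        _ = z * w := by rw [hqa, hzdef, hfdef]; group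
    have h2 : (z * w) * v = v * (z * w) := by
      rw [← hzw]
      calc a * (r⁻¹ * q * r) * a⁻¹ * v = a * ((r⁻¹ * q * r) * (a⁻¹ * v * a)) * a⁻¹ := by group
        _ = a * ((a⁻¹ * v * a) * (r⁻¹ * q * r)) * a⁻¹ := by rw [h1]
        _ = v * (a * (r⁻¹ * q * r) * a⁻¹) := by group
    have := (show Commute (z * w) v from h2).mul_left ((show Commute w v from hER w hw v hv).inv_left)
    rwa [mul_inv_cancel_right] at this
  have hfA : ∀ x ∈ A, f * x = x * f := fun x hx => hAE.2.1 f hf x (mem_sup_left hx)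
  have hzfix : conjBy R z = R := conjBy_eq_self_iff.2 (centralizer_le_normalizer _
    (mem_centralizer_iff.2 fun v hv => (hzR v hv).symm))
  set A' := conjBy A w with hA'
  have hA'R : IsRankOnePair A' R := by
    have h0 : conjBy R w = R := conjBy_eq_self_iff.2 (centralizer_le_normalizer _
      (mem_centralizer_iff.2 fun v hv => (hER w hw v hv).symm))
    have := isRankOnePair_conjBy hAR w
    rwa [h0] at this
  set t' := w * a * w⁻¹ with ht'def
  have ht' : t' ∈ A' := ⟨a, ha, rfl⟩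
  have hqw : w * q = q * w := hEQ w hw q hq
  have hqt : Commute q t' := by
    rw [ht'def]
    exact ((show Commute q w from hqw.symm).mul_right (show Commute q a from (hcomm a ha q hq).symm)).mul_right
      (show Commute q w from hqw.symm).inv_right
  have hqA' : ∀ y ∈ A', q * y = y * q := by
    rintro _ ⟨x, hx, rfl⟩
    exact (((show Commute q w from hqw.symm).mul_right (show Commute q x from (hcomm x hx q hq).symm)).mul_right
      (show Commute q w from hqw.symm).inv_right).eq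
  have haA' : ∀ y ∈ A', a * y = y * a := fun y hy =>
    (commute_sup hS hA hAE (conjBy_le_sup hAE hw hy) ha).symm
  have htt : a * q = t' * z := by
    have e : t' = f⁻¹ * a := by rw [hfdef, ht'def]; group
    rw [e, hzdef]
    calc a * q = f⁻¹ * (f * a) * q := by group
      _ = f⁻¹ * (a * f) * q := by rw [hfA a ha]
      _ = f⁻¹ * a * (f * q) := by group
      _ = f⁻¹ * a * (q * f) := by
        rw [show f * q = q * f from by
          rw [hfdef]
          exact ((((show Commute a q from hcomm a ha q hq).mul_left (show Commute w q from hqw)).mul_left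
            (show Commute a q from hcomm a ha q hq).inv_left).mul_left (show Commute w q from hqw).inv_left).eq]
  have hne1 : a * q ≠ 1 := fun e => hq1 ((Subgroup.eq_bot_iff_forall _).1 hAQ q
      ⟨by rw [eq_inv_of_mul_eq_one_right e]; exact A.inv_mem ha, hq⟩)
  obtain ⟨C, hC, ht, -⟩ := hroot a ha q hq hne1
  have ht1 : t' ≠ 1 := fun e => ha1 (conj_eq_one_iff.1 e)
  have hRt : ∀ ε : G, ε = t' * z → conjBy R ε = conjBy R t' := by
    rintro _ rfl
    rw [conjBy_mul, hzfix]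
  by_cases hCR : IsRankOnePair C R
  · obtain ⟨v, hv, -, he⟩ := hCR.cond_left _ ht hne1
    have hzt : Commute z t' := by
      rw [hzdef]
      refine hqt.mul_left ?_
      have hf' : Commute f w := hAE.2.1 f hf w (mem_sup_right hw)
      rw [ht'def]
      exact (hf'.mul_right (hfA a ha)).mul_right hf'.inv_right
    have hinv : conjBy R (a * q)⁻¹ = conjBy R t'⁻¹ := by
      rw [htt, ← hzt.eq, mul_inv_rev, conjBy_mul]
      congr 1
      exact conjBy_eq_self_iff.2 (inv_mem (conjBy_eq_self_iff.1 hzfix))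
    rw [hinv] at he
    have hCU : C ∈ unipotentSubgroups A' R := by
      rw [← conjBy_conjBy_inv C v, he]
      exact conjBy_mem_unipotentSubgroups (conjBy_mem_unipotentSubgroups (right_mem_unipotentSubgroups hA'R)
        (mem_sup_left (inv_mem ht'))) (mem_sup_right hv)
    have hCA' : C = A' := by
      by_contra hne'
      refine hne1 ((Subgroup.eq_bot_iff_forall _).1
        (normalizer_inf_eq_bot (not_rankOne_mem hCU self_mem_unipotentSubgroups hA'R hne')) _ ⟨ht, ?_⟩)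
      exact centralizer_le_normalizer _ (mem_centralizer_iff.2 fun y hy =>
        ((show Commute a y from haA' y hy).mul_left (show Commute q y from hqA' y hy)).eq.symm)
    rw [hCA', htt] at ht
    have hz1 : z = 1 := (Subgroup.eq_bot_iff_forall _).1 (normalizer_inf_eq_bot hA'R) z
      ⟨by simpa using mul_mem (inv_mem ht') ht, conjBy_eq_self_iff.1 hzfix⟩
    have hqF : q ∈ ⁅A, E⁆ := by
      rw [eq_inv_of_mul_eq_one_left hz1]; exact inv_mem hf
    exact ((inf_eq_bot_or_eq hS hQ hFQ hAE.1).resolve_left fun e =>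
      hq1 ((Subgroup.eq_bot_iff_forall _).1 e q ⟨hq, hqF⟩)).symm
  · refine absurd (eq_of_conjBy_eq_right hA'R ht' (one_mem A') ?_) ht1
    rw [conjBy_one]
    exact eq_of_commute_unipotent hA'R (conjBy_mem_unipotentSubgroups (right_mem_unipotentSubgroups hA'R)
      (mem_sup_left ht')) (right_mem_unipotentSubgroups hA'R)
      fun u hu v hv => commute_conj_of_not_rankOne hS hC hR hCR ht ((hRt _ htt).symm ▸ hu) hv

/-- Given a partner of `A`, a line through `A` has a member in the commutator case with it. -/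
theorem exists_move_at (hS : IsRootSubgroupSet S) (hF : ∀ A ∈ S, ¬ IsIsolatedIn (FAdj S) S A) {N : Subgroup G}
    (hab : ∀ x ∈ N, ∀ y ∈ N, x * y = y * x) (hcov : ∀ x ∈ N, x ≠ 1 → ∃ C ∈ S, C ≤ N ∧ x ∈ C)
    (hA : A ∈ S) (hB : B ∈ S) (hne : A ≠ B) (hN : A ⊔ B = N) (hR : R ∈ S) (hAR : IsRankOnePair A R) :
    ∃ Q ∈ S, A ≠ Q ∧ RootCommutatorCase S Q R ∧ RootCommutatorCase S A ⁅Q, R⁆ ∧ ⁅A, ⁅Q, R⁆⁆ = Q ∧ A ⊔ Q = N := by
  have hAN : A ≤ N := hN ▸ le_sup_left
  have hBN : B ≤ N := hN ▸ le_sup_right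
  have main : ∀ Q ∈ S, Q ≤ N → A ≠ Q → ¬ IsRankOnePair Q R →
      RootCommutatorCase S Q R ∧ RootCommutatorCase S A ⁅Q, R⁆ ∧ ⁅A, ⁅Q, R⁆⁆ = Q := fun Q hQ hQN hAQ hQR =>
    commutator_eq hS (hF A hA) (hF Q hQ) hA hQ hAQ hR hAR hQR (fun a ha q hq => hab a (hAN ha) q (hQN hq))
      fun a ha q hq h1 => by
        obtain ⟨C, hC, hCN, hx⟩ := hcov _ (mul_mem (hAN ha) (hQN hq)) h1
        exact ⟨C, hC, hx, fun c hc a' ha' => hab c (hCN hc) a' (hAN ha')⟩
  by_cases hBR : IsRankOnePair B R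
  swap
  · obtain ⟨h1, h2, h3⟩ := main B hB hBN hne hBR
    exact ⟨B, hB, hne, h1, h2, h3, hN⟩
  obtain ⟨r, hr, hr1⟩ := exists_ne_one (hS.ne_bot R hR)
  obtain ⟨a, ha, ha1, hra⟩ := hAR.cond_right r hr hr1
  obtain ⟨b, hb, hb1, hrb⟩ := hBR.cond_right r hr hr1
  have hAB : A ⊓ B = ⊥ := (inf_eq_bot_or_eq hS hA (hF A hA) hB).resolve_right hne
  set x := a⁻¹ * b with hxdef
  have hx1 : x ≠ 1 := fun e => ha1 ((Subgroup.eq_bot_iff_forall _).1 hAB a
    ⟨ha, by rw [inv_mul_eq_one.1 e]; exact hb⟩)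
  obtain ⟨Q, hQ, hQN, hxQ⟩ := hcov x (mul_mem (inv_mem (hAN ha)) (hBN hb)) hx1
  have hbx : b = a * x := by rw [hxdef, mul_inv_cancel_left]
  have hab' : b * a⁻¹ = x := by rw [hxdef, hab b (hBN hb) a⁻¹ (inv_mem (hAN ha))]
  have hAQ : A ≠ Q := by
    rintro rfl
    exact hb1 ((Subgroup.eq_bot_iff_forall _).1 hAB b ⟨by rw [hbx]; exact mul_mem ha hxQ, hb⟩)
  have hQR : ¬ IsRankOnePair Q R := by
    intro hQR
    refine hx1 (eq_of_conjBy_eq_right hQR hxQ (one_mem Q) ?_)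
    rw [conjBy_one]
    refine eq_of_commute_unipotent hQR (conjBy_mem_unipotentSubgroups (right_mem_unipotentSubgroups hQR)
      (mem_sup_left hxQ)) (right_mem_unipotentSubgroups hQR) ?_
    rintro _ ⟨u, hu, rfl⟩ v hv
    obtain ⟨a', ha', he1⟩ : a⁻¹ * u * a⁻¹⁻¹ ∈ conjBy A r⁻¹ := hra ▸ ⟨u, hu, rfl⟩
    obtain ⟨b', hb', he2⟩ : b⁻¹ * v * b⁻¹⁻¹ ∈ conjBy B r⁻¹ := hrb ▸ ⟨v, hv, rfl⟩
    have h3 : (a⁻¹ * u * a⁻¹⁻¹) * (b⁻¹ * v * b⁻¹⁻¹) = (b⁻¹ * v * b⁻¹⁻¹) * (a⁻¹ * u * a⁻¹⁻¹) := by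
      rw [← he1, ← he2, ← map_mul, ← map_mul, hab a' (hAN ha') b' (hBN hb')]
    show x * u * x⁻¹ * v = v * (x * u * x⁻¹)
    rw [← hab']
    calc b * a⁻¹ * u * (b * a⁻¹)⁻¹ * v = b * ((a⁻¹ * u * a⁻¹⁻¹) * (b⁻¹ * v * b⁻¹⁻¹)) * b⁻¹ := by group
      _ = b * ((b⁻¹ * v * b⁻¹⁻¹) * (a⁻¹ * u * a⁻¹⁻¹)) * b⁻¹ := by rw [h3]
      _ = v * (b * a⁻¹ * u * (b * a⁻¹)⁻¹) := by group
  obtain ⟨hcase, hAE, hAEQ⟩ := main Q hQ hQN hAQ hQR
  set E := ⁅Q, R⁆ with hE
  refine ⟨Q, hQ, hAQ, hcase, hAE, hAEQ, ?_⟩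
  refine le_antisymm (sup_le hAN hQN) (hN ▸ sup_le le_sup_left ?_)
  intro b' hb'
  set K := E ⊔ Q ⊔ A with hK
  -- `b'` is conjugate under `r` to an element of a conjugate of `R`
  obtain ⟨v, hv, hev⟩ : r⁻¹ * b' * r⁻¹⁻¹ ∈ conjBy R b⁻¹ := hrb.symm ▸ ⟨b', hb', rfl⟩
  have hev' : b' = r * (b⁻¹ * v * b) * r⁻¹ := by
    have : b⁻¹ * v * b = r⁻¹ * b' * r := by simpa using hev
    rw [this]; group
  obtain ⟨a', ha', hea⟩ : a⁻¹ * v * a⁻¹⁻¹ ∈ conjBy A r⁻¹ := hra ▸ ⟨v, hv, rfl⟩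
  have hea' : r * (a⁻¹ * v * a) * r⁻¹ = a' := by
    have : r⁻¹ * a' * r = a⁻¹ * v * a := by simpa using hea
    rw [← this]; group
  set e₀ := x⁻¹ * v * x * v⁻¹ with he₀
  have he₀E : e₀ ∈ E := by
    have := commutator_mem_commutator (inv_mem hxQ) hv
    rwa [commutatorElement_def, inv_inv] at this
  have hsplit : b' = (r * (a⁻¹ * e₀ * a) * r⁻¹) * a' := by
    rw [← hea', hev', hbx, hab a (hAN ha) x (hQN hxQ)]
    rw [he₀]; group
  have hEA' : RootCommutatorCase S E A := commutatorCase_symm hAE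
  have h1 : a⁻¹ * e₀ * a ∈ E ⊔ Q := by
    have := conjBy_le_sup hEA' (inv_mem ha) ⟨e₀, he₀E, rfl⟩
    rw [commutator_comm E A, hAEQ] at this
    simpa using this
  have hrQ : ∀ y ∈ E ⊔ Q, r * y * r⁻¹ ∈ E ⊔ Q := by
    intro y hy
    have hle : conjBy (E ⊔ Q) r ≤ E ⊔ Q := by
      rw [conjBy, Subgroup.map_sup]
      refine sup_le ?_ ?_
      · rintro _ ⟨e, he, rfl⟩
        show r * e * r⁻¹ ∈ _
        rw [← hcase.2.1 e he r (mem_sup_right hr), mul_inv_cancel_right]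
        exact mem_sup_left he
      · exact (conjBy_le_sup hcase hr).trans (sup_le le_sup_right le_sup_left)
    exact hle ⟨y, hy, rfl⟩
  have hm : b' * a'⁻¹ ∈ E ⊔ Q := by rw [hsplit, mul_inv_cancel_right]; exact hrQ _ h1
  have hmN : b' * a'⁻¹ ∈ N := mul_mem (hBN hb') (inv_mem (hAN ha'))
  have hn : E ≤ normalizer ((Q : Subgroup G) : Set G) := fun e he => centralizer_le_normalizer _
    (mem_centralizer_iff.2 fun y hy => (hcase.2.1 e he y (mem_sup_left hy)).symm)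
  rw [← SetLike.mem_coe, coe_mul_of_left_le_normalizer_right E Q hn] at hm
  obtain ⟨e, he, y, hy, hey⟩ := hm
  have heN : e ∈ N := by
    have : e = (b' * a'⁻¹) * y⁻¹ := by rw [← hey]; group
    rw [this]; exact mul_mem hmN (inv_mem (hQN hy))
  have he1 : e = 1 := eq_one_of_commute hS hA (hF A hA) hAE ha ha1 he (hab a (hAN ha) e heN)
  rw [he1] at hey
  have : b' = y * a' := by
    rw [show y = b' * a'⁻¹ by simpa using hey, inv_mul_cancel_right]
  rw [this]
  exact mul_mem (mem_sup_right hy) (mem_sup_left ha')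

/-- A line is the join of `A` and a commutator of `A`. -/
theorem exists_move (hS : IsRootSubgroupSet S) (hF : ∀ A ∈ S, ¬ IsIsolatedIn (FAdj S) S A) {N : Subgroup G}
    (hab : ∀ x ∈ N, ∀ y ∈ N, x * y = y * x) (hcov : ∀ x ∈ N, x ≠ 1 → ∃ C ∈ S, C ≤ N ∧ x ∈ C)
    (hA : A ∈ S) (hB : B ∈ S) (hne : A ≠ B) (hN : A ⊔ B = N) :
    ∃ E ∈ S, RootCommutatorCase S A E ∧ A ⊔ ⁅A, E⁆ = N := by
  obtain ⟨R, hR, hAR⟩ := exists_partner_of_not_isolated hA (hF A hA)
  obtain ⟨Q, -, -, h1, h2, h3, h4⟩ := exists_move_at hS hF hab hcov hA hB hne hN hR hAR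
  exact ⟨_, h1.1, h2, by rw [h3, h4]⟩

end CfsgLib.RootLineMoves
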