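import Cfsg.Agent.Lib.RootSubgroups.Restrict

/-!
A set of subgroups satisfying the pair axioms becomes a root subgroup set inside the subgroup it generates.
-/

set_option autoImplicit false

namespace CfsgLib.RootEmbed

open Cfsg
open scoped commutatorElement

variable {Γ : Type*} [Group Γ] {S : Set (Subgroup Γ)}

theorem le_iSup_mem {A : Subgroup Γ} (h : A ∈ S) : A ≤ ⨆ B ∈ S, B :=
  le_iSup₂ (f := fun (B : Subgroup Γ) (_ : B ∈ S) => B) A h

theorem map_image_comm (K : Subgroup Γ) {A B : Subgroup Γ} (hA : A ≤ K) (hB : B ≤ K) :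
    ⁅A.subgroupOf K, B.subgroupOf K⁆.map K.subtype = ⁅A, B⁆ := by
  rw [Subgroup.map_commutator, Subgroup.map_subgroupOf_eq_of_le hA, Subgroup.map_subgroupOf_eq_of_le hB]

theorem subgroupOf_comm (K : Subgroup Γ) {A B : Subgroup Γ} (hA : A ≤ K) (hB : B ≤ K) :
    ⁅A.subgroupOf K, B.subgroupOf K⁆ = ⁅A, B⁆.subgroupOf K := by
  apply Subgroup.map_injective K.subtype_injective
  rw [map_image_comm K hA hB, Subgroup.map_subgroupOf_eq_of_le
    (Subgroup.commutator_le.2 fun a ha b hb => mul_mem (mul_mem (mul_mem (hA ha) (hB hb)) (inv_mem (hA ha)))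
      (inv_mem (hB hb)))]

theorem closure_image_eq (K : Subgroup Γ) (Q : Subgroup Γ) (hQ : Q ≤ K) (f : Γ → Γ) (f' : K → K)
    (hf : ∀ x : K, (f' x : Γ) = f x) :
    (Subgroup.closure (f' '' (Q.subgroupOf K : Set K))).map K.subtype = Subgroup.closure (f '' (Q : Set Γ)) := by
  rw [MonoidHom.map_closure]
  congr 1
  ext g
  constructor
  · rintro ⟨_, ⟨x, hx, rfl⟩, rfl⟩
    exact ⟨x, hx, (hf x).symm⟩
  · rintro ⟨x, hx, rfl⟩
    exact ⟨_, ⟨⟨x, hQ hx⟩, hx, rfl⟩, hf _⟩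

/-- The commutator case inside a subgroup containing all members. -/
theorem commutatorCase_subgroupOf (K : Subgroup Γ) (hK : ∀ A ∈ S, A ≤ K) {A B : Subgroup Γ} (hA : A ∈ S)
    (hB : B ∈ S) (h : RootCommutatorCase S A B) :
    RootCommutatorCase ((fun C : Subgroup Γ => C.subgroupOf K) '' S) (A.subgroupOf K) (B.subgroupOf K) := by
  obtain ⟨h1, h2, h3, h4⟩ := h
  have e := subgroupOf_comm K (hK A hA) (hK B hB)
  refine ⟨⟨_, h1, e.symm⟩, ?_, ?_, ?_⟩
  · intro c hc x hx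
    rw [e] at hc
    refine Subtype.ext (h2 _ hc _ ?_)
    rw [← Subgroup.map_subgroupOf_eq_of_le (hK A hA), ← Subgroup.map_subgroupOf_eq_of_le (hK B hB),
      ← Subgroup.map_sup]
    exact ⟨x, hx, rfl⟩
  · intro a ha ha1
    apply Subgroup.map_injective K.subtype_injective
    rw [map_image_comm K (hK A hA) (hK B hB),
      closure_image_eq K B (hK B hB) (fun b => (a : Γ) * b * (a : Γ)⁻¹ * b⁻¹) _ fun x => by simp]
    exact h3 a ha fun e => ha1 (Subtype.ext e)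
  · intro b hb hb1
    apply Subgroup.map_injective K.subtype_injective
    rw [map_image_comm K (hK A hA) (hK B hB),
      closure_image_eq K A (hK A hA) (fun a => a * (b : Γ) * a⁻¹ * (b : Γ)⁻¹) _ fun x => by simp]
    exact h4 b hb fun e => hb1 (Subtype.ext e)

/-- The axioms of a root subgroup set, checked in the ambient group. -/
theorem isRootSubgroupSet_subgroupOf (hc : ∀ A ∈ S, IsMulCommutative A) (hne : ∀ A ∈ S, A ≠ ⊥)
    (hconj : ∀ A ∈ S, ∀ g ∈ (⨆ B ∈ S, B : Subgroup Γ), conjBy A g ∈ S)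
    (hpair : ∀ A ∈ S, ∀ B ∈ S, ⁅A, B⁆ = ⊥ ∨ IsRankOnePair A B ∨ RootCommutatorCase S A B) :
    IsRootSubgroupSet ((fun A : Subgroup Γ => A.subgroupOf (⨆ B ∈ S, B)) '' S) := by
  have hle : ∀ A ∈ S, A ≤ ⨆ B ∈ S, B := fun A hA => le_iSup_mem hA
  refine ⟨?_, ?_, ?_, ?_, ?_⟩
  · rintro _ ⟨A, hA, rfl⟩
    refine ⟨⟨fun x y => Subtype.ext (Subtype.ext ?_)⟩⟩
    show x.1.1 * y.1.1 = y.1.1 * x.1.1
    exact congrArg Subtype.val ((hc A hA).is_comm.comm ⟨x.1.1, x.2⟩ ⟨y.1.1, y.2⟩)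
  · rintro _ ⟨A, hA, rfl⟩ h
    apply hne A hA
    rw [← Subgroup.map_subgroupOf_eq_of_le (hle A hA), show A.subgroupOf (⨆ B ∈ S, B) = ⊥ from h, Subgroup.map_bot]
  · apply Subgroup.map_injective (⨆ B ∈ S, B : Subgroup Γ).subtype_injective
    rw [← MonoidHom.range_eq_map, Subgroup.range_subtype]
    simp only [Subgroup.map_iSup]
    apply le_antisymm
    · refine iSup₂_le fun A hA => ?_
      obtain ⟨C, hC, rfl⟩ := hA
      rw [Subgroup.map_subgroupOf_eq_of_le (hle C hC)]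
      exact hle C hC
    · refine iSup₂_le fun A hA => ?_
      refine le_iSup₂_of_le (A.subgroupOf (⨆ B ∈ S, B)) ⟨A, hA, rfl⟩ ?_
      rw [Subgroup.map_subgroupOf_eq_of_le (hle A hA)]
  · rintro _ ⟨A, hA, rfl⟩ g
    refine ⟨conjBy A g, hconj A hA g g.2, Subgroup.map_injective (⨆ B ∈ S, B : Subgroup Γ).subtype_injective ?_⟩
    rw [RankOneRestrict.map_conjBy_subtype, Subgroup.map_subgroupOf_eq_of_le (hle A hA),
      Subgroup.map_subgroupOf_eq_of_le (hle _ (hconj A hA g g.2))]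
  · rintro _ ⟨A, hA, rfl⟩ _ ⟨B, hB, rfl⟩
    rcases hpair A hA B hB with h | h | h
    · left
      apply Subgroup.map_injective (⨆ B ∈ S, B : Subgroup Γ).subtype_injective
      rw [map_image_comm _ (hle A hA) (hle B hB), h, Subgroup.map_bot]
    · exact Or.inr (Or.inl (RankOneRestrict.pair_subgroupOf h (hle A hA) (hle B hB)))
    · exact Or.inr (Or.inr (commutatorCase_subgroupOf _ hle hA hB h))

end CfsgLib.RootEmbed
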