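import Cfsg.Agent.Lib.RootSubgroups.SL2Pair
import Cfsg.Agent.Lib.RootSubgroups.Restrict

/-!
A conjugation-invariant family of subgroups of a group, seen inside the subgroup it generates.
-/

set_option autoImplicit false

namespace CfsgLib.RootSubgroups.Ambient

open Cfsg CfsgLib.RankOneRestrict

variable {G : Type*} [Group G] {S : Set (Subgroup G)}

/-- The family seen inside the subgroup it generates. -/
abbrev inSpan (S : Set (Subgroup G)) : Set (Subgroup ↥(⨆ B ∈ S, B)) :=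
  (fun A : Subgroup G => A.subgroupOf (⨆ B ∈ S, B)) '' S

theorem le_span {A : Subgroup G} (hA : A ∈ S) : A ≤ ⨆ B ∈ S, B :=
  le_iSup₂ (f := fun (B : Subgroup G) (_ : B ∈ S) => B) A hA

theorem map_sub {A : Subgroup G} (hA : A ∈ S) :
    (A.subgroupOf (⨆ B ∈ S, B)).map (⨆ B ∈ S, B).subtype = A :=
  Subgroup.map_subgroupOf_eq_of_le (le_span hA)

theorem commutator_subgroupOf {A B K : Subgroup G} (hA : A ≤ K) (hB : B ≤ K) :
    ⁅A.subgroupOf K, B.subgroupOf K⁆ = ⁅A, B⁆.subgroupOf K := by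
  apply Subgroup.map_injective K.subtype_injective
  have hle : ⁅A, B⁆ ≤ K := Subgroup.commutator_le.2 fun a ha b hb =>
    K.mul_mem (K.mul_mem (K.mul_mem (hA ha) (hB hb)) (K.inv_mem (hA ha))) (K.inv_mem (hB hb))
  rw [Subgroup.map_commutator, Subgroup.map_subgroupOf_eq_of_le hA, Subgroup.map_subgroupOf_eq_of_le hB,
    Subgroup.map_subgroupOf_eq_of_le hle]

theorem commutatorCase_transfer {A B : Subgroup G} (hA : A ∈ S) (hB : B ∈ S) (h : RootCommutatorCase S A B) :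
    RootCommutatorCase (inSpan S) (A.subgroupOf (⨆ B ∈ S, B)) (B.subgroupOf (⨆ B ∈ S, B)) := by
  obtain ⟨h1, h2, h3, h4⟩ := h
  set K := ⨆ B ∈ S, B with hK
  have hc := commutator_subgroupOf (le_span hA) (le_span hB)
  have hsup : (A.subgroupOf K ⊔ B.subgroupOf K).map K.subtype = A ⊔ B := by
    rw [Subgroup.map_sup, map_sub hA, map_sub hB]
  refine ⟨hc ▸ ⟨_, h1, rfl⟩, ?_, ?_, ?_⟩
  · intro c hc' x hx
    rw [hc] at hc'
    exact Subtype.ext (h2 c.1 hc' x.1 (hsup ▸ Subgroup.mem_map_of_mem K.subtype hx))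
  · intro a ha ha1
    apply Subgroup.map_injective K.subtype_injective
    rw [hc, MonoidHom.map_closure, map_sub h1, ← h3 a.1 ha (fun e => ha1 (Subtype.ext e))]
    congr 1
    ext y
    constructor
    · rintro ⟨_, ⟨b, hb, rfl⟩, rfl⟩
      exact ⟨b.1, hb, rfl⟩
    · rintro ⟨b, hb, rfl⟩
      exact ⟨_, ⟨⟨b, le_span hB hb⟩, hb, rfl⟩, rfl⟩
  · intro b hb hb1
    apply Subgroup.map_injective K.subtype_injective
    rw [hc, MonoidHom.map_closure, map_sub h1, ← h4 b.1 hb (fun e => hb1 (Subtype.ext e))]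
    congr 1
    ext y
    constructor
    · rintro ⟨_, ⟨a, ha, rfl⟩, rfl⟩
      exact ⟨a.1, ha, rfl⟩
    · rintro ⟨a, ha, rfl⟩
      exact ⟨_, ⟨⟨a, le_span hA ha⟩, ha, rfl⟩, rfl⟩

theorem pair_transfer {A B : Subgroup G} (hA : A ∈ S) (hB : B ∈ S) (h : IsRankOnePair A B) :
    IsRankOnePair (A.subgroupOf (⨆ B ∈ S, B)) (B.subgroupOf (⨆ B ∈ S, B)) :=
  pair_subgroupOf h (le_span hA) (le_span hB)

theorem pair_of_transfer {A B : Subgroup G} (hA : A ∈ S) (hB : B ∈ S)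
    (h : IsRankOnePair (A.subgroupOf (⨆ B ∈ S, B)) (B.subgroupOf (⨆ B ∈ S, B))) : IsRankOnePair A B := by
  have := SL2Pair.isRankOnePair_map (⨆ B ∈ S, B).subtype (Subgroup.subtype_injective _) h
  rwa [map_sub hA, map_sub hB] at this

theorem psl2_transfer {k : Type*} [Field k] {A B : Subgroup G} (hA : A ∈ S) (hB : B ∈ S)
    (h : IsPSL2PairOver k A B) :
    IsPSL2PairOver k (A.subgroupOf (⨆ B ∈ S, B)) (B.subgroupOf (⨆ B ∈ S, B)) := by
  obtain ⟨φ, h1, h2, h3, h4⟩ := h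
  set K := ⨆ B ∈ S, B
  have hmem : ∀ x, φ x ∈ K := fun x =>
    sup_le (le_span hA) (le_span hB) (h1 ▸ (⟨x, rfl⟩ : φ x ∈ φ.range))
  refine ⟨φ.codRestrict K hmem, ?_, ?_, ?_, ?_⟩
  · apply Subgroup.map_injective K.subtype_injective
    rw [Subgroup.map_sup, map_sub hA, map_sub hB, ← h1, MonoidHom.map_range]
    rfl
  · intro x hx
    exact h2 (MonoidHom.mem_ker.2 (congrArg Subtype.val (MonoidHom.mem_ker.1 hx)))
  · apply Subgroup.map_injective K.subtype_injective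
    rw [Subgroup.map_map, map_sub hA]
    exact h3
  · apply Subgroup.map_injective K.subtype_injective
    rw [Subgroup.map_map, map_sub hB]
    exact h4

theorem generates_span : (⨆ A ∈ inSpan S, A) = ⊤ := by
  apply Subgroup.map_injective (Subgroup.subtype_injective _)
  refine le_antisymm (Subgroup.map_mono le_top) ?_
  · rw [← MonoidHom.range_eq_map, Subgroup.range_subtype]
    refine iSup₂_le fun A hA => ?_
    conv_lhs => rw [← map_sub hA]
    exact Subgroup.map_mono (le_iSup₂ (f := fun (B : Subgroup _) (_ : B ∈ inSpan S) => B) _ ⟨A, hA, rfl⟩)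

theorem isRootSubgroupSet (hc : ∀ A ∈ S, IsMulCommutative A) (hne : ∀ A ∈ S, A ≠ ⊥)
    (hconj : ∀ A ∈ S, ∀ g : G, conjBy A g ∈ S)
    (hp : ∀ A ∈ S, ∀ B ∈ S, ⁅A, B⁆ = ⊥ ∨ IsRankOnePair A B ∨ RootCommutatorCase S A B) :
    IsRootSubgroupSet (inSpan S) := by
  refine ⟨?_, ?_, generates_span, ?_, ?_⟩
  · rintro _ ⟨A, hA, rfl⟩
    haveI := hc A hA
    refine ⟨⟨fun x y => Subtype.ext ?_⟩⟩
    apply Subtype.ext
    have hxy := congrArg Subtype.val ((hc A hA).is_comm.comm ⟨x.1.1, x.2⟩ ⟨y.1.1, y.2⟩)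
    exact hxy
  · rintro _ ⟨A, hA, rfl⟩ e
    apply hne A hA
    have e' := congrArg (Subgroup.map (⨆ B ∈ S, B).subtype) e
    rwa [map_sub hA, Subgroup.map_bot] at e'
  · rintro _ ⟨A, hA, rfl⟩ g
    refine ⟨conjBy A g.1, hconj A hA g.1, Subgroup.map_injective (Subgroup.subtype_injective _) ?_⟩
    rw [map_sub (hconj A hA g.1), map_conjBy_subtype, map_sub hA]
  · rintro _ ⟨A, hA, rfl⟩ _ ⟨B, hB, rfl⟩
    rcases hp A hA B hB with h | h | h
    · refine Or.inl ?_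
      rw [commutator_subgroupOf (le_span hA) (le_span hB), h, Subgroup.bot_subgroupOf]
    · exact Or.inr (Or.inl (pair_transfer hA hB h))
    · exact Or.inr (Or.inr (commutatorCase_transfer hA hB h))

theorem isKRootSubgroupSet {k : Type*} [Field k] (hS : IsRootSubgroupSet (inSpan S))
    (hp : ∀ A ∈ S, ∀ B ∈ S, IsRankOnePair A B → IsPSL2PairOver k A B) :
    IsKRootSubgroupSet k (inSpan S) := by
  refine ⟨hS, ?_⟩
  rintro _ ⟨A, hA, rfl⟩ _ ⟨B, hB, rfl⟩ h
  exact psl2_transfer hA hB (hp A hA B hB (pair_of_transfer hA hB h))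

theorem connected (hcon : ∀ A ∈ S, ∀ B ∈ S, Relation.ReflTransGen (FAdj S) A B) :
    IsConnectedFamily (FAdj (inSpan S)) (inSpan S) := by
  rintro _ ⟨A, hA, rfl⟩ _ ⟨B, hB, rfl⟩
  have h := hcon A hA B hB
  clear hB
  induction h with
  | refl => exact .refl
  | tail _ h' ih =>
    exact ih.tail ⟨⟨_, h'.1, rfl⟩, ⟨_, h'.2.1, rfl⟩, pair_transfer h'.1 h'.2.1 h'.2.2⟩

/-- When no two members are in the commutator case inside `S`, none are inside the span either. -/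
theorem isDegenerate (hS : IsRootSubgroupSet (inSpan S))
    (hp : ∀ A ∈ S, ∀ B ∈ S, ⁅A, B⁆ = ⊥ ∨ IsRankOnePair A B) : IsDegenerateRootSet (inSpan S) := by
  rintro _ ⟨A, hA, rfl⟩ _ ⟨B, hB, rfl⟩ h
  rcases hp A hA B hB with h0 | h1
  · refine hS.ne_bot _ h.1 ?_
    rw [commutator_subgroupOf (le_span hA) (le_span hB), h0, Subgroup.bot_subgroupOf]
  · exact SL2Pair.not_rankOne_of_commutatorCase hS ⟨B, hB, rfl⟩ h (pair_transfer hA hB h1)

end CfsgLib.RootSubgroups.Ambient
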