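import Cfsg.Agent.Lib.RootSubgroups.RankOne

/-!
A special rank one pair whose unipotent subgroups have more than three elements generates a perfect group.
-/

set_option autoImplicit false

namespace CfsgLib.RankOnePerfect

open Subgroup Cfsg CfsgLib.RankOne

variable {G : Type*} [Group G] {A B : Subgroup G}

theorem eq_of_mem_inter (h : IsRankOnePair A B) {U W : Subgroup G} (hU : U ∈ unipotentSubgroups A B)
    (hW : W ∈ unipotentSubgroups A B) {u : G} (huU : u ∈ U) (huW : u ∈ W) (hu : u ≠ 1) : U = W := by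
  by_contra hne
  obtain ⟨x, -, hxU, hxW⟩ := two_transitive h hU hW self_mem_unipotentSubgroups
    (right_mem_unipotentSubgroups h) hne h.ne
  have h1 : x * u * x⁻¹ ∈ A := hxU ▸ ⟨u, huU, rfl⟩
  have h2 : x * u * x⁻¹ ∈ B := hxW ▸ ⟨u, huW, rfl⟩
  have h3 : x * u * x⁻¹ ∈ (⊥ : Subgroup G) := normalizer_inf_eq_bot h ▸ ⟨h1, le_normalizer h2⟩
  exact hu (conj_eq_one_iff.1 (mem_bot.1 h3))

theorem partner_facts (h : IsSpecialRankOnePair A B) {a b : G} (ha : a ∈ A) (ha1 : a ≠ 1) (hb : b ∈ B)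
    (hb1 : b ≠ 1) (hab : conjBy A b⁻¹ = conjBy B a⁻¹) :
    b * a * b⁻¹ = a * b⁻¹ * a⁻¹ ∧ conjBy B a = conjBy A b ∧ a * b⁻¹ * a = b⁻¹ * a * b⁻¹ ∧
      conjBy A (a * b⁻¹ * a) = B ∧ conjBy B (a * b⁻¹ * a) = A ∧
      (a * b⁻¹ * a) * a * (a * b⁻¹ * a)⁻¹ = b⁻¹ := by
  have e1 : b⁻¹ * a * b = a⁻¹ * b⁻¹ * a := h.2 a ha ha1 b hb hb1 hab
  have e2 : a * b⁻¹ * a * b = b⁻¹ * a := by
    calc a * b⁻¹ * a * b = a * (b⁻¹ * a * b) := by simp only [mul_assoc]
      _ = b⁻¹ * a := by rw [e1]; simp only [mul_assoc, mul_inv_cancel_left]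
  have e3 : b * a * b⁻¹ = a * b⁻¹ * a⁻¹ := by
    calc b * a * b⁻¹ = b * (a * b⁻¹ * a * b) * (b⁻¹ * a⁻¹) := by group
      _ = a * b⁻¹ * a⁻¹ := by rw [e2]; group
  have e4 : a * b⁻¹ * a = b⁻¹ * a * b⁻¹ := eq_mul_inv_of_mul_eq e2
  have hBa : conjBy B a = conjBy A b := by
    refine eq_of_mem_inter h.1
      (conjBy_mem_unipotentSubgroups (right_mem_unipotentSubgroups h.1) (mem_sup_left ha))
      (conjBy_mem_unipotentSubgroups self_mem_unipotentSubgroups (mem_sup_right hb))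
      (u := a * b⁻¹ * a⁻¹) (mem_conjBy.2 ?_) (mem_conjBy.2 ?_) ?_
    · rw [show a⁻¹ * (a * b⁻¹ * a⁻¹) * a = b⁻¹ by group]; exact inv_mem hb
    · rw [← e3, show b⁻¹ * (b * a * b⁻¹) * b = a by group]; exact ha
    · exact fun e => hb1 (inv_eq_one.1 (conj_eq_one_iff.1 e))
  refine ⟨e3, hBa, e4, ?_, ?_, ?_⟩
  · rw [conjBy_mul, conjBy_of_mem ha, conjBy_mul, hab, conjBy_conjBy_inv]
  · rw [e4, conjBy_mul, conjBy_of_mem (inv_mem hb), conjBy_mul, hBa, conjBy_inv_conjBy]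
  · calc a * b⁻¹ * a * a * (a * b⁻¹ * a)⁻¹ = (a * b⁻¹ * a * b) * a⁻¹ := by group
      _ = b⁻¹ := by rw [e2, mul_inv_cancel_right]

/-- Inversion modulo the derived group: a partner element is congruent to the inverse. -/
theorem map_partner (h : IsSpecialRankOnePair A B) {Q : Type*} [CommGroup Q] (f : G → Q)
    (hf : ∀ x ∈ A ⊔ B, ∀ y ∈ A ⊔ B, f (x * y) = f x * f y) {a b : G} (ha : a ∈ A) (ha1 : a ≠ 1) (hb : b ∈ B)
    (hb1 : b ≠ 1) (hab : conjBy A b⁻¹ = conjBy B a⁻¹) : f a * f b = 1 := by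
  have hfi : ∀ x ∈ A ⊔ B, f x⁻¹ = (f x)⁻¹ := by
    intro x hx
    have h1 : f 1 = 1 := by
      have := hf 1 (one_mem _) 1 (one_mem _)
      rw [one_mul] at this
      exact mul_eq_left.1 this.symm
    refine eq_inv_of_mul_eq_one_left ?_
    rw [← hf _ (inv_mem hx) _ hx, inv_mul_cancel, h1]
  have e := congrArg f (h.2 a ha ha1 b hb hb1 hab)
  have hA : a ∈ A ⊔ B := mem_sup_left ha
  have hB : b ∈ A ⊔ B := mem_sup_right hb
  rw [hf _ (mul_mem (inv_mem hB) hA) _ hB, hf _ (inv_mem hB) _ hA,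
    hf _ (mul_mem (inv_mem hA) (inv_mem hB)) _ hA, hf _ (inv_mem hA) _ (inv_mem hB), hfi _ hA, hfi _ hB,
    inv_mul_cancel_comm, inv_mul_cancel_comm] at e
  rw [e, inv_mul_cancel]

theorem map_relation (h : IsSpecialRankOnePair A B) {Q : Type*} [CommGroup Q] (f : G → Q)
    (hf : ∀ x ∈ A ⊔ B, ∀ y ∈ A ⊔ B, f (x * y) = f x * f y) {a x : G} (ha : a ∈ A) (ha1 : a ≠ 1)
    (hx : x ∈ A) (hx1 : x ≠ 1) (hax : a * x ≠ 1) : f a * f x * f x = 1 := by
  have hfi : ∀ x ∈ A ⊔ B, f x⁻¹ = (f x)⁻¹ := by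
    intro x hx
    have h1 : f 1 = 1 := by
      have := hf 1 (one_mem _) 1 (one_mem _)
      rw [one_mul] at this
      exact mul_eq_left.1 this.symm
    refine eq_inv_of_mul_eq_one_left ?_
    rw [← hf _ (inv_mem hx) _ hx, inv_mul_cancel, h1]
  have partner : ∀ c ∈ A, c ≠ 1 → ∃ d ∈ B, d ≠ 1 ∧ f c * f d = 1 ∧ conjBy B c = conjBy A d := by
    intro c hc hc1
    obtain ⟨d, hd, hd1, hcd⟩ := h.1.cond_left c hc hc1
    exact ⟨d, hd, hd1, map_partner h f hf hc hc1 hd hd1 hcd, (partner_facts h hc hc1 hd hd1 hcd).2.1⟩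
  obtain ⟨b, hb, hb1, hab⟩ := h.1.cond_left a ha ha1
  obtain ⟨-, hBa, -, hmA, hmB, hma⟩ := partner_facts h ha ha1 hb hb1 hab
  set m := a * b⁻¹ * a with hm
  have hmX : m ∈ A ⊔ B := mul_mem (mul_mem (mem_sup_left ha) (mem_sup_right (inv_mem hb))) (mem_sup_left ha)
  obtain ⟨bx, hbx, -, hfx, hcx⟩ := partner x hx hx1
  obtain ⟨d, hd, -, hfd, hcd⟩ := partner (a * x) (mul_mem ha hx) hax
  have hbd : b⁻¹ * d ≠ 1 := by
    intro e
    rw [inv_mul_eq_one] at e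
    rw [← e, ← hBa] at hcd
    exact hx1 (mul_eq_left.1 (eq_of_conjBy_eq_right h.1 (mul_mem ha hx) ha hcd))
  have hbdB : b⁻¹ * d ∈ B := mul_mem (inv_mem hb) hd
  obtain ⟨a', ⟨ha', ha'1, hab'⟩, -⟩ := existsUnique_partner' h.1 hbdB hbd
  have hBa' := (partner_facts h ha' ha'1 hbdB hbd hab').2.1
  have hfa' := map_partner h f hf ha' ha'1 hbdB hbd hab'
  have ht : m * bx * m⁻¹ ∈ A := hmB ▸ ⟨bx, hbx, rfl⟩
  have hteq : m * bx * m⁻¹ = a * a' := by
    apply eq_of_conjBy_eq_right h.1 ht (mul_mem ha ha')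
    calc conjBy B (m * bx * m⁻¹) = conjBy (conjBy A m) (m * bx * m⁻¹) := by rw [hmA]
      _ = conjBy (conjBy A bx) m := by rw [← conjBy_mul, ← conjBy_mul, inv_mul_cancel_right]
      _ = conjBy (conjBy B x) m := by rw [hcx]
      _ = conjBy (conjBy (conjBy B (a * x)) b⁻¹) a := by
        rw [← conjBy_mul, ← conjBy_mul, ← conjBy_mul, hm]; simp only [mul_assoc]
      _ = conjBy (conjBy (conjBy A d) b⁻¹) a := by rw [hcd]
      _ = conjBy B (a * a') := by rw [← conjBy_mul A b⁻¹ d, ← hBa', ← conjBy_mul]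
  have hA : ∀ {c : G}, c ∈ A → c ∈ A ⊔ B := fun hc => mem_sup_left hc
  have hB : ∀ {c : G}, c ∈ B → c ∈ A ⊔ B := fun hc => mem_sup_right hc
  have e := congrArg f hteq
  rw [hf _ (mul_mem hmX (hB hbx)) _ (inv_mem hmX), hf _ hmX _ (hB hbx), hfi _ hmX, mul_comm (f m),
    mul_inv_cancel_right, hf _ (hA ha) _ (hA ha'), eq_inv_of_mul_eq_one_right hfx] at e
  have hfb := map_partner h f hf ha ha1 hb hb1 hab
  have hfax : f a * f x * f d = 1 := by rw [← hf _ (hA ha) _ (hA hx)]; exact hfd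
  rw [hf _ (inv_mem (hB hb)) _ (hB hd), hfi _ (hB hb)] at hfa'
  -- `f a' = f x`
  have hx' : f a' = f x := by
    rw [eq_inv_of_mul_eq_one_right hfb, inv_inv, eq_inv_of_mul_eq_one_right hfax, mul_inv_rev,
      mul_comm (f x)⁻¹, mul_inv_cancel_left, mul_inv_eq_one] at hfa'
    exact hfa'
  rw [hx'] at e
  rw [← e, inv_mul_cancel]

theorem exists_avoid (hcard : 3 < ENat.card A) (p q r : G) : ∃ x ∈ A, x ≠ p ∧ x ≠ q ∧ x ≠ r := by
  by_contra hc
  push Not at hc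
  have hsub : (A : Set G) ⊆ {p, q, r} := fun y hy => by
    by_cases h1 : y = p
    · exact Or.inl h1
    by_cases h2 : y = q
    · exact Or.inr (Or.inl h2)
    exact Or.inr (Or.inr (hc y hy h1 h2))
  have h4 := Set.encard_le_encard hsub
  have h5 : ({p, q, r} : Set G).encard ≤ 3 := by
    refine (Set.encard_insert_le _ _).trans ?_
    refine (add_le_add (Set.encard_insert_le _ _) le_rfl).trans ?_
    rw [Set.encard_singleton]
    norm_num
  have h6 : (A : Set G).encard = ENat.card A := rfl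
  rw [h6] at h4
  exact absurd (h4.trans h5) (not_le.2 hcard)

/-- A special rank one pair with more than three elements in `A` lies in the derived group of `A ⊔ B`. -/
theorem sup_le_commutator (h : IsSpecialRankOnePair A B) (hcard : 3 < ENat.card A) :
    A ⊔ B ≤ ⁅A ⊔ B, A ⊔ B⁆ := by
  classical
  let X := A ⊔ B
  let f : G → Abelianization X := fun g => if hg : g ∈ A ⊔ B then Abelianization.of ⟨g, hg⟩ else 1
  have hval : ∀ g (hg : g ∈ A ⊔ B), f g = Abelianization.of (⟨g, hg⟩ : X) := fun g hg => dif_pos hg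
  have hf : ∀ x ∈ A ⊔ B, ∀ y ∈ A ⊔ B, f (x * y) = f x * f y := by
    intro x hx y hy
    rw [hval x hx, hval y hy, hval _ (mul_mem hx hy), ← map_mul]
    rfl
  have hrel := @map_relation G _ A B h (Abelianization X) _ f hf
  have hconst : ∀ a ∈ A, a ≠ 1 → ∀ a' ∈ A, a' ≠ 1 → f a = f a' := by
    intro a ha ha1 a' ha' ha'1
    obtain ⟨x, hx, hx1, hxa, hxa'⟩ := exists_avoid hcard 1 a⁻¹ a'⁻¹
    have e1 := hrel ha ha1 hx hx1 (fun e => hxa (eq_inv_of_mul_eq_one_right e))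
    have e2 := hrel ha' ha'1 hx hx1 (fun e => hxa' (eq_inv_of_mul_eq_one_right e))
    exact mul_right_cancel (mul_right_cancel (e1.trans e2.symm))
  have hone : ∀ a ∈ A, a ≠ 1 → f a = 1 := by
    intro a ha ha1
    obtain ⟨a', ha', ha'1, ha'a, -⟩ := exists_avoid hcard 1 a⁻¹ a⁻¹
    have e := hconst a ha ha1 (a * a') (mul_mem ha ha') fun e => ha'a (eq_inv_of_mul_eq_one_right e)
    rw [hf a (mem_sup_left ha) a' (mem_sup_left ha'), ← hconst a ha ha1 a' ha' ha'1] at e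
    exact mul_eq_left.1 e.symm
  have hmem : ∀ g ∈ A ⊔ B, f g = 1 → g ∈ ⁅A ⊔ B, A ⊔ B⁆ := by
    intro g hg e
    rw [hval g hg, ← MonoidHom.mem_ker, Abelianization.ker_of] at e
    rw [← Subgroup.map_subtype_commutator]
    exact ⟨_, e, rfl⟩
  refine sup_le (fun a ha => ?_) (fun b hb => ?_)
  · rcases eq_or_ne a 1 with rfl | ha1
    · exact one_mem _
    · exact hmem a (mem_sup_left ha) (hone a ha ha1)
  · rcases eq_or_ne b 1 with rfl | hb1
    · exact one_mem _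
    · obtain ⟨a, ⟨ha, ha1, hab⟩, -⟩ := existsUnique_partner' h.1 hb hb1
      refine hmem b (mem_sup_right hb) ?_
      have := map_partner h f hf ha ha1 hb hb1 hab
      rwa [hone a ha ha1, one_mul] at this

end CfsgLib.RankOnePerfect
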