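import Cfsg.Agent.Lib.RootSubgroups.RankOne
import Cfsg.Prelude.Def_Transfer

/-!
Rank one groups with a quadratic module.
-/

namespace CfsgLib.RankOne

open Subgroup Cfsg

variable {X : Type*} [Group X] {A B : Subgroup X} {M : Type*} [AddCommGroup M] [DistribMulAction X M]

/-- The fixed points of `X` on the module. -/
def fixedPts (X : Type*) [Group X] (M : Type*) [AddCommGroup M] [DistribMulAction X M] : AddSubgroup M where
  carrier := {m | ∀ x : X, x • m = m}
  zero_mem' x := smul_zero x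
  add_mem' := fun {m n} hm hn x => by rw [smul_add, hm x, hn x]
  neg_mem' := fun {m} hm x => by rw [smul_neg, hm x]

theorem mem_fixedPts_of_fixed (hX : A ⊔ B = ⊤) {m : M} (hA : ∀ a ∈ A, a • m = m)
    (hB : ∀ b ∈ B, b • m = m) : m ∈ fixedPts X M := by
  intro x
  have hx : x ∈ MulAction.stabilizer X m := by
    have hle : A ⊔ B ≤ MulAction.stabilizer X m := sup_le hA hB
    exact hle (hX ▸ mem_top x)
  exact hx

/-- Conjugation carries quadratic action along. -/
theorem quadratic_conjBy {A : Subgroup X} {x : X}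
    (hq : ∀ a ∈ A, ∀ a' ∈ A, ∀ m : M, a' • (a • m - m) = a • m - m) :
    ∀ a ∈ conjBy A x, ∀ a' ∈ conjBy A x, ∀ m : M, a' • (a • m - m) = a • m - m := by
  intro a ha a' ha' m
  have h := hq _ (mem_conjBy.1 ha) _ (mem_conjBy.1 ha') (x⁻¹ • m)
  have h2 := congrArg (fun v => x • v) h
  simp only [smul_sub, smul_smul, mul_assoc, mul_inv_cancel_left, mul_inv_cancel, mul_one, one_smul] at h2
  simpa only [smul_sub, smul_smul, mul_assoc] using h2

theorem quadratic_right (h : IsRankOneGroup X A B)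
    (hq : ∀ a ∈ A, ∀ a' ∈ A, ∀ m : M, a' • (a • m - m) = a • m - m) :
    ∀ b ∈ B, ∀ b' ∈ B, ∀ m : M, b' • (b • m - m) = b • m - m := by
  obtain ⟨x, -, hx⟩ := right_mem_unipotentSubgroups h.2
  rw [hx]
  exact quadratic_conjBy hq

/-- For a pair `a`, `b` with `b⁻¹Ab = a⁻¹Ba`, the map `α β` is `-1`-inverse: `u ≡ a(b u) - b u` on `[M,A]`. -/
theorem sub_act_act_mem_fixed (h : IsRankOneGroup X A B)
    (hq : ∀ a ∈ A, ∀ a' ∈ A, ∀ m : M, a' • (a • m - m) = a • m - m)
    {a b : X} (ha : a ∈ A) (hb : b ∈ B) (hab : conjBy A b⁻¹ = conjBy B a⁻¹)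
    {a₁ : X} (ha₁ : a₁ ∈ A) (n : M) :
    a₁ • n - n - (a • (b • (a₁ • n - n) - (a₁ • n - n)) - (b • (a₁ • n - n) - (a₁ • n - n))) ∈ fixedPts X M := by
  obtain ⟨htop, hr⟩ := h
  have hqB := quadratic_right ⟨htop, hr⟩ hq
  set u := a₁ • n - n with hu
  have hmem : b⁻¹ * a₁ * b ∈ conjBy B a⁻¹ := by
    rw [← hab]
    exact mem_conjBy.2 (by simpa [mul_assoc] using ha₁)
  rw [mem_conjBy, inv_inv] at hmem
  obtain ⟨b₁, hb₁, hbe⟩ : ∃ b₁ ∈ B, a⁻¹ * b₁ * a = b⁻¹ * a₁ * b :=
    ⟨_, hmem, by group⟩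
  set w := b₁ • (a • (b⁻¹ • n)) - a • (b⁻¹ • n) with hw
  have hfixA : ∀ a' ∈ A, a' • u = u := fun a' ha' => hq a₁ ha₁ a' ha' n
  have hfixB : ∀ b' ∈ B, b' • w = w := fun b' hb' => hqB b₁ hb₁ b' hb' _
  have heq : b⁻¹ • u = a⁻¹ • w := by
    rw [hu, hw, smul_sub, smul_sub, smul_smul, smul_smul, smul_smul, smul_smul, hbe,
      mul_inv_cancel_right, inv_smul_smul]
  -- `b⁻¹ u = 2u - bu` and `a⁻¹ w = 2w - aw`
  have hbu : b • (b • u - u) = b • u - u := hqB b hb b hb u
  have haw : a • (a • w - w) = a • w - w := hq a ha a ha w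
  have h1 : b⁻¹ • u = u + u - b • u := by
    rw [inv_smul_eq_iff, smul_sub, smul_add]
    rw [smul_sub] at hbu
    rw [eq_add_of_sub_eq hbu]
    abel
  have h2 : a⁻¹ • w = w + w - a • w := by
    rw [inv_smul_eq_iff, smul_sub, smul_add]
    rw [smul_sub] at haw
    rw [eq_add_of_sub_eq haw]
    abel
  rw [h1, h2] at heq
  set z := u + (a • w - w) with hz
  have hzA : ∀ a' ∈ A, a' • z = z := fun a' ha' => by rw [hz, smul_add, hfixA a' ha', hq a ha a' ha' w]
  have hz' : z = w + (b • u - u) := by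
    rw [hz, ← sub_eq_zero]
    rw [← sub_eq_zero] at heq
    rw [← heq]
    abel
  have hzB : ∀ b' ∈ B, b' • z = z := fun b' hb' => by rw [hz', smul_add, hfixB b' hb', hqB b hb b' hb' u]
  have hzF : z ∈ fixedPts X M := mem_fixedPts_of_fixed htop hzA hzB
  have hbz : b • u - u = z - w := by rw [hz']; abel
  have hfin : u - (a • (b • u - u) - (b • u - u)) = z := by
    rw [hbz, smul_sub, hzF a, hz]
    abel
  rw [hfin]
  exact hzF

theorem act_sub_mem_fixed_of_mem_conj {C : Subgroup X} {x : X}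
    (hC : ∀ c ∈ C, ∀ n : M, c • n - n ∈ fixedPts X M) :
    ∀ c ∈ conjBy C x, ∀ n : M, c • n - n ∈ fixedPts X M := by
  intro c hc n
  have h := hC _ (mem_conjBy.1 hc) (x⁻¹ • n)
  have h2 : x • ((x⁻¹ * c * x) • (x⁻¹ • n) - x⁻¹ • n) = c • n - n := by
    simp only [smul_sub, smul_smul, mul_assoc, mul_inv_cancel_left, mul_inv_cancel, mul_one, one_smul]
  rw [← h2, h x]
  exact h

/-- If `c ∈ B#` centralizes `[M,A]` modulo fixed points then `[M,X]` consists of fixed points. -/
theorem all_act_sub_mem_fixed (h : IsRankOneGroup X A B)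
    (hq : ∀ a ∈ A, ∀ a' ∈ A, ∀ m : M, a' • (a • m - m) = a • m - m) {c : X} (hc : c ∈ B) (hc1 : c ≠ 1)
    (hfix : ∀ a₁ ∈ A, ∀ n : M, c • (a₁ • n - n) - (a₁ • n - n) ∈ fixedPts X M) :
    ∀ x : X, ∀ n : M, x • n - n ∈ fixedPts X M := by
  obtain ⟨d, ⟨hd, -, hdc⟩, -⟩ := existsUnique_partner' h.2 hc hc1
  have hA : ∀ a₁ ∈ A, ∀ n : M, a₁ • n - n ∈ fixedPts X M := by
    intro a₁ ha₁ n
    have h1 := sub_act_act_mem_fixed h hq hd hc hdc ha₁ n
    rwa [hfix a₁ ha₁ n d, sub_self, sub_zero] at h1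
  obtain ⟨y, -, hy⟩ := right_mem_unipotentSubgroups h.2
  have hB : ∀ b ∈ B, ∀ n : M, b • n - n ∈ fixedPts X M := by
    rw [hy]
    exact act_sub_mem_fixed_of_mem_conj hA
  intro x n
  have hx : x ∈ A ⊔ B := h.1 ▸ mem_top x
  rw [Subgroup.sup_eq_closure] at hx
  induction hx using Subgroup.closure_induction generalizing n with
  | mem y hy' =>
    rcases hy' with hy' | hy'
    · exact hA y hy' n
    · exact hB y hy' n
  | one => rw [one_smul, sub_self]; exact zero_mem _
  | mul y z _ _ ihy ihz =>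
    rw [show (y * z) • n - n = (y • (z • n) - z • n) + (z • n - n) by rw [mul_smul]; abel]
    exact add_mem (ihy _) (ihz n)
  | inv y _ ih =>
    have h1 := neg_mem (ih (y⁻¹ • n))
    rwa [smul_inv_smul, neg_sub] at h1

/-- A rank one group with abelian unipotent subgroups and a non-trivial quadratic module is special. -/
theorem isSpecial_of_quadratic (h : IsRankOneGroup X A B) (hab : HasAbelianUnipotents A B)
    (hq : ∀ a ∈ A, ∀ a' ∈ A, ∀ m : M, a' • (a • m - m) = a • m - m)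
    (hX : ∃ x y : X, ∃ n : M, y • (x • n - n) ≠ x • n - n) : IsSpecialRankOnePair A B := by
  refine ⟨h.2, ?_⟩
  intro a ha ha1 b hb hb1 he
  have hqB := quadratic_right h hq
  have hmem : b⁻¹ * a * b ∈ conjBy B a⁻¹ := by
    rw [← he]
    exact mem_conjBy.2 (by simpa [mul_assoc] using ha)
  rw [mem_conjBy, inv_inv] at hmem
  obtain ⟨b', hb', hbe⟩ : ∃ b' ∈ B, a⁻¹ * b' * a = b⁻¹ * a * b := ⟨_, hmem, by group⟩
  by_contra hne
  have hc1 : b' * b ≠ 1 := by
    intro h1
    apply hne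
    rw [← hbe, eq_inv_of_mul_eq_one_left h1]
  obtain ⟨x, y, n, hxy⟩ := hX
  refine hxy (all_act_sub_mem_fixed h hq (mul_mem hb' hb) hc1 ?_ x n y)
  intro a₁ ha₁ n
  -- the element `u` of `[M,A]` and its image under `α β`
  set u := a₁ • n - n with hu
  set v := b • u - u with hv
  have hzu := sub_act_act_mem_fixed h hq ha hb he ha₁ n
  rw [← hu, ← hv] at hzu
  set z := u - (a • v - v) with hz
  have hau : a • u = u := hq a₁ ha₁ a ha n
  have hbv : b • v = v := hqB b hb b hb u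
  have hb'v : b' • v = v := hqB b hb b' hb' u
  -- apply `b' a = a b⁻¹ a b` to `u` and use `u = (a v - v) + z`
  have hrel : b' • u = a • (b⁻¹ • (a • (b • u))) := by
    conv_lhs => rw [← hau]
    simp only [← mul_smul]
    rw [show b' * a = a * (a⁻¹ * b' * a) by group, hbe]
    simp only [mul_assoc]
  have hav : a • v = v + u - z := by rw [hz]; abel
  have hbu : b • u = v + u := by rw [hv]; abel
  have hb'' : b⁻¹ • u = u - v := by
    rw [inv_smul_eq_iff, smul_sub, hbu, hbv]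
    abel
  have hb'''v : b⁻¹ • v = v := by rw [inv_smul_eq_iff, hbv]
  have key : b' • u = u - v + (u - (u - z) - z) := by
    rw [hrel]
    simp only [hbu, smul_add, smul_sub, hau, hav, hb'''v, hb'', hzu b⁻¹, hzu a]
    abel
  have hsum : (b' * b) • u - u = 0 := by
    rw [mul_smul, hbu, smul_add, hb'v, key]
    abel
  rw [hsum]
  exact zero_mem _

/-- A rank one group with a faithful quadratic module has abelian unipotent subgroups; they are
torsion-free or elementary abelian. -/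
theorem torsion_of_faithful (h : IsRankOneGroup X A B) (hf : ∀ x : X, (∀ v : M, x • v = v) → x = 1)
    (hq : ∀ a ∈ A, ∀ a' ∈ A, ∀ v : M, a' • (a • v - v) = a • v - v) :
    (∀ a ∈ A, a ≠ 1 → ¬ IsOfFinOrder a) ∨ ∃ p : ℕ, p.Prime ∧ IsElementaryAbelian p A := by
  have hmul : ∀ a ∈ A, ∀ a' ∈ A, ∀ v : M, (a * a') • v - v = (a • v - v) + (a' • v - v) := by
    intro a ha a' ha' v
    have := hq a' ha' a ha v
    rw [smul_sub, sub_eq_iff_eq_add] at this
    rw [mul_smul, this]
    abel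
  have hcomm : ∀ a ∈ A, ∀ a' ∈ A, a * a' = a' * a := by
    intro a ha a' ha'
    have : ∀ v : M, (a * a') • v = (a' * a) • v := fun v => sub_left_injective (by
      show (a * a') • v - v = (a' * a) • v - v
      rw [hmul a ha a' ha', hmul a' ha' a ha, add_comm])
    exact inv_mul_eq_one.1 (hf _ fun v => by rw [mul_smul, ← this v, ← mul_smul, inv_mul_cancel, one_smul])
  have hpow : ∀ a ∈ A, ∀ v : M, ∀ k : ℕ, a ^ k • v - v = k • (a • v - v) := by
    intro a ha v k
    induction k with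
    | zero => simp
    | succ k ih => rw [pow_succ, hmul _ (pow_mem ha k) a ha, ih, add_smul, one_smul]
  have hnontriv : ¬ ∀ a₁ ∈ A, ∀ n : M, a₁ • n - n ∈ fixedPts X M := by
    intro hA
    obtain ⟨y, -, hy⟩ := right_mem_unipotentSubgroups h.2
    have hB : ∀ b ∈ B, ∀ n : M, b • n - n ∈ fixedPts X M := by
      rw [hy]
      exact act_sub_mem_fixed_of_mem_conj hA
    apply not_isNilpotent h
    have hAB : ∀ a ∈ A, ∀ b ∈ B, a * b = b * a := by
      intro a ha b hb
      have : ∀ v : M, (a * b) • v = (b * a) • v := fun v => by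
        rw [mul_smul, mul_smul]
        have e1 := hB b hb v a
        have e2 := hA a ha v b
        rw [smul_sub, sub_eq_iff_eq_add] at e1 e2
        rw [e1, e2]
        abel
      exact inv_mul_eq_one.1 (hf _ fun v => by rw [mul_smul, ← this v, ← mul_smul, inv_mul_cancel, one_smul])
    have hall : ∀ x y : X, x * y = y * x := by
      have hBB : ∀ b ∈ B, ∀ b' ∈ B, b * b' = b' * b := by
        intro b hb b' hb'
        rw [hy] at hb hb'
        obtain ⟨a, ha, rfl⟩ := hb
        obtain ⟨a', ha', rfl⟩ := hb'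
        rw [← map_mul, hcomm a ha a' ha', map_mul]
      intro x y'
      have hc : A ⊔ B ≤ centralizer ((A : Set X) ∪ (B : Set X)) := by
        refine sup_le ?_ ?_ <;> intro g hg <;> rw [mem_centralizer_iff] <;> rintro k (hk | hk)
        · exact hcomm k hk g hg
        · exact (hAB g hg k hk).symm
        · exact hAB k hk g hg
        · exact hBB k hk g hg
      have hc2 : A ⊔ B ≤ centralizer ((A ⊔ B : Subgroup X) : Set X) := by
        rw [Subgroup.sup_eq_closure, centralizer_closure, ← Subgroup.sup_eq_closure]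
        exact hc
      rw [h.1] at hc2
      exact mem_centralizer_iff.1 (hc2 (mem_top y')) x (mem_top x)
    refine ⟨⟨1, ?_⟩⟩
    rw [Subgroup.upperCentralSeries_one, eq_top_iff]
    exact fun x _ => mem_center_iff.2 fun y => hall y x
  by_cases htors : ∀ a ∈ A, a ≠ 1 → ¬ IsOfFinOrder a
  · exact Or.inl htors
  push Not at htors
  obtain ⟨a₀, ha₀, ha₀1, hfin⟩ := htors
  obtain ⟨p, hp, hdvd⟩ := Nat.exists_prime_and_dvd (fun h1 => ha₀1 (orderOf_eq_one_iff.1 h1))
  set a := a₀ ^ (orderOf a₀ / p) with ha_def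
  have ha : a ∈ A := pow_mem ha₀ _
  have hordera : orderOf a = p := orderOf_pow_orderOf_div hfin.orderOf_pos.ne' hdvd
  have ha1 : a ≠ 1 := fun e => hp.ne_one (hordera.symm.trans (orderOf_eq_one_iff.2 e))
  obtain ⟨b, ⟨hb, -, hab⟩, -⟩ := existsUnique_partner h.2 ha ha1
  have hp0 : ∀ v : M, p • (a • v - v) = 0 := fun v => by
    rw [← hpow a ha v p, ← hordera, pow_orderOf_eq_one, one_smul, sub_self]
  have hU : ∀ a₁ ∈ A, ∀ n : M, p • (a₁ • n - n) ∈ fixedPts X M := by
    intro a₁ ha₁ n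
    have h1 := sub_act_act_mem_fixed h hq ha hb hab ha₁ n
    have h2 := nsmul_mem h1 p
    rwa [smul_sub, hp0, sub_zero] at h2
  refine Or.inr ⟨p, hp, ⟨⟨fun x y => Subtype.ext (hcomm x x.2 y y.2)⟩⟩, fun a' ha' => ?_⟩
  by_contra hne
  set e := a' ^ p
  have he : ∀ n : M, e • n - n ∈ fixedPts X M := fun n => by
    rw [hpow a' ha' n p]
    exact hU a' ha' n
  obtain ⟨c, ⟨hc, -, hec⟩, -⟩ := existsUnique_partner h.2 (pow_mem ha' p) hne
  refine hnontriv fun a₁ ha₁ n => ?_
  have h1 := sub_act_act_mem_fixed h hq (pow_mem ha' p) hc hec ha₁ n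
  have h2 := add_mem h1 (he (c • (a₁ • n - n) - (a₁ • n - n)))
  rwa [sub_add_cancel] at h2

end CfsgLib.RankOne
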