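import Cfsg.Prelude.Def_RootSubgroups

/-!
Elementary theory of rank one groups.
-/

namespace CfsgLib.RankOne

open Subgroup Cfsg

variable {G : Type*} [Group G] {A B : Subgroup G}

theorem mem_conjBy {A : Subgroup G} {g x : G} : x ∈ conjBy A g ↔ g⁻¹ * x * g ∈ A := by
  constructor
  · rintro ⟨a, ha, rfl⟩
    simpa [mul_assoc] using ha
  · intro h
    exact ⟨_, h, by simp [mul_assoc]⟩

theorem conjBy_mul (A : Subgroup G) (g h : G) : conjBy A (g * h) = conjBy (conjBy A h) g := by
  ext x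
  simp only [mem_conjBy, mul_inv_rev]
  simp only [mul_assoc]

theorem conjBy_one (A : Subgroup G) : conjBy A 1 = A := by
  ext x; simp [mem_conjBy]

theorem conjBy_inv_conjBy (A : Subgroup G) (g : G) : conjBy (conjBy A g) g⁻¹ = A := by
  rw [← conjBy_mul, inv_mul_cancel, conjBy_one]

theorem conjBy_conjBy_inv (A : Subgroup G) (g : G) : conjBy (conjBy A g⁻¹) g = A := by
  rw [← conjBy_mul, mul_inv_cancel, conjBy_one]

theorem conjBy_eq_self_iff {A : Subgroup G} {g : G} :
    conjBy A g = A ↔ g ∈ normalizer (A : Set G) := by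
  constructor
  · intro h
    rw [mem_normalizer_iff]
    intro x
    constructor
    · intro hx
      exact h.le ⟨x, hx, rfl⟩
    · intro hx
      have := mem_conjBy.1 (h.ge hx)
      simpa [mul_assoc] using this
  · intro h
    ext x
    rw [mem_conjBy, mem_normalizer_iff.1 h (g⁻¹ * x * g)]
    simp [mul_assoc]

theorem conjBy_injective {A B : Subgroup G} {g : G} (h : conjBy A g = conjBy B g) : A = B := by
  rw [← conjBy_inv_conjBy A g, h, conjBy_inv_conjBy]

theorem conjBy_of_mem {A : Subgroup G} {g : G} (hg : g ∈ A) : conjBy A g = A :=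
  conjBy_eq_self_iff.2 (le_normalizer hg)

theorem inv_mul_mem_normalizer_iff {A : Subgroup G} {g h : G} :
    g⁻¹ * h ∈ normalizer (A : Set G) ↔ conjBy A h = conjBy A g := by
  rw [← conjBy_eq_self_iff, conjBy_mul]
  constructor
  · intro e
    rw [← conjBy_conjBy_inv (conjBy A h) g, e]
  · intro e
    rw [e, conjBy_inv_conjBy]

theorem normalizer_inf_eq_bot (h : IsRankOnePair A B) : A ⊓ normalizer (B : Set G) = ⊥ := by
  rw [eq_bot_iff]
  rintro a ⟨haA, haN⟩
  rw [mem_bot]
  by_contra ha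
  obtain ⟨b, hb, _, hab⟩ := h.cond_left a haA ha
  rw [conjBy_eq_self_iff.2 (inv_mem haN)] at hab
  apply h.ne
  rw [← conjBy_conjBy_inv A b, hab, conjBy_of_mem hb]

theorem normalizer_inf_eq_bot' (h : IsRankOnePair A B) : B ⊓ normalizer (A : Set G) = ⊥ :=
  normalizer_inf_eq_bot (RankOnePair_symm h)

theorem eq_of_conjBy_eq_right (h : IsRankOnePair A B) {a a' : G} (ha : a ∈ A) (ha' : a' ∈ A)
    (he : conjBy B a = conjBy B a') : a = a' := by
  have h1 : a'⁻¹ * a ∈ A ⊓ normalizer (B : Set G) :=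
    mem_inf.2 ⟨mul_mem (inv_mem ha') ha, inv_mul_mem_normalizer_iff.2 he⟩
  rw [normalizer_inf_eq_bot h, mem_bot, inv_mul_eq_one] at h1
  exact h1.symm

theorem eq_of_conjBy_eq_left (h : IsRankOnePair A B) {b b' : G} (hb : b ∈ B) (hb' : b' ∈ B)
    (he : conjBy A b = conjBy A b') : b = b' :=
  eq_of_conjBy_eq_right (RankOnePair_symm h) hb hb' he

theorem existsUnique_partner (h : IsRankOnePair A B) {a : G} (ha : a ∈ A) (ha1 : a ≠ 1) :
    ∃! b : G, b ∈ B ∧ b ≠ 1 ∧ conjBy A b⁻¹ = conjBy B a⁻¹ := by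
  obtain ⟨b, hb, hb1, hab⟩ := h.cond_left a ha ha1
  refine ⟨b, ⟨hb, hb1, hab⟩, ?_⟩
  rintro b' ⟨hb', -, hab'⟩
  exact inv_injective (eq_of_conjBy_eq_left h (inv_mem hb') (inv_mem hb) (hab'.trans hab.symm))

theorem existsUnique_partner' (h : IsRankOnePair A B) {b : G} (hb : b ∈ B) (hb1 : b ≠ 1) :
    ∃! a : G, a ∈ A ∧ a ≠ 1 ∧ conjBy A b⁻¹ = conjBy B a⁻¹ := by
  obtain ⟨a, ⟨ha, ha1, hab⟩, hu⟩ := existsUnique_partner (RankOnePair_symm h) hb hb1
  exact ⟨a, ⟨ha, ha1, hab.symm⟩, fun a' h' => hu a' ⟨h'.1, h'.2.1, h'.2.2.symm⟩⟩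

theorem left_ne_bot (h : IsRankOnePair A B) : A ≠ ⊥ := by
  intro hA
  apply h.ne
  rw [hA, eq_comm, eq_bot_iff]
  intro b hb
  rw [mem_bot]
  by_contra hb1
  obtain ⟨a, ha, ha1, -⟩ := h.cond_right b hb hb1
  rw [hA, mem_bot] at ha
  exact ha1 ha

theorem right_ne_bot (h : IsRankOnePair A B) : B ≠ ⊥ :=
  left_ne_bot (RankOnePair_symm h)

/-- The unipotent subgroups are `A` and the conjugates of `B` under `A`. -/
theorem mem_unipotentSubgroups_iff (h : IsRankOnePair A B) {C : Subgroup G} :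
    C ∈ unipotentSubgroups A B ↔ C = A ∨ ∃ a ∈ A, C = conjBy B a := by
  constructor
  · have key : ∀ x ∈ A ⊔ B, ∀ C : Subgroup G, (C = A ∨ ∃ a ∈ A, C = conjBy B a) →
        (conjBy C x = A ∨ ∃ a ∈ A, conjBy C x = conjBy B a) := by
      intro x hx
      rw [Subgroup.sup_eq_closure] at hx
      induction hx using Subgroup.closure_induction'' with
      | one => intro C hC; rw [conjBy_one]; exact hC
      | mul y z _ _ ihy ihz =>
        intro C hC
        rw [conjBy_mul]
        exact ihy _ (ihz _ hC)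
      | mem y hy =>
        intro C hC
        rcases hy with hy | hy
        · rcases hC with rfl | ⟨a, ha, rfl⟩
          · exact Or.inl (conjBy_of_mem hy)
          · exact Or.inr ⟨y * a, mul_mem hy ha, (conjBy_mul B y a).symm⟩
        · have toB : ∀ C : Subgroup G, (C = B ∨ ∃ b ∈ B, C = conjBy A b) →
              (C = A ∨ ∃ a ∈ A, C = conjBy B a) := by
            rintro C (rfl | ⟨b, hb, rfl⟩)
            · exact Or.inr ⟨1, one_mem A, (conjBy_one C).symm⟩
            · rcases eq_or_ne b 1 with rfl | hb1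
              · exact Or.inl (conjBy_one A)
              · obtain ⟨a, ⟨ha, -, hab⟩, -⟩ := existsUnique_partner' h (inv_mem hb) (inv_ne_one.2 hb1)
                rw [inv_inv] at hab
                exact Or.inr ⟨a⁻¹, inv_mem ha, hab⟩
          have fromA : C = B ∨ ∃ b ∈ B, C = conjBy A b := by
            rcases hC with rfl | ⟨a, ha, rfl⟩
            · exact Or.inr ⟨1, one_mem B, (conjBy_one C).symm⟩
            · rcases eq_or_ne a 1 with rfl | ha1
              · exact Or.inl (conjBy_one B)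
              · obtain ⟨b, ⟨hb, -, hab⟩, -⟩ := existsUnique_partner h (inv_mem ha) (inv_ne_one.2 ha1)
                rw [inv_inv] at hab
                exact Or.inr ⟨b⁻¹, inv_mem hb, hab.symm⟩
          refine toB _ ?_
          rcases fromA with rfl | ⟨b, hb, rfl⟩
          · exact Or.inl (conjBy_of_mem hy)
          · exact Or.inr ⟨y * b, mul_mem hy hb, (conjBy_mul A y b).symm⟩
      | inv_mem y hy =>
        intro C hC
        rcases hy with hy | hy
        · rcases hC with rfl | ⟨a, ha, rfl⟩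
          · exact Or.inl (conjBy_of_mem (inv_mem hy))
          · exact Or.inr ⟨y⁻¹ * a, mul_mem (inv_mem hy) ha, (conjBy_mul B _ a).symm⟩
        · have toB : ∀ C : Subgroup G, (C = B ∨ ∃ b ∈ B, C = conjBy A b) →
              (C = A ∨ ∃ a ∈ A, C = conjBy B a) := by
            rintro C (rfl | ⟨b, hb, rfl⟩)
            · exact Or.inr ⟨1, one_mem A, (conjBy_one C).symm⟩
            · rcases eq_or_ne b 1 with rfl | hb1
              · exact Or.inl (conjBy_one A)
              · obtain ⟨a, ⟨ha, -, hab⟩, -⟩ := existsUnique_partner' h (inv_mem hb) (inv_ne_one.2 hb1)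
                rw [inv_inv] at hab
                exact Or.inr ⟨a⁻¹, inv_mem ha, hab⟩
          have fromA : C = B ∨ ∃ b ∈ B, C = conjBy A b := by
            rcases hC with rfl | ⟨a, ha, rfl⟩
            · exact Or.inr ⟨1, one_mem B, (conjBy_one C).symm⟩
            · rcases eq_or_ne a 1 with rfl | ha1
              · exact Or.inl (conjBy_one B)
              · obtain ⟨b, ⟨hb, -, hab⟩, -⟩ := existsUnique_partner h (inv_mem ha) (inv_ne_one.2 ha1)
                rw [inv_inv] at hab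
                exact Or.inr ⟨b⁻¹, inv_mem hb, hab.symm⟩
          refine toB _ ?_
          rcases fromA with rfl | ⟨b, hb, rfl⟩
          · exact Or.inl (conjBy_of_mem (inv_mem hy))
          · exact Or.inr ⟨y⁻¹ * b, mul_mem (inv_mem hy) hb, (conjBy_mul A _ b).symm⟩
    rintro ⟨x, hx, rfl⟩
    exact key x hx A (Or.inl rfl)
  · rintro (rfl | ⟨a, ha, rfl⟩)
    · exact ⟨1, one_mem _, (conjBy_one C).symm⟩
    · obtain ⟨b, hb⟩ := (nontrivial_iff_exists_ne_one B).1 ((nontrivial_iff_ne_bot B).2 (right_ne_bot h))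
      obtain ⟨hb, hb1⟩ := hb
      obtain ⟨a', ⟨ha', -, hab⟩, -⟩ := existsUnique_partner' h hb hb1
      refine ⟨a * (a' * b⁻¹), mul_mem (mem_sup_left ha) (mul_mem (mem_sup_left ha') (mem_sup_right (inv_mem hb))), ?_⟩
      rw [conjBy_mul, conjBy_mul, hab, conjBy_conjBy_inv]

theorem conjBy_ne_left (h : IsRankOnePair A B) {a : G} (ha : a ∈ A) : conjBy B a ≠ A := by
  intro he
  apply h.ne
  rw [← conjBy_inv_conjBy B a, he, conjBy_of_mem (inv_mem ha)]

theorem self_mem_unipotentSubgroups : A ∈ unipotentSubgroups A B :=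
  ⟨1, one_mem _, (conjBy_one A).symm⟩

theorem right_mem_unipotentSubgroups (h : IsRankOnePair A B) : B ∈ unipotentSubgroups A B :=
  (mem_unipotentSubgroups_iff h).2 (Or.inr ⟨1, one_mem A, (conjBy_one B).symm⟩)

theorem conjBy_mem_unipotentSubgroups {C : Subgroup G} (hC : C ∈ unipotentSubgroups A B) {x : G}
    (hx : x ∈ A ⊔ B) : conjBy C x ∈ unipotentSubgroups A B := by
  obtain ⟨y, hy, rfl⟩ := hC
  exact ⟨x * y, mul_mem hx hy, (conjBy_mul A x y).symm⟩

theorem exists_conjBy_eq {C : Subgroup G} (hC : C ∈ unipotentSubgroups A B) :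
    ∃ x ∈ A ⊔ B, conjBy C x = A := by
  obtain ⟨y, hy, rfl⟩ := hC
  exact ⟨y⁻¹, inv_mem hy, conjBy_inv_conjBy A y⟩

/-- `A` is regular on the unipotent subgroups other than `A`. -/
theorem existsUnique_conjBy (h : IsRankOnePair A B) {C D : Subgroup G}
    (hC : C ∈ unipotentSubgroups A B) (hD : D ∈ unipotentSubgroups A B) (hCA : C ≠ A) (hDA : D ≠ A) :
    ∃! a : G, a ∈ A ∧ conjBy C a = D := by
  obtain ⟨c, hc, rfl⟩ := ((mem_unipotentSubgroups_iff h).1 hC).resolve_left hCA
  obtain ⟨d, hd, rfl⟩ := ((mem_unipotentSubgroups_iff h).1 hD).resolve_left hDA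
  refine ⟨d * c⁻¹, ⟨mul_mem hd (inv_mem hc), by rw [← conjBy_mul, inv_mul_cancel_right]⟩, ?_⟩
  rintro a ⟨ha, hae⟩
  rw [← conjBy_mul] at hae
  rw [eq_mul_inv_iff_mul_eq]
  exact eq_of_conjBy_eq_right h (mul_mem ha hc) hd hae

theorem two_transitive (h : IsRankOnePair A B) {C₁ C₂ D₁ D₂ : Subgroup G}
    (hC₁ : C₁ ∈ unipotentSubgroups A B) (hC₂ : C₂ ∈ unipotentSubgroups A B)
    (hD₁ : D₁ ∈ unipotentSubgroups A B) (hD₂ : D₂ ∈ unipotentSubgroups A B)
    (hC : C₁ ≠ C₂) (hD : D₁ ≠ D₂) :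
    ∃ x ∈ A ⊔ B, conjBy C₁ x = D₁ ∧ conjBy C₂ x = D₂ := by
  obtain ⟨y, hy, hyA⟩ := exists_conjBy_eq hC₁
  obtain ⟨z, hz, hzA⟩ := exists_conjBy_eq hD₁
  obtain ⟨a, ⟨ha, hae⟩, -⟩ := existsUnique_conjBy h (conjBy_mem_unipotentSubgroups hC₂ hy)
    (conjBy_mem_unipotentSubgroups hD₂ hz)
    (fun he => hC (conjBy_injective (hyA.trans he.symm))) (fun he => hD (conjBy_injective (hzA.trans he.symm)))
  refine ⟨z⁻¹ * (a * y), mul_mem (inv_mem hz) (mul_mem (mem_sup_left ha) hy), ?_, ?_⟩
  · rw [conjBy_mul, conjBy_mul, hyA, conjBy_of_mem ha, ← hzA, conjBy_inv_conjBy]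
  · rw [conjBy_mul, conjBy_mul, hae, conjBy_inv_conjBy]

/-! ### Rank one groups: normal subgroups and centre -/

variable {X : Type*} [Group X] {A B : Subgroup X}

theorem conjBy_le_sup_normal {N C : Subgroup X} [N.Normal] {x : X} (hx : x ∈ N ⊔ C) {D : Subgroup X}
    (hD : D ≤ N ⊔ C) : conjBy D x ≤ N ⊔ C := by
  rintro _ ⟨d, hd, rfl⟩
  exact mul_mem (mul_mem hx (hD hd)) (inv_mem hx)

theorem normal_sup_eq_top_or_le_center (h : IsRankOneGroup X A B) (N : Subgroup X) [hN : N.Normal] :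
    N ⊔ A = ⊤ ∨ N ≤ center X := by
  obtain ⟨htop, h⟩ := h
  by_cases hfix : N ≤ normalizer (A : Set X)
  · right
    obtain ⟨x, hx, hxe⟩ := two_transitive h self_mem_unipotentSubgroups (right_mem_unipotentSubgroups h)
      (right_mem_unipotentSubgroups h) self_mem_unipotentSubgroups h.ne h.ne.symm
    have hfixB : N ≤ normalizer (B : Set X) := by
      intro n hn
      have h1 : conjBy A (x⁻¹ * n * x) = A :=
        conjBy_eq_self_iff.2 (hfix (by simpa using hN.conj_mem n hn x⁻¹))
      rw [conjBy_mul, conjBy_mul, hxe.1] at h1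
      rw [← conjBy_eq_self_iff, ← conjBy_conjBy_inv (conjBy B n) x, h1, hxe.1]
    have key : ∀ P Q : Subgroup X, N ≤ normalizer (P : Set X) → P ⊓ normalizer (Q : Set X) = ⊥ →
        N ≤ normalizer (Q : Set X) → N ≤ centralizer (P : Set X) := by
      intro P Q hP hPQ hQ n hn
      rw [mem_centralizer_iff]
      intro a ha
      have h1 : a * n * a⁻¹ * n⁻¹ ∈ P := by
        rw [mul_assoc a n, mul_assoc a]
        exact mul_mem ha ((mem_normalizer_iff.1 (hP hn) _).1 (inv_mem ha))
      have h2 : a * n * a⁻¹ * n⁻¹ ∈ N := mul_mem (hN.conj_mem n hn a) (inv_mem hn)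
      have h3 : a * n * a⁻¹ * n⁻¹ ∈ (⊥ : Subgroup X) := hPQ ▸ ⟨h1, hQ h2⟩
      rw [mem_bot, mul_inv_eq_one, mul_inv_eq_iff_eq_mul] at h3
      exact h3
    intro n hn
    rw [← Subgroup.centralizer_univ, ← Subgroup.coe_top, ← htop, mem_centralizer_iff]
    have hle : A ⊔ B ≤ centralizer ({n} : Set X) := by
      refine sup_le ?_ ?_ <;> intro a ha <;> rw [mem_centralizer_singleton_iff]
      · exact (mem_centralizer_iff.1 (key A B hfix (normalizer_inf_eq_bot h) hfixB hn) a ha)
      · exact (mem_centralizer_iff.1 (key B A hfixB (normalizer_inf_eq_bot' h) hfix hn) a ha)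
    intro m hm
    exact mem_centralizer_singleton_iff.1 (hle hm)
  · left
    obtain ⟨n, hn, hnA⟩ := SetLike.not_le_iff_exists.1 hfix
    have hne : conjBy A n ≠ A := fun he => hnA (conjBy_eq_self_iff.1 he)
    have hmem : conjBy A n ∈ unipotentSubgroups A B := ⟨n, htop ▸ mem_top n, rfl⟩
    obtain ⟨a, ⟨ha, hae⟩, -⟩ := existsUnique_conjBy h hmem (right_mem_unipotentSubgroups h) hne h.ne.symm
    rw [eq_top_iff, ← htop]
    refine sup_le le_sup_right ?_
    rw [← hae]
    exact conjBy_le_sup_normal (mem_sup_right ha) (conjBy_le_sup_normal (mem_sup_left hn) le_sup_right)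

/-- In a nilpotent group a subgroup whose normal closure is everything is everything. -/
theorem eq_top_of_isNilpotent {C : Subgroup X} [Group.IsNilpotent X]
    (hC : Subgroup.normalClosure (C : Set X) = ⊤) : C = ⊤ := by
  have hsn : ∀ n, n ≤ Group.nilpotencyClass X →
      (C ⊔ Subgroup.upperCentralSeries X (Group.nilpotencyClass X - n)).IsSubnormal := by
    intro n
    induction n with
    | zero => intro _; rw [Nat.sub_zero, Subgroup.upperCentralSeries_nilpotencyClass, sup_top_eq]; exact IsSubnormal.top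
    | succ n ih =>
      intro hn
      obtain ⟨k, hk⟩ : ∃ k, Group.nilpotencyClass X - n = k + 1 := ⟨Group.nilpotencyClass X - (n + 1), by omega⟩
      have ih' := ih (by omega)
      rw [hk] at ih'
      rw [show Group.nilpotencyClass X - (n + 1) = k by omega]
      have hle : C ⊔ Subgroup.upperCentralSeries X k ≤ C ⊔ Subgroup.upperCentralSeries X (k + 1) :=
        sup_le_sup_left (Subgroup.upperCentralSeries_mono X (Nat.le_succ k)) _
      refine IsSubnormal.step _ _ hle ih' ((normal_subgroupOf_iff_le_normalizer hle).2 (sup_le (le_sup_left.trans le_normalizer) ?_))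
      intro z hz
      rw [← conjBy_eq_self_iff]
      apply le_antisymm
      · rintro _ ⟨w, hw, rfl⟩
        show z * w * z⁻¹ ∈ _
        have h1 : z * w * z⁻¹ * w⁻¹ ∈ Subgroup.upperCentralSeries X k :=
          (Subgroup.mem_upperCentralSeries_succ_iff.1 hz) w
        have := mul_mem (mem_sup_right (S := C) h1) hw
        simpa using this
      · intro w hw
        rw [mem_conjBy]
        have h1 : z⁻¹ * w * z⁻¹⁻¹ * w⁻¹ ∈ Subgroup.upperCentralSeries X k :=
          (Subgroup.mem_upperCentralSeries_succ_iff.1 (inv_mem hz)) w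
        rw [inv_inv] at h1
        have := mul_mem (mem_sup_right (S := C) h1) hw
        simpa using this
  have h0 := hsn (Group.nilpotencyClass X) le_rfl
  rw [Nat.sub_self, Subgroup.upperCentralSeries_zero, sup_bot_eq] at h0
  rcases h0.lt_normal with h | ⟨K, hK, hle, hlt⟩
  · exact h
  · exact absurd (top_le_iff.1 (hC ▸ Subgroup.normalClosure_le_normal hle)) hlt.ne

theorem not_isNilpotent (h : IsRankOneGroup X A B) : ¬ Group.IsNilpotent X := by
  obtain ⟨htop, h⟩ := h
  intro hnil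
  have hC : Subgroup.normalClosure (A : Set X) = ⊤ := by
    rw [eq_top_iff, ← htop]
    refine sup_le Subgroup.le_normalClosure ?_
    obtain ⟨x, -, hx⟩ := right_mem_unipotentSubgroups h
    rw [hx]
    rintro _ ⟨a, ha, rfl⟩
    exact Subgroup.normalClosure_normal.conj_mem a (Subgroup.le_normalClosure ha) x
  have hA := eq_top_of_isNilpotent hC
  apply right_ne_bot h
  have := normalizer_inf_eq_bot' h
  rwa [hA, normalizer_eq_top_iff.2 inferInstance, inf_top_eq] at this

end CfsgLib.RankOne
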