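import Cfsg.Prelude.Def_RootSubgroups
import Cfsg.Agent.Lib.Invol.BaerSuzuki
import Cfsg.Agent.Lib.Invol.Dihedral
import Cfsg.Agent.Lib.Cores.Basic

/-!
Elementary theory of sets of root involutions.
-/

set_option autoImplicit false

namespace CfsgLib.RootInvol

open Cfsg CfsgLib.Invol

variable {G : Type*} [Group G] {D : Set G}

theorem sq (hD : IsRootInvolutionSet D) {a : G} (ha : a ∈ D) : a * a = 1 :=
  mul_self_of_orderOf_two (hD.orderOf_eq a ha)

theorem inv_eq (hD : IsRootInvolutionSet D) {a : G} (ha : a ∈ D) : a⁻¹ = a :=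
  inv_eq_of_orderOf_two (hD.orderOf_eq a ha)

theorem conj_mem' (hD : IsRootInvolutionSet D) {a x : G} (ha : a ∈ D) (hx : x ∈ D) : x * a * x ∈ D := by
  have := hD.conj_mem a ha x
  rwa [inv_eq hD hx] at this

theorem four_ne_comm (hD : IsRootInvolutionSet D) {a b : G} (ha : a ∈ D) (hb : b ∈ D) (h : orderOf (a * b) = 4) :
    a * b ≠ b * a := by
  intro hc
  have h2 : (a * b) ^ 2 = 1 := by
    rw [(show Commute a b from hc).mul_pow, pow_two, pow_two, sq hD ha, sq hD hb, one_mul]
  have := orderOf_dvd_of_pow_eq_one h2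
  rw [h] at this
  norm_num at this

theorem odd_ne_comm (hD : IsRootInvolutionSet D) {a b : G} (ha : a ∈ D) (hb : b ∈ D) (hne : a ≠ b)
    (h : Odd (orderOf (a * b))) : a * b ≠ b * a := by
  intro hc
  have h2 : (a * b) ^ 2 = 1 := by
    rw [(show Commute a b from hc).mul_pow, pow_two, pow_two, sq hD ha, sq hD hb, one_mul]
  rcases (Nat.dvd_prime Nat.prime_two).1 (orderOf_dvd_of_pow_eq_one h2) with h1 | h1
  · refine hne ?_
    have := orderOf_eq_one_iff.1 h1
    rw [eq_inv_of_mul_eq_one_left this, inv_eq hD hb]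
  · rw [h1] at h
    exact absurd h (by decide)

/-- The square of a product of order four. -/
theorem four_sq (hD : IsRootInvolutionSet D) {a b : G} (ha : a ∈ D) (hb : b ∈ D) (h : orderOf (a * b) = 4) :
    (a * b) ^ 2 ∈ D ∧ Commute a ((a * b) ^ 2) ∧ Commute b ((a * b) ^ 2) ∧ a * (a * b) ^ 2 = b * a * b ∧
      a * (a * b) ^ 2 ∈ D ∧ a ≠ (a * b) ^ 2 := by
  have hmem : (a * b) ^ 2 ∈ D := by
    rcases hD.pair a ha b hb with h1 | h1 | h1
    · exact absurd h1 (four_ne_comm hD ha hb h)
    · rw [h] at h1; exact absurd h1 (by decide)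
    · exact h1.2
  have h4 : (a * b) ^ 2 * (a * b) ^ 2 = 1 := by rw [← pow_add, show 2 + 2 = orderOf (a * b) from h.symm, pow_orderOf_eq_one]
  have e : a * (a * b) ^ 2 = b * a * b := by simp only [pow_two, ← mul_assoc, sq hD ha, one_mul]
  have hrev : (a * b) ^ 2 = (b * a) ^ 2 := by
    rw [eq_inv_of_mul_eq_one_left h4, ← inv_pow, mul_inv_rev, inv_eq hD ha, inv_eq hD hb]
  have hca : Commute a ((a * b) ^ 2) := by
    show a * (a * b) ^ 2 = (a * b) ^ 2 * a
    conv_rhs => rw [hrev, pow_two, mul_assoc, mul_assoc b a a, sq hD ha, mul_one]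
    exact e
  refine ⟨hmem, hca, ?_, e, ?_, ?_⟩
  · show b * (a * b) ^ 2 = (a * b) ^ 2 * b
    conv_lhs => rw [hrev]; simp only [pow_two, ← mul_assoc, sq hD hb, one_mul]
    rw [pow_two, mul_assoc (a * b), mul_assoc a b b, sq hD hb, mul_one]
  · rw [e]; exact conj_mem' hD ha hb
  · intro heq
    apply four_ne_comm hD ha hb h
    have h1 : b * a * b = 1 := by rw [← e, ← heq, sq hD ha]
    have hb1 : a = b * 1 * b := by rw [← h1]; simp [← mul_assoc, sq hD hb, mul_assoc a b b]
    rw [mul_one, sq hD hb] at hb1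
    rw [hb1, one_mul, mul_one]

/-- In a triple of commuting members, a member odd to one of them commutes with none of the others. -/
theorem triple_not_comm [Finite G] (hD : IsRootInvolutionSet D) {a c x : G} (ha : a ∈ D) (hc : c ∈ D)
    (hac : a * c = c * a) (he : a * c ∈ D) (hx : x ∈ D) (hcx : c ≠ x) (hodd : Odd (orderOf (c * x))) :
    a * x ≠ x * a := by
  intro hax
  have hcomm : Commute a (c * x) := (show Commute a c from hac).mul_right hax
  have hord : orderOf (a * c * x) = 2 * orderOf (c * x) := by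
    rw [mul_assoc, hcomm.orderOf_mul_eq_mul_orderOf_of_coprime (by
      rw [hD.orderOf_eq a ha]; exact hodd.coprime_two_left), hD.orderOf_eq a ha]
  have h1 : 1 < orderOf (c * x) := by
    rcases Nat.lt_or_ge 1 (orderOf (c * x)) with h | h
    · exact h
    · exfalso
      have h0 := orderOf_pos (c * x)
      refine hcx ?_
      rw [eq_inv_of_mul_eq_one_left (orderOf_eq_one_iff.1 (by omega : orderOf (c * x) = 1)), inv_eq hD hx]
  rcases hD.pair _ he x hx with h | h | h
  · have h2 : (a * c * x) ^ 2 = 1 := by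
      rw [(show Commute (a * c) x from h).mul_pow, pow_two, pow_two, sq hD he, sq hD hx, one_mul]
    have := Nat.le_of_dvd two_pos (orderOf_dvd_of_pow_eq_one h2)
    omega
  · rw [hord] at h
    exact Nat.not_odd_iff_even.2 (even_two_mul _) h
  · rw [hord] at h
    have : orderOf (c * x) = 2 := by omega
    rw [this] at hodd
    exact absurd hodd (by decide)

theorem commute_of_pow_eq {r : G} {k : ℕ} (z : G) (h : Commute z r) : Commute z (r ^ k) := h.pow_right k

theorem eq_sq_pow {z : G} (h : Odd (orderOf z)) : ∃ k : ℕ, (z * z) ^ k = z := by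
  obtain ⟨j, hj⟩ := h
  refine ⟨j + 1, ?_⟩
  rw [← pow_two, ← pow_mul, show 2 * (j + 1) = orderOf z + 1 by omega, pow_succ, pow_orderOf_eq_one, one_mul]

/-- A member odd to one member of a triple is odd to one of the other two. -/
theorem triple_odd [Finite G] (hD : IsRootInvolutionSet D) {a c x : G} (ha : a ∈ D) (hc : c ∈ D)
    (hac : a * c = c * a) (he : a * c ∈ D) (hx : x ∈ D) (hcx : c ≠ x) (hodd : Odd (orderOf (c * x))) :
    Odd (orderOf (a * x)) ∨ Odd (orderOf (a * c * x)) := by
  have hex0 : a * c * c = a := by rw [mul_assoc, sq hD hc, mul_one]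
  have hec : (a * c) * c = c * (a * c) := by rw [← mul_assoc, hac]
  by_contra hno
  push Not at hno
  have hna := triple_not_comm hD ha hc hac he hx hcx hodd
  have hne := triple_not_comm hD he hc hec (by rwa [hex0]) hx hcx hodd
  have hord4 : ∀ u ∈ D, u * x ≠ x * u → ¬ Odd (orderOf (u * x)) → orderOf (u * x) = 4 := fun u hu h1 h2 => by
    rcases hD.pair u hu x hx with h | h | h
    · exact absurd h h1
    · exact absurd h h2
    · exact h.1
  have ha4 := hord4 a ha hna hno.1
  have he4 := hord4 _ he hne hno.2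
  set e := a * c with he'
  set a' := x * a * x with ha'
  set e' := x * e * x with he''
  have ha'D : a' ∈ D := conj_mem' hD ha hx
  have he'D : e' ∈ D := conj_mem' hD he hx
  have xx := sq hD hx
  have hxc : ∀ p q : G, (x * p * x) * (x * q * x) = x * (p * q) * x := fun p q => by
    calc (x * p * x) * (x * q * x) = x * p * (x * x) * q * x := by simp only [mul_assoc]
      _ = x * (p * q) * x := by rw [xx, mul_one]; simp only [mul_assoc]
  have caa' : Commute a a' := by
    have := four_sq hD ha hx ha4
    have h1 : Commute a (a * (a * x) ^ 2) := (Commute.refl a).mul_right this.2.1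
    rwa [this.2.2.2.1] at h1
  have cee' : Commute e e' := by
    have := four_sq hD he hx he4
    have h1 : Commute e (e * (e * x) ^ 2) := (Commute.refl e).mul_right this.2.1
    rwa [this.2.2.2.1] at h1
  have cae : Commute a e := (Commute.refl a).mul_right hac
  have ca'e' : Commute a' e' := by
    show a' * e' = e' * a'
    rw [ha', he'', hxc, hxc, cae.eq]
  have hcu : Commute e' (e * a') := cee'.symm.mul_right ca'e'.symm
  have hau : Commute a (e * a') := cae.mul_right caa'
  have huv : Commute (a * e') (e * a') := hau.mul_left hcu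
  have hce : c = a * e := by rw [he', ← mul_assoc, sq hD ha, one_mul]
  have hcc : (c * x) * (c * x) = (a * e') * (e * a') := by
    calc (c * x) * (c * x) = c * (x * c * x) := by simp only [mul_assoc]
      _ = a * e * (a' * e') := by rw [hce, ha', he'', hxc]
      _ = a * ((e * a') * e') := by simp only [mul_assoc]
      _ = a * (e' * (e * a')) := by rw [hcu.eq]
      _ = (a * e') * (e * a') := by simp only [mul_assoc]
  obtain ⟨k, hk⟩ := eq_sq_pow hodd
  rw [hcc] at hk
  have hxe : x = c * ((a * e') * (e * a')) ^ k := by rw [hk, ← mul_assoc, sq hD hc, one_mul]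
  have hv : orderOf (e * a') = orderOf (a * e') := by
    rw [orderOf_mul_comm_invol a' e]
    have e1 : a' * e = x * (a * e') * x⁻¹ := by
      rw [inv_eq hD hx, he'']
      calc a' * e = x * a * x * e := rfl
        _ = x * a * x * e * (x * x) := by rw [xx, mul_one]
        _ = x * (a * (x * e * x)) * x := by simp only [mul_assoc]
    rw [e1, orderOf_conj_eq]
  have haneq : a ≠ e' := by
    intro heq
    have h1 : a * x = x * e := by rw [heq, he'', mul_assoc, xx, mul_one]
    apply hna
    have h2 : a' = e := by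
      rw [ha', heq, he'']
      calc x * (x * e * x) * x = (x * x) * e * (x * x) := by simp only [mul_assoc]
        _ = e := by rw [xx, one_mul, mul_one]
    have h3 : (a * e') * (e * a') = 1 := by rw [← heq, sq hD ha, one_mul, h2, sq hD he]
    rw [h3, one_pow, mul_one] at hxe
    exact absurd hxe.symm hcx
  have h4 : (a * e') ^ 4 = 1 → False := fun h => by
    have h' : (e * a') ^ 4 = 1 := by
      have := pow_orderOf_eq_one (e * a')
      rw [hv] at this
      obtain ⟨j, hj⟩ := orderOf_dvd_of_pow_eq_one h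
      rw [hj, pow_mul, this, one_pow]
    have h2 : ((c * x) * (c * x)) ^ 4 = 1 := by rw [hcc, huv.mul_pow, h, h', one_mul]
    rw [← pow_two, ← pow_mul] at h2
    have h3 : orderOf (c * x) ∣ 2 ^ 3 := orderOf_dvd_of_pow_eq_one h2
    have h5 : orderOf (c * x) = 1 :=
      Nat.eq_one_of_dvd_coprimes (Nat.Coprime.pow_left 3 hodd.coprime_two_left).symm dvd_rfl h3
    exact hcx (by rw [eq_inv_of_mul_eq_one_left (orderOf_eq_one_iff.1 h5), inv_eq hD hx])
  rcases hD.pair a ha e' he'D with h | h | h
  · refine h4 ?_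
    rw [(show Commute a e' from h).mul_pow, show (4 : ℕ) = 2 * 2 from rfl, pow_mul, pow_mul, pow_two a,
      pow_two e', sq hD ha, sq hD he'D, one_pow, one_mul]
  · -- the four elements normalise `⟨a, e'⟩`, hence so does `x`
    have hoa := hD.orderOf_eq a ha
    have hoe' := hD.orderOf_eq e' he'D
    set F := Subgroup.closure ({a, e'} : Set G) with hF
    have hcomm_norm : ∀ z : G, Commute z a → Commute z e' → z ∈ Subgroup.normalizer (F : Set G) := fun z hz hz' =>
      Subgroup.centralizer_le_normalizer _ (Subgroup.mem_centralizer_iff.2 fun y hy => by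
        induction hy using Subgroup.closure_induction with
        | mem y hy => rcases hy with rfl | rfl <;> [exact hz.eq.symm; exact hz'.eq.symm]
        | one => simp
        | mul y w _ _ h1 h2 => exact ((show Commute z y from h1.symm).mul_right (show Commute z w from h2.symm)).eq.symm
        | inv y _ h1 => exact ((show Commute z y from h1.symm).inv_right).eq.symm)
    have hnorm : ∀ z ∈ F, z ∈ Subgroup.normalizer (F : Set G) := fun z hz => Subgroup.le_normalizer hz
    have hae_n : a * e' ∈ Subgroup.normalizer (F : Set G) :=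
      hnorm _ (mul_mem (Subgroup.subset_closure (Or.inl rfl)) (Subgroup.subset_closure (Or.inr rfl)))
    have ha'_n := hcomm_norm a' caa'.symm ca'e'
    have he_n := hcomm_norm e cae.symm cee'
    have hc_n : c ∈ Subgroup.normalizer (F : Set G) := by
      rw [hce]; exact mul_mem (hnorm a (Subgroup.subset_closure (Or.inl rfl))) he_n
    have hx_n : x ∈ Subgroup.normalizer (F : Set G) := by
      rw [hxe]; exact mul_mem hc_n (pow_mem (mul_mem hae_n (mul_mem he_n ha'_n)) k)
    have ha'F : a' ∈ F := by
      have := (Subgroup.mem_normalizer_iff.1 hx_n a).1 (Subgroup.subset_closure (Or.inl rfl))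
      rwa [inv_eq hD hx] at this
    obtain ⟨i, hi⟩ := (mem_closure_pair_invol hoa hoe').1 ha'F
    have hcr : Commute a' ((a * e') ^ i) := ((caa'.symm).mul_right ca'e').zpow_right i
    have hodd_one : ∀ z : G, z ∈ Subgroup.zpowers (a * e') → z * z = 1 → z = 1 := fun z hz hzz => by
      have h1 : orderOf z ∣ orderOf (a * e') := by
        obtain ⟨j, rfl⟩ := hz
        exact orderOf_dvd_of_pow_eq_one (by
          rw [← zpow_natCast, ← zpow_mul, mul_comm, zpow_mul, zpow_natCast, pow_orderOf_eq_one, one_zpow])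
      have h2 : orderOf z ∣ 2 := orderOf_dvd_of_pow_eq_one (by rw [pow_two, hzz])
      exact orderOf_eq_one_iff.1 (Nat.eq_one_of_dvd_coprimes h.coprime_two_left.symm h1 h2)
    rcases hi with hi | hi
    · exact ne_one_of_orderOf_two (hD.orderOf_eq a' ha'D)
        (hi.trans (hodd_one ((a * e') ^ i) ⟨i, rfl⟩ (by rw [← hi, sq hD ha'D])))
    · have h1 : Commute a ((a * e') ^ i) := by
        have := (Commute.refl a).mul_right caa'
        rwa [hi, ← mul_assoc, sq hD ha, one_mul] at this
      have hinv := conj_zpow_eq_inv (conj_mul_eq_inv hoa hoe') i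
      rw [h1.eq, mul_inv_cancel_right] at hinv
      have hr1 := hodd_one ((a * e') ^ i) ⟨i, rfl⟩ 
        ((congrArg (· * (a * e') ^ i) hinv).trans (by simp))
      rw [hr1, mul_one] at hi
      apply hna
      calc a * x = (x * a * x) * x := by rw [← ha', hi]
        _ = x * a := by rw [mul_assoc (x * a), xx, mul_one]
  · refine h4 ?_
    have := pow_orderOf_eq_one (a * e')
    rwa [h.1] at this

/-- A member of `D` with no odd partner. -/
def IsIso (D : Set G) (w : G) : Prop := IsIsolatedElem (OddAdj D) D w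

theorem oddAdj_symm {a b : G} (h : OddAdj D a b) : OddAdj D b a :=
  ⟨h.2.1, h.1, h.2.2.1.symm, by rw [orderOf_mul_comm_invol]; exact h.2.2.2⟩

theorem reach_symm {a b : G} (h : Relation.ReflTransGen (OddAdj D) a b) :
    Relation.ReflTransGen (OddAdj D) b a := by
  induction h with
  | refl => rfl
  | tail _ h ih => exact ih.head (oddAdj_symm h)

theorem exists_adj {a : G} (ha : a ∈ D) (h : ¬ IsIso D a) : ∃ b, OddAdj D a b := by
  by_contra hno
  push Not at hno
  exact h ⟨ha, fun b => ⟨hno b, fun hb => hno b (oddAdj_symm hb)⟩⟩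

/-- Two non-isolated members of a triple are connected. -/
theorem triple_reach [Finite G] (hD : IsRootInvolutionSet D) {a c : G} (ha : a ∈ D) (hc : c ∈ D)
    (hac : a * c = c * a) (he : a * c ∈ D) (hai : ¬ IsIso D a) (hci : ¬ IsIso D c) :
    Relation.ReflTransGen (OddAdj D) a c := by
  obtain ⟨x, hcx⟩ := exists_adj hc hci
  have hR : ∀ u ∈ D, Odd (orderOf (u * x)) → u ≠ x → Relation.ReflTransGen (OddAdj D) c u := fun u hu h hne =>
    (Relation.ReflTransGen.single hcx).tail (oddAdj_symm ⟨hu, hcx.2.1, hne, h⟩)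
  have hxa : a ≠ x := by
    rintro rfl
    exact odd_ne_comm hD hc ha hcx.2.2.1 hcx.2.2.2 hac.symm
  have hxe : a * c ≠ x := by
    rintro rfl
    exact odd_ne_comm hD hc he hcx.2.2.1 hcx.2.2.2 (by rw [← mul_assoc, ← hac])
  rcases triple_odd hD ha hc hac he hcx.2.1 hcx.2.2.1 hcx.2.2.2 with h | h
  · exact reach_symm (hR a ha h hxa)
  have hce := hR _ he h hxe
  obtain ⟨z, haz⟩ := exists_adj ha hai
  have hzc : c ≠ z := by
    rintro rfl
    exact odd_ne_comm hD ha hc haz.2.2.1 haz.2.2.2 hac
  have hze : a * c ≠ z := by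
    rintro rfl
    exact odd_ne_comm hD ha he haz.2.2.1 haz.2.2.2 (by rw [mul_assoc, hac])
  rcases triple_odd hD hc ha hac.symm (hac ▸ he) haz.2.1 haz.2.2.1 haz.2.2.2 with h' | h'
  · exact (Relation.ReflTransGen.single haz).tail (oddAdj_symm ⟨hc, haz.2.1, hzc, h'⟩)
  · rw [← hac] at h'
    exact ((Relation.ReflTransGen.single haz).tail (oddAdj_symm ⟨he, haz.2.1, hze, h'⟩)).trans (reach_symm hce)

end CfsgLib.RootInvol
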