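import Cfsg.Agent.Lib.RootSubgroups.RootInvol

/-!
Lines of root involutions.

For `x` odd to `d`, the members `c` of a line through `d` with `c x` of order four are permuted by
`c ↦ ((c x)² d)²`.  It follows that in a class the square `g` of a product `d w` of order four has an odd
partner set different from those of `d` and `w`, so that `w` is the square of a product `φ g` of order four.
-/

set_option autoImplicit false

namespace CfsgLib.RootInvol

open Cfsg CfsgLib.Invol

variable {G : Type*} [Group G] {D : Set G} {a b c d e f g w x φ : G}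

theorem four_symm (h : orderOf (a * b) = 4) : orderOf (b * a) = 4 := by rw [orderOf_mul_comm_invol]; exact h

theorem sq_symm (hD : IsRootInvolutionSet D) (ha : a ∈ D) (hb : b ∈ D) (h : orderOf (a * b) = 4) :
    (b * a) ^ 2 = (a * b) ^ 2 := by
  rw [show b * a = (a * b)⁻¹ by rw [mul_inv_rev, inv_eq hD ha, inv_eq hD hb], inv_pow]
  exact inv_eq hD (four_sq hD ha hb h).1

/-- The square of a product of order four is a product partner of each factor. -/
theorem four_mem (hD : IsRootInvolutionSet D) (ha : a ∈ D) (hb : b ∈ D) (h : orderOf (a * b) = 4) :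
    (a * b) ^ 2 ∈ productPartners D a := by
  obtain ⟨h1, h2, -, -, h5, h6⟩ := four_sq hD ha hb h
  exact ⟨⟨h1, h2.eq.symm, h6.symm⟩, by rw [← h2.eq]; exact h5⟩

/-- Conjugation of one factor of a product of order four by the other. -/
theorem four_conj (hD : IsRootInvolutionSet D) (ha : a ∈ D) (hb : b ∈ D) (h : orderOf (a * b) = 4) :
    b * a * b = a * (a * b) ^ 2 :=
  (four_sq hD ha hb h).2.2.2.1.symm

theorem four_conj' (hD : IsRootInvolutionSet D) (ha : a ∈ D) (hb : b ∈ D) (h : orderOf (a * b) = 4) :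
    a * b * a = b * (a * b) ^ 2 := by
  rw [four_conj hD hb ha (four_symm h), sq_symm hD ha hb h]

theorem tri (hD : IsRootInvolutionSet D) (ha : a ∈ D) (hb : b ∈ D) :
    a * b = b * a ∨ b ∈ oddPartners D a ∨ b ∈ fourPartners D a := by
  rcases hD.pair a ha b hb with h | h | h
  · exact Or.inl h
  · by_cases hne : b = a
    · exact Or.inl (by rw [hne])
    · exact Or.inr (Or.inl ⟨hb, hne, h⟩)
  · exact Or.inr (Or.inr ⟨hb, h.1⟩)

theorem four_not_odd (h : orderOf (a * b) = 4) : b ∉ oddPartners D a := by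
  rintro ⟨-, -, h'⟩
  rw [h] at h'
  exact absurd h' (by decide)

theorem odd_not_comm (hD : IsRootInvolutionSet D) (ha : a ∈ D) (hb : b ∈ oddPartners D a) : a * b ≠ b * a :=
  odd_ne_comm hD ha hb.1 (Ne.symm hb.2.1) hb.2.2

theorem odd_symm (ha : a ∈ D) (hb : b ∈ oddPartners D a) : a ∈ oddPartners D b :=
  ⟨ha, Ne.symm hb.2.1, by rw [orderOf_mul_comm_invol]; exact hb.2.2⟩

/-- Members of a line through `d` with product of order four with `x`. -/
def badSet (D : Set G) (d x : G) : Set G := {c | c ∈ productPartners D d ∧ orderOf (c * x) = 4}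

theorem bad_step [Finite G] (hD : IsRootInvolutionSet D) (hd : d ∈ D) (hx : x ∈ oddPartners D d)
    (hc : c ∈ badSet D d x) : (c * x) ^ 2 ∈ badSet D x d := by
  obtain ⟨⟨⟨hcD, hcd, hcne⟩, hcdD⟩, h4⟩ := hc
  obtain ⟨hfD, hfc, hfx, -, hcfD, hcf⟩ := four_sq hD hcD hx.1 h4
  set f := (c * x) ^ 2 with hf
  have hdx : d * x ≠ x * d := odd_not_comm hD hd hx
  have hfX : f ∈ productPartners D x := by
    rw [hf, ← sq_symm hD hcD hx.1 h4]
    exact four_mem hD hx.1 hcD (four_symm h4)
  refine ⟨hfX, ?_⟩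
  have hfd : f ≠ d := fun e => hdx (by rw [← e]; exact hfx.eq.symm)
  rcases tri hD hfD hd with h | h | h
  · exfalso
    have hcxc : c * x * c = x * f := four_conj' hD hcD hx.1 h4
    set r := d * x with hr
    have hfr : Commute f r := (show Commute f d from h).mul_right hfx.symm
    have hcr : c * r * c = r * f := by
      rw [hr, mul_assoc d x f, ← hcxc, ← mul_assoc c d x, hcd]
      simp only [mul_assoc]
    have hodd : Odd (orderOf (c * r)) := by
      rcases triple_odd hD hcD hd hcd hcdD hx.1 (Ne.symm hx.2.1) hx.2.2 with h' | h'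
      · rw [h4] at h'; exact absurd h' (by decide)
      · rwa [hr, ← mul_assoc]
    obtain ⟨k, hk⟩ := eq_sq_pow hodd
    rw [show c * r * (c * r) = r * f * r by rw [← hcr]; simp only [mul_assoc]] at hk
    have hcomm : Commute c r := by
      have h1 : Commute (r * f * r) r := ((Commute.refl r).mul_left hfr).mul_left (Commute.refl r)
      have h2 := ((h1.pow_left k).mul_left (Commute.refl r).inv_left)
      rwa [hk, mul_inv_cancel_right] at h2
    rw [hcomm.eq, mul_assoc, sq hD hcD, mul_one, left_eq_mul] at hcr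
    exact ne_one_of_orderOf_two (hD.orderOf_eq f hfD) hcr
  · exact absurd hcd (triple_not_comm hD hcD hfD hfc.eq hcfD hd hfd h.2.2)
  · exact h.2

theorem bad_injOn [Finite G] (hD : IsRootInvolutionSet D) (hd : d ∈ D) (hx : x ∈ oddPartners D d) :
    Set.InjOn (fun c => (c * x) ^ 2) (badSet D d x) := by
  rintro c ⟨⟨⟨hcD, hcd, hcne⟩, hcdD⟩, h4⟩ c' ⟨⟨⟨hcD', hcd', -⟩, hcdD'⟩, h4'⟩ hff
  change (c * x) ^ 2 = (c' * x) ^ 2 at hff
  set z := c * c' with hz
  have xx := sq hD hx.1
  have hfc : Commute c' ((c * x) ^ 2) := hff ▸ (four_sq hD hcD' hx.1 h4').2.1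
  have hxz : Commute x z := by
    show x * (c * c') = c * c' * x
    have h1 : x * (c * c') * x = c * c' := by
      calc x * (c * c') * x = (x * c * x) * (x * c' * x) := by
            simp only [mul_assoc]; rw [← mul_assoc x x, xx, one_mul]
        _ = c * (c * x) ^ 2 * (c' * (c * x) ^ 2) := by
            rw [four_conj hD hcD hx.1 h4, four_conj hD hcD' hx.1 h4', hff]
        _ = c * ((c * x) ^ 2 * c') * (c * x) ^ 2 := by simp only [mul_assoc]
        _ = c * c' * ((c * x) ^ 2 * (c * x) ^ 2) := by rw [← hfc.eq]; simp only [mul_assoc]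
        _ = c * c' := by rw [sq hD (four_sq hD hcD hx.1 h4).1, mul_one]
    calc x * (c * c') = x * (c * c') * (x * x) := by rw [xx, mul_one]
      _ = x * (c * c') * x * x := by simp only [mul_assoc]
      _ = c * c' * x := by rw [h1]
  have hdz : Commute d z := (show Commute d c from hcd.symm).mul_right (show Commute d c' from hcd'.symm)
  set r := c * d * x with hr
  have hodd : Odd (orderOf r) := by
    rcases triple_odd hD hcD hd hcd hcdD hx.1 (Ne.symm hx.2.1) hx.2.2 with h' | h'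
    · rw [h4] at h'; exact absurd h' (by decide)
    · exact h'
  have hodd' : Odd (orderOf (r * z)) := by
    rcases triple_odd hD hcD' hd hcd' hcdD' hx.1 (Ne.symm hx.2.1) hx.2.2 with h' | h'
    · rw [h4'] at h'; exact absurd h' (by decide)
    · convert h' using 2
      rw [hr, mul_assoc (c * d), hxz.eq, ← mul_assoc, mul_assoc c d z, hdz.eq, hz, ← mul_assoc c (c * c'),
        ← mul_assoc c c, sq hD hcD, one_mul]
  have hczc : c * z * c⁻¹ = z⁻¹ := by
    rw [inv_eq hD hcD, hz, mul_inv_rev, inv_eq hD hcD, inv_eq hD hcD', ← mul_assoc, sq hD hcD, one_mul]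
  have hrz : r * z * r⁻¹ = z⁻¹ := by
    rw [hr, show c * d * x * z * (c * d * x)⁻¹ = c * (d * (x * z * x⁻¹) * d⁻¹) * c⁻¹ by group, hxz.eq,
      mul_inv_cancel_right, hdz.eq, mul_inv_cancel_right, hczc]
  have hr2 : Commute (r * r) z := by
    show r * r * z = z * (r * r)
    have h1 : r * r * z * (r * r)⁻¹ = z := by
      rw [show r * r * z * (r * r)⁻¹ = r * (r * z * r⁻¹) * r⁻¹ by group, hrz,
        show r * z⁻¹ * r⁻¹ = (r * z * r⁻¹)⁻¹ by group, hrz, inv_inv]
    exact mul_inv_eq_iff_eq_mul.1 h1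
  obtain ⟨k, hk⟩ := eq_sq_pow hodd
  have hcomm : Commute r z := hk ▸ hr2.pow_left k
  rw [hcomm.eq, mul_inv_cancel_right] at hrz
  have hz2 : z * z = 1 := eq_inv_iff_mul_eq_one.1 hrz
  have hz1 : z = 1 := by
    obtain ⟨i, hi⟩ := hodd
    obtain ⟨j, hj⟩ := hodd'
    have hone : ∀ n : ℕ, z ^ (2 * n + 1) = z := fun n => by rw [pow_succ, pow_mul, pow_two, hz2, one_pow, one_mul]
    have h1 : (r * z) ^ orderOf (r * z) = 1 := pow_orderOf_eq_one _
    have h2 : (r * z) ^ (orderOf r * orderOf (r * z)) = 1 := by rw [mul_comm, pow_mul, h1, one_pow]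
    rw [hcomm.mul_pow, pow_mul r, pow_orderOf_eq_one, one_pow, one_mul, hi, hj,
      show (2 * i + 1) * (2 * j + 1) = 2 * (2 * i * j + i + j) + 1 by ring, hone] at h2
    exact h2
  rw [hz, mul_eq_one_iff_eq_inv, inv_eq hD hcD'] at hz1
  exact hz1

/-- `c` is the square of a product of order four with `d`. -/
theorem exists_root [Finite G] (hD : IsRootInvolutionSet D) (hd : d ∈ D) (hx : x ∈ oddPartners D d)
    (hc : c ∈ badSet D d x) : ∃ φ ∈ D, orderOf (φ * d) = 4 ∧ (φ * d) ^ 2 = c := by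
  have hm2 : Set.MapsTo (fun f => (f * d) ^ 2) (badSet D x d) (badSet D d x) := fun f hf =>
    bad_step hD hx.1 (odd_symm hd hx) hf
  have hm1 : Set.MapsTo (fun c => (c * x) ^ 2) (badSet D d x) (badSet D x d) := fun c hc => bad_step hD hd hx hc
  have hinj := (bad_injOn hD hx.1 (odd_symm hd hx)).comp (bad_injOn hD hd hx) hm1
  obtain ⟨c₀, hc₀, he⟩ := (((Set.toFinite _).injOn_iff_bijOn_of_mapsTo (hm2.comp hm1)).1 hinj).surjOn hc
  have hf := hm1 hc₀
  exact ⟨_, hf.1.1.1, hf.2, he⟩

theorem exists_root' [Finite G] (hD : IsRootInvolutionSet D) (hd : d ∈ D) (hc : c ∈ productPartners D d)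
    (hx : x ∈ oddPartners D d) (hxc : x ∉ oddPartners D c) : ∃ φ ∈ D, orderOf (φ * d) = 4 ∧ (φ * d) ^ 2 = c := by
  refine exists_root hD hd hx ⟨hc, ?_⟩
  rcases tri hD hc.1.1 hx.1 with h | h | h
  · exact absurd h (triple_not_comm hD hc.1.1 hd hc.1.2.1 hc.2 hx.1 (Ne.symm hx.2.1) hx.2.2)
  · exact absurd h hxc
  · exact h.2

theorem oddPartners_conj (hD : IsRootInvolutionSet D) (a h : G) :
    oddPartners D (h * a * h⁻¹) = MulAut.conj h '' oddPartners D a := by
  ext y
  constructor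
  · rintro ⟨hy, hne, ho⟩
    refine ⟨h⁻¹ * y * h, ⟨by simpa using hD.conj_mem y hy h⁻¹, fun e => hne ?_, ?_⟩, by simp [mul_assoc]⟩
    · rw [← e]; group
    · rw [← orderOf_conj_eq h]
      convert ho using 2
      group
  · rintro ⟨y, ⟨hy, hne, ho⟩, rfl⟩
    refine ⟨hD.conj_mem y hy h, fun e => hne ?_, ?_⟩
    · exact (MulAut.conj h).injective e
    · show Odd (orderOf (h * a * h⁻¹ * (h * y * h⁻¹)))
      rw [show h * a * h⁻¹ * (h * y * h⁻¹) = h * (a * y) * h⁻¹ by group, orderOf_conj_eq]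
      exact ho

theorem exists_odd_diff [Finite G] (hD : IsRootInvolutionSet D) (hcl : ∀ u ∈ D, ∀ v ∈ D, ∃ h : G, v = h * u * h⁻¹)
    (ha : a ∈ D) (hb : b ∈ D) (h : oddPartners D a ≠ oddPartners D b) :
    ∃ y ∈ oddPartners D a, y ∉ oddPartners D b := by
  by_contra hno
  push Not at hno
  obtain ⟨k, rfl⟩ := hcl a ha b hb
  refine h (Set.eq_of_subset_of_ncard_le hno ?_ (Set.toFinite _))
  rw [oddPartners_conj hD, Set.ncard_image_of_injective _ (MulAut.conj k).injective]

/-- An element fixing `d` and moving `g` and one fixing `g` and moving `d` form an odd pair. -/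
theorem odd_of_move (hD : IsRootInvolutionSet D) (hd : d ∈ D) (hg : g ∈ D) (hφ : φ ∈ D) (hw : w ∈ D)
    (hgd : g ≠ d) (h1 : φ * d * φ = d) (h2 : φ * g * φ = g * d) (h3 : w * d * w = d * g) (h4 : w * g * w = g) :
    φ ∈ oddPartners D w := by
  have hd1 : d ≠ 1 := ne_one_of_orderOf_two (hD.orderOf_eq d hd)
  have key : ∀ t y : G, t ∈ D → t * (t * y * t) * t = y := fun t y ht => by
    calc t * (t * y * t) * t = (t * t) * y * (t * t) := by simp only [mul_assoc]
      _ = y := by rw [sq hD ht, one_mul, mul_one]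
  set τ := MulAut.conj (φ * w) with hτ
  have happ : ∀ y, τ y = φ * (w * y * w) * φ := fun y => by
    rw [hτ, MulAut.conj_apply, mul_inv_rev, inv_eq hD hφ, inv_eq hD hw]; simp only [mul_assoc]
  have hdg : d * g = g * d := by
    have e1 := congrArg (·⁻¹) h2
    simp only [mul_inv_rev, inv_eq hD hφ, inv_eq hD hg, inv_eq hD hd, ← mul_assoc] at e1
    rw [← e1, h2]
  have t1 : τ d = g := by
    rw [happ, h3, show φ * (d * g) * φ = (φ * d * φ) * (φ * g * φ) by
      simp only [mul_assoc]; rw [← mul_assoc φ φ, sq hD hφ, one_mul], h1, h2, ← mul_assoc, hdg,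
      mul_assoc, sq hD hd, mul_one]
  have t2 : τ g = g * d := by rw [happ, h4, h2]
  have t3 : τ (g * d) = d := by rw [map_mul, t1, t2, ← hdg, mul_assoc, sq hD hg, mul_one]
  rcases tri hD hw hφ with h | h | h
  · exfalso
    apply hgd
    have e : φ * (w * d * w) * φ = w * (φ * d * φ) * w := by
      calc φ * (w * d * w) * φ = (φ * w) * d * (w * φ) := by simp only [mul_assoc]
        _ = (w * φ) * d * (φ * w) := by rw [h]
        _ = _ := by simp only [mul_assoc]
    have e' : τ d = d * g := by rw [happ, e, h1, h3]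
    rw [t1] at e'
    exact absurd (right_eq_mul.1 e') hd1
  · exact h
  · exfalso
    apply hgd
    have h4' : (φ * w) ^ 4 = 1 := by rw [← four_symm h.2]; exact pow_orderOf_eq_one _
    have e : τ (τ (τ (τ d))) = d := by
      rw [hτ]
      simp only [MulAut.conj_apply]
      calc φ * w * (φ * w * (φ * w * (φ * w * d * (φ * w)⁻¹) * (φ * w)⁻¹) * (φ * w)⁻¹) * (φ * w)⁻¹
          = (φ * w) ^ 4 * d * ((φ * w) ^ 4)⁻¹ := by
            simp only [pow_succ, pow_zero, one_mul, mul_inv_rev, mul_assoc]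
        _ = d := by rw [h4', one_mul, inv_one, mul_one]
    rwa [t1, t2, t3, t1] at e

/-- The odd partner sets of a product of order four and of its square. -/
theorem square_partners [Finite G] (hD : IsRootInvolutionSet D) (hcl : ∀ u ∈ D, ∀ v ∈ D, ∃ h : G, v = h * u * h⁻¹)
    (hd : d ∈ D) (hw : w ∈ D) (h4 : orderOf (d * w) = 4) :
    oddPartners D ((d * w) ^ 2) ≠ oddPartners D w := by
  haveI : Fact (Nat.Prime 2) := ⟨Nat.prime_two⟩
  intro hgw
  set g := (d * w) ^ 2 with hg
  obtain ⟨hgD, hgcd, hgcw, -, hgdD, hgne⟩ := four_sq hD hd hw h4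
  have hgX : d ∈ productPartners D g := ⟨⟨hd, hgcd.eq, hgne⟩, hgdD⟩
  have hdg : oddPartners D d = oddPartners D g := by
    by_contra hne
    obtain ⟨y, hy, hy'⟩ := exists_odd_diff hD hcl hgD hd (Ne.symm hne)
    obtain ⟨φ, hφ, hφ4, hφd⟩ := exists_root' hD hgD hgX hy hy'
    have h1 : φ * d * φ = d := by
      rw [← hφd, ((four_sq hD hφ hgD hφ4).2.1).eq, mul_assoc, sq hD hφ, mul_one]
    have h2 : φ * g * φ = g * d := by rw [← hφd]; exact four_conj' hD hφ hgD hφ4
    have hodd := odd_of_move hD hd hgD hφ hw hgne.symm h1 h2 (four_conj hD hd hw h4)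
      (by rw [hgcw.eq, mul_assoc, sq hD hw, mul_one])
    rw [← hgw] at hodd
    exact four_not_odd (four_symm hφ4) hodd
  -- all three partner sets agree: the class of `g` generates a perfect 2-group
  set Δ := {f | f ∈ D ∧ oddPartners D f = oddPartners D g} with hΔ
  have hΔconj : ∀ (n : G), oddPartners D (n * g * n⁻¹) = oddPartners D g → ∀ f ∈ Δ, n * f * n⁻¹ ∈ Δ := by
    intro n hn f hf
    refine ⟨hD.conj_mem f hf.1 n, ?_⟩
    rw [oddPartners_conj hD, hf.2, ← oddPartners_conj hD, hn]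
  have hΔself : ∀ h ∈ Δ, ∀ f ∈ Δ, h * f * h⁻¹ ∈ Δ := by
    intro h hh f hf
    refine hΔconj h ?_ f hf
    rw [oddPartners_conj hD, ← hh.2, ← oddPartners_conj hD, mul_inv_cancel_right]
  have hpair : ∀ u ∈ Δ, ∀ v ∈ Δ, (u * v) ^ 4 = 1 := by
    intro u hu v hv
    rcases tri hD hu.1 hv.1 with h | h | h
    · rw [(show Commute u v from h).mul_pow, show (4 : ℕ) = 2 * 2 from rfl, pow_mul, pow_mul, pow_two u,
        pow_two v, sq hD hu.1, sq hD hv.1, one_pow, one_mul]
    · rw [hu.2, ← hv.2] at h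
      exact absurd rfl h.2.1
    · rw [← h.2]; exact pow_orderOf_eq_one _
  set P := Subgroup.closure Δ with hP
  have hPΔ : ∀ p ∈ P, ∀ f ∈ Δ, p * f * p⁻¹ ∈ Δ := by
    intro p hp
    induction hp using Subgroup.closure_induction with
    | mem h hh => exact hΔself h hh
    | one => intro f hf; simpa using hf
    | mul p q _ _ ip iq => intro f hf; simpa [mul_assoc] using ip _ (iq f hf)
    | inv p _ ip =>
      intro f hf
      obtain ⟨f', hf', e⟩ := (((Set.toFinite Δ).injOn_iff_bijOn_of_mapsTo (f := fun f => p * f * p⁻¹) ip).1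
        (fun u _ v _ e => by simpa using e)).surjOn hf
      have e' : p * f' * p⁻¹ = f := e
      rw [← e']
      simpa [mul_assoc] using hf'
  have hP2 : IsPGroup 2 P := by
    refine IsPGroup.of_surjective (CfsgLib.Cores.isPGroup_pCore (G := P) 2) (Cfsg.pCore 2 P).subtype ?_
    rw [← MonoidHom.range_eq_top, Subgroup.range_subtype, eq_top_iff, ← Subgroup.closure_closure_coe_preimage]
    rw [Subgroup.closure_le]
    rintro ⟨u, huP⟩ (huΔ : u ∈ Δ)
    have hu2 := hD.orderOf_eq u huΔ.1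
    have hX : IsPGroup 2 (Subgroup.zpowers (⟨u, huP⟩ : P)) :=
      IsPGroup.of_card (n := 1) (by rw [Nat.card_zpowers, Subgroup.orderOf_mk, hu2, pow_one])
    obtain ⟨N, hN, hN2, hle⟩ := CfsgLib.Invol.baer_suzuki (p := 2) _ hX (fun p z => by
      set y : P := p * ⟨u, huP⟩ * p⁻¹ with hy
      have hyΔ : (y : G) ∈ Δ := hPΔ p p.2 u huΔ
      have hz : ((z : P) : G) ∈ Subgroup.closure ({u, (y : G)} : Set G) := by
        refine (sup_le ?_ ?_ : (Subgroup.zpowers (⟨u, huP⟩ : P) ⊔
          (Subgroup.zpowers (⟨u, huP⟩ : P)).map (MulAut.conj p).toMonoidHom) ≤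
            (Subgroup.closure ({u, (y : G)} : Set G)).comap P.subtype) z.2
        · exact Subgroup.zpowers_le.2 (Subgroup.subset_closure (Or.inl rfl))
        · rw [MonoidHom.map_zpowers]
          exact Subgroup.zpowers_le.2 (Subgroup.subset_closure (Or.inr rfl))
      have hy2 := hD.orderOf_eq (y : G) hyΔ.1
      obtain ⟨i, hi⟩ := (mem_closure_pair_invol hu2 hy2).1 hz
      have hr4 : ((u * (y : G)) ^ i) ^ 4 = 1 := by
        rw [← zpow_natCast, ← zpow_mul, mul_comm, zpow_mul, zpow_natCast, hpair u huΔ _ hyΔ, one_zpow]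
      refine ⟨3, Subtype.ext (Subtype.ext ?_)⟩
      rw [SubmonoidClass.coe_pow, SubmonoidClass.coe_pow, OneMemClass.coe_one, OneMemClass.coe_one]
      rcases hi with hi | hi <;> rw [hi]
      · rw [show 2 ^ 3 = 4 * 2 from rfl, pow_mul, hr4, one_pow]
      · have h2 : (u * (u * (y : G)) ^ i) ^ 2 = 1 := by
          rw [pow_two, ← mul_assoc, mul_assoc u, inv_zpow_comm (conj_mul_eq_inv hu2 hy2) i,
            ← mul_assoc u u, mul_self_of_orderOf_two hu2, one_mul, ← zpow_add, neg_add_cancel, zpow_zero]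
        rw [show 2 ^ 3 = 2 * 4 from rfl, pow_mul, h2, one_pow])
    haveI := hN
    exact CfsgLib.Cores.le_pCore hN2 (hle (Subgroup.mem_zpowers _))
  haveI := hP2.isNilpotent
  have hgΔ : g ∈ Δ := ⟨hgD, rfl⟩
  have hgP' : g ∈ (⁅P, P⁆ : Subgroup G) := by
    have h := Subgroup.commutator_mem_commutator (H₁ := P) (H₂ := P) (Subgroup.subset_closure (⟨hd, hdg⟩ : d ∈ Δ))
      (Subgroup.subset_closure (⟨hw, hgw.symm⟩ : w ∈ Δ))
    rw [commutatorElement_def, inv_eq hD hd, inv_eq hD hw, mul_assoc (d * w), ← pow_two] at h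
    exact h
  have hle : P ≤ ⁅P, P⁆ := by
    rw [hP, Subgroup.closure_le]
    intro f hf
    obtain ⟨n, rfl⟩ := hcl g hgD f hf.1
    have hmap : P.map (MulAut.conj n).toMonoidHom ≤ P := by
      rw [hP, MonoidHom.map_closure]
      refine Subgroup.closure_mono ?_
      rintro _ ⟨f', hf', rfl⟩
      exact hΔconj n hf.2 f' hf'
    have hm : MulAut.conj n g ∈ (⁅P, P⁆ : Subgroup G).map (MulAut.conj n).toMonoidHom :=
      Subgroup.mem_map_of_mem _ hgP'
    rw [Subgroup.map_commutator] at hm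
    exact Subgroup.commutator_mono hmap hmap hm
  haveI : Nontrivial P :=
    (Subgroup.nontrivial_iff_exists_ne_one P).2
      ⟨g, Subgroup.subset_closure hgΔ, ne_one_of_orderOf_two (hD.orderOf_eq g hgD)⟩
  refine (Group.IsSolvable.commutator_lt_top_of_nontrivial P).ne (eq_top_iff.2 fun p _ => ?_)
  have hp := hle p.2
  rw [← Subgroup.map_subtype_commutator] at hp
  obtain ⟨q, hq, e⟩ := hp
  rwa [← Subtype.ext e]

/-- In a class, a product of order four extends to an opposite one. -/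
theorem exists_opposite_root [Finite G] (hD : IsRootInvolutionSet D)
    (hcl : ∀ u ∈ D, ∀ v ∈ D, ∃ h : G, v = h * u * h⁻¹) (hd : d ∈ D) (hw : w ∈ D) (h4 : orderOf (d * w) = 4) :
    ∃ φ ∈ D, orderOf (φ * (d * w) ^ 2) = 4 ∧ (φ * (d * w) ^ 2) ^ 2 = w ∧ φ * w = w * φ ∧ φ ∈ oddPartners D d := by
  obtain ⟨hgD, hgcd, hgcw, -, -, -⟩ := four_sq hD hd hw h4
  have hwX : w ∈ productPartners D ((d * w) ^ 2) := by
    obtain ⟨-, -, hne⟩ := (four_mem hD hw hd (four_symm h4)).1
    rw [sq_symm hD hd hw h4] at hne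
    refine ⟨⟨hw, hgcw.eq, Ne.symm hne⟩, ?_⟩
    have := (four_sq hD hw hd (four_symm h4)).2.2.2.2.1
    rwa [sq_symm hD hd hw h4] at this
  obtain ⟨y, hy, hy'⟩ := exists_odd_diff hD hcl hgD hw (square_partners hD hcl hd hw h4)
  obtain ⟨φ, hφ, hφ4, hφw⟩ := exists_root' hD hgD hwX hy hy'
  have hφc : φ * w = w * φ := by
    have := (four_sq hD hφ hgD hφ4).2.1.eq
    rwa [hφw] at this
  have h1 : φ * w * φ = w := by rw [hφc, mul_assoc, sq hD hφ, mul_one]
  have h2 : φ * (d * w) ^ 2 * φ = (d * w) ^ 2 * w := by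
    conv_rhs => arg 2; rw [← hφw]
    exact four_conj' hD hφ hgD hφ4
  exact ⟨φ, hφ, hφ4, hφw, hφc, odd_of_move hD hw hgD hφ hd hwX.1.2.2.symm h1 h2 (four_conj' hD hd hw h4)
    (by rw [hgcd.eq, mul_assoc, sq hD hd, mul_one])⟩

end CfsgLib.RootInvol
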