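import Cfsg.Agent.Lib.Known.PSLMinIndex

/-!
Transvections of `SL n F` over an arbitrary field.
-/

set_option autoImplicit false

namespace CfsgLib.RootSubgroups.SLTransv

open Matrix CfsgLib.Known.PSLMinIndex

variable {F : Type*} [Field F] {n : ℕ}

local notation "SLn" => Matrix.SpecialLinearGroup (Fin n) F

theorem exists_perp_ne (hn : 3 ≤ n) (a b : Fin n → F) :
    ∃ φ : Fin n → F, φ ≠ 0 ∧ φ ⬝ᵥ a = 0 ∧ φ ⬝ᵥ b = 0 := by
  let f : (Fin n → F) →ₗ[F] F × F := (dotProductBilin F F a).prod (dotProductBilin F F b)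
  have hk : LinearMap.ker f ≠ ⊥ := LinearMap.ker_ne_bot_of_finrank_lt (by
    rw [Module.finrank_prod, Module.finrank_self, Module.finrank_fin_fun]; omega)
  obtain ⟨φ, hφ, hne⟩ := Submodule.exists_mem_ne_zero_of_ne_bot hk
  exact ⟨φ, hne, (dotProduct_comm _ _).trans (congrArg Prod.fst hφ),
    (dotProduct_comm _ _).trans (congrArg Prod.snd hφ)⟩

/-- A determinant one basis change taking the standard centre and functional to given ones. -/
theorem exists_std (hn : 3 ≤ n) {v φ : Fin n → F} (hv : v ≠ 0) (hφ : φ ≠ 0) (h : φ ⬝ᵥ v = 0) :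
    ∃ g : SLn, (g : Matrix (Fin n) (Fin n) F) *ᵥ Pi.single (⟨0, by omega⟩ : Fin n) 1 = v ∧
      φ ᵥ* (g : Matrix (Fin n) (Fin n) F) = Pi.single (⟨1, by omega⟩ : Fin n) 1 := by
  classical
  let i0 : Fin n := ⟨0, by omega⟩
  let i1 : Fin n := ⟨1, by omega⟩
  let i2 : Fin n := ⟨2, by omega⟩
  obtain ⟨u, hu⟩ := exists_dot_eq hφ 1
  -- a basis `b` with `b i0 = v`, `φ (b i1) = 1` and the others in the kernel of `φ`
  let K : Submodule F (Fin n → F) := LinearMap.ker (dotProductBilin F F φ)
  have hvK : v ∈ K := h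
  have hrangeK : Module.finrank F K = n - 1 := by
    have hsurj : Function.Surjective (dotProductBilin F F φ) := fun a => exists_dot_eq hφ a
    have := LinearMap.finrank_range_add_finrank_ker (dotProductBilin F F φ)
    rw [LinearMap.range_eq_top.mpr hsurj, finrank_top, Module.finrank_self,
      Module.finrank_fin_fun] at this
    change _ + Module.finrank F K = _ at this
    omega
  have hli : LinearIndepOn F id ({⟨v, hvK⟩} : Set K) :=
    (linearIndepOn_singleton_iff (R := F)).mpr (fun h0 => hv (congrArg Subtype.val h0))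
  let bK := Module.Basis.extend hli
  have hmem : (⟨v, hvK⟩ : K) ∈ hli.extend (Set.subset_univ _) :=
    hli.subset_extend _ rfl
  have : Fintype (hli.extend (Set.subset_univ _)) := Fintype.ofFinite _
  have hcardK : Fintype.card (hli.extend (Set.subset_univ _)) = n - 1 := by
    rw [← Module.finrank_eq_card_basis bK, hrangeK]
  let vidx : hli.extend (Set.subset_univ _) := ⟨_, hmem⟩
  obtain ⟨e, he⟩ : ∃ e : {i : Fin n // i ≠ i1} ≃ hli.extend (Set.subset_univ _),
      e ⟨i0, by simp [i0, i1]⟩ = vidx := by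
    have hc : Fintype.card {i : Fin n // i ≠ i1} =
        Fintype.card (hli.extend (Set.subset_univ _)) := by
      rw [hcardK, Fintype.card_subtype_compl, Fintype.card_fin, Fintype.card_subtype_eq]
    let e0 := Fintype.equivOfCardEq hc
    exact ⟨e0.trans (Equiv.swap (e0 ⟨i0, by simp [i0, i1]⟩) vidx), by simp⟩
  let col : Fin n → (Fin n → F) := fun i => if hi : i = i1 then u else ((bK (e ⟨i, hi⟩) : K) : Fin n → F)
  let B : Matrix (Fin n) (Fin n) F := Matrix.of fun r c => col c r
  have hcol0 : col i0 = v := by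
    simp only [col, dif_neg (show i0 ≠ i1 by simp [i0, i1]), he, bK, Module.Basis.extend_apply_self]
    rfl
  have hφcol : ∀ i, φ ⬝ᵥ col i = if i = i1 then 1 else 0 := by
    intro i
    by_cases hi : i = i1
    · simp [col, hi, hu]
    · simp only [col, dif_neg hi, if_neg hi]
      exact (bK (e ⟨i, hi⟩) : K).2
  have hBdet : B.det ≠ 0 := by
    intro hdet
    obtain ⟨c, hc0, hc⟩ := Matrix.exists_mulVec_eq_zero_iff.mpr hdet
    have hsum : ∑ i, c i • col i = 0 := by
      funext r
      have := congrFun hc r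
      simpa [B, mulVec, dotProduct, mul_comm] using this
    have h1 : c i1 = 0 := by
      have := congrArg (fun x => φ ⬝ᵥ x) hsum
      simp only [dotProduct_sum, dotProduct_smul, hφcol, smul_eq_mul, mul_ite, mul_one, mul_zero,
        Finset.sum_ite_eq', Finset.mem_univ, if_true, dotProduct_zero] at this
      exact this
    have h2 : ∑ i : {i : Fin n // i ≠ i1}, c i.1 • bK (e i) = 0 := by
      apply Subtype.ext
      rw [AddSubmonoidClass.coe_finsetSum, ZeroMemClass.coe_zero, ← hsum,
        ← Finset.add_sum_erase _ _ (Finset.mem_univ i1), h1, zero_smul, zero_add]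
      refine Finset.sum_bij (fun i _ => i.1) (fun i _ => by simp [i.2]) (fun _ _ _ _ h => Subtype.ext h)
        (fun i hi => ⟨⟨i, Finset.ne_of_mem_erase hi⟩, Finset.mem_univ _, rfl⟩) (fun i _ => ?_)
      simp [col, i.2]
    have h3 := Fintype.linearIndependent_iff.mp (bK.linearIndependent.comp _ e.injective)
      (fun i => c i.1) h2
    refine hc0 (funext fun i => ?_)
    by_cases hi : i = i1
    · rw [hi, h1]; rfl
    · exact h3 ⟨i, hi⟩
  -- correct the determinant in the column `i2`
  let D : Matrix (Fin n) (Fin n) F := Matrix.diagonal fun i => if i = i2 then B.det⁻¹ else 1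
  let g : SLn := ⟨B * D, by
    simp only [D]
    rw [det_mul, det_diagonal, Finset.prod_ite_eq' , if_pos (Finset.mem_univ _),
      mul_inv_cancel₀ hBdet]⟩
  refine ⟨g, ?_⟩
  have hgv : (g : Matrix (Fin n) (Fin n) F) *ᵥ (Pi.single i0 1) = v := by
    show (B * D) *ᵥ _ = v
    rw [← mulVec_mulVec, diagonal_mulVec_single, if_neg (by simp [i0, i2]), one_mul]
    funext r
    simp [B, hcol0]
  have hφg : φ ᵥ* (g : Matrix (Fin n) (Fin n) F) = Pi.single i1 1 := by
    show φ ᵥ* (B * D) = _
    rw [← vecMul_vecMul]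
    funext i
    rw [vecMul_diagonal]
    change (φ ⬝ᵥ col i) * _ = _
    rw [hφcol]
    by_cases hi : i = i1
    · subst hi
      simp [i1, i2]
    · simp [hi]
  exact ⟨hgv, hφg⟩


/-- `t` is a transvection. -/
def IsTv (t : SLn) : Prop := ∃ v φ : Fin n → F, v ≠ 0 ∧ φ ≠ 0 ∧ φ ⬝ᵥ v = 0 ∧ t = tv v φ

theorem isTv_conj {t : SLn} (ht : IsTv t) (g : SLn) : IsTv (g * t * g⁻¹) := by
  obtain ⟨v, φ, hv, hφ, h, rfl⟩ := ht
  refine ⟨_, _, ?_, ?_, ?_, tv_conj g h⟩
  · intro h0
    refine hv ?_
    have := congrArg (fun x => ((g⁻¹ : SLn) : Matrix (Fin n) (Fin n) F) *ᵥ x) h0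
    simp only [mulVec_mulVec, coe_inv_mul, one_mulVec, mulVec_zero] at this
    exact this
  · intro h0
    refine hφ ?_
    have := congrArg (fun x => x ᵥ* (g : Matrix (Fin n) (Fin n) F)) h0
    simp only [vecMul_vecMul, coe_mul_inv, coe_inv_mul, vecMul_one, zero_vecMul] at this
    exact this
  · rw [← dotProduct_mulVec, mulVec_mulVec, coe_inv_mul, one_mulVec, h]

/-- Every transvection is a conjugate of the standard one. -/
theorem exists_conj_std (hn : 3 ≤ n) {v φ : Fin n → F} (hv : v ≠ 0) (hφ : φ ≠ 0) (h : φ ⬝ᵥ v = 0) :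
    ∃ g : SLn, g * tv (Pi.single (⟨0, by omega⟩ : Fin n) 1) (Pi.single (⟨1, by omega⟩ : Fin n) 1) * g⁻¹
      = tv v φ := by
  obtain ⟨g, hgv, hφg⟩ := exists_std hn hv hφ h
  refine ⟨g, ?_⟩
  rw [tv_conj g (by simp [dotProduct_single]), hgv, ← hφg, vecMul_vecMul, coe_mul_inv, vecMul_one]

theorem isTv_transvection {i j : Fin n} (hij : i ≠ j) {c : F} (hc : c ≠ 0) :
    IsTv (Matrix.SpecialLinearGroup.transvection hij c) := by
  refine ⟨Pi.single i 1, Pi.single j c, by simp, by simpa using hc, by simp [dotProduct_single, hij],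
    Subtype.ext ?_⟩
  rw [coe_tv (by simp [dotProduct_single, hij])]
  change Matrix.transvection i j c = _
  rw [Matrix.transvection]
  congr 1
  ext a b
  simp only [Matrix.single_apply, vecMulVec_apply, Pi.single_apply]
  rcases eq_or_ne a i with ha | ha <;> rcases eq_or_ne b j with hb | hb <;>
    simp [ha, hb, ne_comm.1, Ne.symm]

end CfsgLib.RootSubgroups.SLTransv
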