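import Cfsg.Agent.Lib.RootSubgroups.SL2Pair
import Cfsg.Agent.Lib.RootSubgroups.SLTransv

/-!
The root subgroups of `SL n F`.
-/

set_option autoImplicit false

namespace CfsgLib.RootSubgroups.SLRoot

open Matrix Cfsg CfsgLib.Known.PSLMinIndex CfsgLib.RootSubgroups.SLTransv CfsgLib.RootSubgroups.SL2Pair

variable {F : Type*} [Field F] {n : ℕ}

local notation "SLn" => Matrix.SpecialLinearGroup (Fin n) F
local notation "Mn" => Matrix (Fin n) (Fin n) F

/-- The transvections with centre `v` and functional a multiple of `φ`. -/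
noncomputable def rootGp (v φ : Fin n → F) : Subgroup SLn :=
  Subgroup.closure (Set.range fun c : F => tv v (c • φ))

theorem dot_smul_zero {v φ : Fin n → F} (h : φ ⬝ᵥ v = 0) (c : F) : (c • φ) ⬝ᵥ v = 0 := by
  rw [smul_dotProduct, h, smul_zero]

theorem mem_rootGp {v φ : Fin n → F} (h : φ ⬝ᵥ v = 0) {t : SLn} :
    t ∈ rootGp v φ ↔ ∃ c : F, t = tv v (c • φ) := by
  refine ⟨fun ht => ?_, fun ⟨c, hc⟩ => hc ▸ Subgroup.subset_closure ⟨c, rfl⟩⟩
  induction ht using Subgroup.closure_induction with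
  | mem x hx => exact let ⟨c, hc⟩ := hx; ⟨c, hc.symm⟩
  | one => exact ⟨0, by rw [zero_smul, tv_zero]⟩
  | mul x y _ _ hx hy =>
    obtain ⟨a, rfl⟩ := hx
    obtain ⟨b, rfl⟩ := hy
    exact ⟨a + b, by rw [← tv_add (dot_smul_zero h a) (dot_smul_zero h b), add_smul]⟩
  | inv x _ hx =>
    obtain ⟨a, rfl⟩ := hx
    refine ⟨-a, inv_eq_of_mul_eq_one_right ?_⟩
    rw [← tv_add (dot_smul_zero h a) (dot_smul_zero h (-a)), ← add_smul, add_neg_cancel, zero_smul, tv_zero]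

theorem tv_mem_rootGp (v φ : Fin n → F) (c : F) : tv v (c • φ) ∈ rootGp v φ :=
  Subgroup.subset_closure ⟨c, rfl⟩

theorem tv_smul_left {v φ : Fin n → F} (h : φ ⬝ᵥ v = 0) (a : F) : tv (a • v) φ = tv v (a • φ) := by
  apply Subtype.ext
  change (tv (a • v) φ : Mn) = (tv v (a • φ) : Mn)
  rw [coe_tv (by rw [dotProduct_smul, h, smul_zero]), coe_tv (dot_smul_zero h a), smul_vecMulVec, vecMulVec_smul]

theorem rootGp_smul {v φ : Fin n → F} (h : φ ⬝ᵥ v = 0) {a b : F} (ha : a ≠ 0) (hb : b ≠ 0) :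
    rootGp (a • v) (b • φ) = rootGp v φ := by
  have e : ∀ c : F, tv (a • v) (c • b • φ) = tv v ((a * (c * b)) • φ) := fun c => by
    rw [tv_smul_left (by rw [smul_smul]; exact dot_smul_zero h _), smul_smul, smul_smul, mul_assoc]
  unfold rootGp
  congr 1
  ext t
  simp only [Set.mem_range]
  refine ⟨fun ⟨c, hc⟩ => ⟨_, (e c).symm.trans hc⟩, fun ⟨c, hc⟩ => ⟨c / (a * b), ?_⟩⟩
  rw [e, ← hc]
  congr 2
  field_simp

theorem tv_ne_one' {v φ : Fin n → F} (hv : v ≠ 0) (hφ : φ ≠ 0) (h : φ ⬝ᵥ v = 0) : tv v φ ≠ 1 := by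
  intro e
  have e' := congrArg (fun t : SLn => (t : Mn)) e
  simp only [coe_tv h, Matrix.SpecialLinearGroup.coe_one] at e'
  obtain ⟨i, hi⟩ := Function.ne_iff.1 hv
  obtain ⟨j, hj⟩ := Function.ne_iff.1 hφ
  have := congrFun (congrFun (add_eq_left.1 e') i) j
  rw [vecMulVec_apply] at this
  exact mul_ne_zero hi hj this

theorem rootGp_ne_bot {v φ : Fin n → F} (hv : v ≠ 0) (hφ : φ ≠ 0) (h : φ ⬝ᵥ v = 0) : rootGp v φ ≠ ⊥ := by
  intro e
  have hm := tv_mem_rootGp v φ (1 : F)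
  rw [e, one_smul, Subgroup.mem_bot] at hm
  exact tv_ne_one' hv hφ h hm

theorem conj_rootGp (g : SLn) {v φ : Fin n → F} (h : φ ⬝ᵥ v = 0) :
    conjBy (rootGp v φ) g =
      rootGp ((g : Mn) *ᵥ v) (φ ᵥ* ((g⁻¹ : SLn) : Mn)) := by
  unfold rootGp conjBy
  rw [MonoidHom.map_closure, ← Set.range_comp]
  congr 1
  refine congrArg Set.range (funext fun c => ?_)
  simp only [Function.comp_apply, MulEquiv.coe_toMonoidHom, MulAut.conj_apply]
  rw [tv_conj g (dot_smul_zero h c), smul_vecMul]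

theorem commute_tv {v φ w ψ : Fin n → F} (h : φ ⬝ᵥ v = 0) (h' : ψ ⬝ᵥ w = 0) (hx : φ ⬝ᵥ w = 0)
    (hy : ψ ⬝ᵥ v = 0) : tv v φ * tv w ψ = tv w ψ * tv v φ := by
  apply Subtype.ext
  change ((tv v φ * tv w ψ : SLn) : Mn) = ((tv w ψ * tv v φ : SLn) : Mn)
  rw [coe_mul', coe_mul', coe_tv h, coe_tv h', add_mul, mul_add, mul_add, add_mul, mul_add, mul_add,
    CfsgLib.Known.PSLMinIndex.vecMulVec_mul, CfsgLib.Known.PSLMinIndex.vecMulVec_mul, hx, hy, zero_smul, zero_smul]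
  simp only [one_mul, mul_one, add_zero]
  abel

theorem commutator_tv {v φ w ψ : Fin n → F} (h : φ ⬝ᵥ v = 0) (h' : ψ ⬝ᵥ w = 0) (hy : ψ ⬝ᵥ v = 0) :
    tv v φ * tv w ψ * (tv v φ)⁻¹ * (tv w ψ)⁻¹ = tv v ((φ ⬝ᵥ w) • ψ) := by
  have key : tv v φ * tv w ψ = tv v ((φ ⬝ᵥ w) • ψ) * tv w ψ * tv v φ := by
    apply Subtype.ext
    change ((tv v φ * tv w ψ : SLn) : Mn) = ((tv v ((φ ⬝ᵥ w) • ψ) * tv w ψ * tv v φ : SLn) : Mn)
    rw [coe_mul', coe_mul', coe_mul', coe_tv h, coe_tv h', coe_tv (dot_smul_zero hy _)]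
    simp only [add_mul, mul_add, one_mul, mul_one, vecMulVec_smul, smul_mul_assoc,
      CfsgLib.Known.PSLMinIndex.vecMulVec_mul, hy, h', smul_smul, zero_smul, mul_zero, smul_zero, add_zero]
    abel
  rw [key]
  group

/-- The set of root subgroups. -/
def rootSet (F : Type*) [Field F] (n : ℕ) : Set (Subgroup (Matrix.SpecialLinearGroup (Fin n) F)) :=
  {A | ∃ v φ : Fin n → F, v ≠ 0 ∧ φ ≠ 0 ∧ φ ⬝ᵥ v = 0 ∧ A = rootGp v φ}

theorem commutatorCase {v φ w ψ : Fin n → F} (hv : v ≠ 0) (hψ : ψ ≠ 0) (h : φ ⬝ᵥ v = 0)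
    (h' : ψ ⬝ᵥ w = 0) (hx : φ ⬝ᵥ w ≠ 0) (hy : ψ ⬝ᵥ v = 0) :
    RootCommutatorCase (rootSet F n) (rootGp v φ) (rootGp w ψ) := by
  have hcom : ∀ a b : F, tv v (a • φ) * tv w (b • ψ) * (tv v (a • φ))⁻¹ * (tv w (b • ψ))⁻¹ =
      tv v ((a * (φ ⬝ᵥ w) * b) • ψ) := by
    intro a b
    rw [commutator_tv (dot_smul_zero h a) (dot_smul_zero h' b) (dot_smul_zero hy b), smul_dotProduct,
      smul_smul, smul_eq_mul]
  have heq : ⁅rootGp v φ, rootGp w ψ⁆ = rootGp v ψ := by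
    apply le_antisymm
    · rw [Subgroup.commutator_le]
      intro p hp q hq
      obtain ⟨a, rfl⟩ := (mem_rootGp h).1 hp
      obtain ⟨b, rfl⟩ := (mem_rootGp h').1 hq
      rw [commutatorElement_def, hcom]
      exact tv_mem_rootGp v ψ _
    · refine (Subgroup.closure_le _).2 ?_
      rintro _ ⟨c, rfl⟩
      have := Subgroup.commutator_mem_commutator (tv_mem_rootGp v φ 1) (tv_mem_rootGp w ψ (c / (φ ⬝ᵥ w)))
      rw [commutatorElement_def, hcom, one_mul, mul_div_cancel₀ _ hx] at this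
      exact this
  refine ⟨heq ▸ ⟨v, ψ, hv, hψ, hy, rfl⟩, ?_, ?_, ?_⟩
  · rw [heq]
    intro c hc x hx'
    obtain ⟨c, rfl⟩ := (mem_rootGp hy).1 hc
    have hle : rootGp v φ ⊔ rootGp w ψ ≤ Subgroup.centralizer ({tv v (c • ψ)} : Set SLn) := by
      refine sup_le ?_ ?_ <;> refine (Subgroup.closure_le _).2 ?_ <;> rintro _ ⟨a, rfl⟩ <;>
        rw [SetLike.mem_coe, Subgroup.mem_centralizer_singleton_iff]
      · exact (commute_tv (dot_smul_zero hy c) (dot_smul_zero h a) (dot_smul_zero hy c)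
          (dot_smul_zero h a)).symm
      · exact (commute_tv (dot_smul_zero hy c) (dot_smul_zero h' a) (dot_smul_zero h' c)
          (dot_smul_zero hy a)).symm
    exact (Subgroup.mem_centralizer_singleton_iff.1 (hle hx')).symm
  · rw [heq]
    intro p hp hp1
    obtain ⟨a, rfl⟩ := (mem_rootGp h).1 hp
    have ha : a ≠ 0 := fun e => hp1 (by rw [e, zero_smul, tv_zero])
    apply le_antisymm <;> refine (Subgroup.closure_le _).2 ?_
    · rintro _ ⟨q, hq, rfl⟩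
      obtain ⟨b, rfl⟩ := (mem_rootGp h').1 hq
      simp only [hcom]
      exact tv_mem_rootGp v ψ _
    · rintro _ ⟨c, rfl⟩
      refine Subgroup.subset_closure ⟨tv w ((c / (a * (φ ⬝ᵥ w))) • ψ), tv_mem_rootGp _ _ _, ?_⟩
      simp only [hcom]
      rw [mul_div_cancel₀ _ (mul_ne_zero ha hx)]
  · rw [heq]
    intro q hq hq1
    obtain ⟨b, rfl⟩ := (mem_rootGp h').1 hq
    have hb : b ≠ 0 := fun e => hq1 (by rw [e, zero_smul, tv_zero])
    apply le_antisymm <;> refine (Subgroup.closure_le _).2 ?_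
    · rintro _ ⟨p, hp, rfl⟩
      obtain ⟨a, rfl⟩ := (mem_rootGp h).1 hp
      simp only [hcom]
      exact tv_mem_rootGp v ψ _
    · rintro _ ⟨c, rfl⟩
      refine Subgroup.subset_closure ⟨tv v ((c / ((φ ⬝ᵥ w) * b)) • φ), tv_mem_rootGp _ _ _, ?_⟩
      simp only [hcom]
      congr 2
      field_simp

section embedding

variable {v w φ ψ : Fin n → F} (hv : ψ ⬝ᵥ v = 1) (hw : φ ⬝ᵥ w = 1) (h : φ ⬝ᵥ v = 0) (h' : ψ ⬝ᵥ w = 0)

/-- The two columns `v`, `w`. -/
def colMat (v w : Fin n → F) : Matrix (Fin n) (Fin 2) F := Matrix.of fun i j => ![v i, w i] j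

/-- The two rows `ψ`, `φ`. -/
def rowMat (ψ φ : Fin n → F) : Matrix (Fin 2) (Fin n) F := Matrix.of ![ψ, φ]

include hv hw h h' in
theorem rowMat_mul_colMat : rowMat ψ φ * colMat v w = 1 := by
  ext i j
  fin_cases i <;> fin_cases j <;> simp [rowMat, colMat, Matrix.mul_apply] <;>
    simp only [← dotProduct.eq_def] <;> assumption

/-- The embedded matrix. -/
def embMat (v w ψ φ : Fin n → F) (M : Matrix (Fin 2) (Fin 2) F) : Mn :=
  1 + colMat v w * (M - 1) * rowMat ψ φ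

include hv hw h h' in
theorem embMat_mul (M N : Matrix (Fin 2) (Fin 2) F) :
    embMat v w ψ φ (M * N) = embMat v w ψ φ M * embMat v w ψ φ N := by
  have e := rowMat_mul_colMat hv hw h h'
  unfold embMat
  rw [show M * N - 1 = (M - 1) + (N - 1) + (M - 1) * (N - 1) by noncomm_ring]
  rw [add_mul, mul_add, mul_add, one_mul, one_mul, mul_one]
  rw [Matrix.mul_assoc (colMat v w * (M - 1)) (rowMat ψ φ), ← Matrix.mul_assoc (rowMat ψ φ),
    ← Matrix.mul_assoc (rowMat ψ φ), e, Matrix.one_mul]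
  simp only [Matrix.mul_add, Matrix.add_mul, Matrix.mul_assoc]
  abel

include hv hw h h' in
theorem det_embMat (M : Matrix (Fin 2) (Fin 2) F) : (embMat v w ψ φ M).det = M.det := by
  unfold embMat
  rw [Matrix.det_one_add_mul_comm, ← Matrix.mul_assoc, rowMat_mul_colMat hv hw h h', Matrix.one_mul,
    add_sub_cancel]

/-- The embedding of `SL₂`. -/
def emb : Matrix.SpecialLinearGroup (Fin 2) F →* SLn where
  toFun M := ⟨embMat v w ψ φ M, (det_embMat hv hw h h' M.1).trans M.2⟩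
  map_one' := Subtype.ext (by simp [embMat])
  map_mul' M N := Subtype.ext (embMat_mul hv hw h h' M.1 N.1)

theorem emb_injective : Function.Injective (emb hv hw h h') := by
  intro M N e
  have e' := congrArg (fun t : SLn => rowMat ψ φ * (t : Mn) * colMat v w) e
  have c := rowMat_mul_colMat hv hw h h'
  have k : ∀ X : Matrix (Fin 2) (Fin 2) F, rowMat ψ φ * embMat v w ψ φ X * colMat v w = X := by
    intro X
    unfold embMat
    rw [Matrix.mul_add, Matrix.mul_one, Matrix.add_mul, c, ← Matrix.mul_assoc, ← Matrix.mul_assoc, c,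
      Matrix.one_mul, Matrix.mul_assoc, c, Matrix.mul_one, add_sub_cancel]
  change rowMat ψ φ * embMat v w ψ φ M.1 * colMat v w = rowMat ψ φ * embMat v w ψ φ N.1 * colMat v w at e'
  rw [k, k] at e'
  exact Subtype.ext e'

theorem emb_up (y : F) : emb hv hw h h' (Cfsg.Agent.S5016.up y) = tv v (y • φ) := by
  apply Subtype.ext
  change embMat v w ψ φ _ = (tv v (y • φ) : Mn)
  rw [coe_tv (dot_smul_zero h y), Cfsg.Agent.S5016.up_coe]
  unfold embMat
  congr 1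
  ext a b
  simp [colMat, rowMat, Matrix.mul_apply, Fin.sum_univ_two, vecMulVec_apply, Matrix.one_fin_two]
  ring

theorem emb_lo (x : F) : emb hv hw h h' (Cfsg.Agent.S5016.lo x) = tv w (x • ψ) := by
  apply Subtype.ext
  change embMat v w ψ φ _ = (tv w (x • ψ) : Mn)
  rw [coe_tv (dot_smul_zero h' x), Cfsg.Agent.S5016.lo_coe]
  unfold embMat
  congr 1
  ext a b
  simp [colMat, rowMat, Matrix.mul_apply, Fin.sum_univ_two, vecMulVec_apply, Matrix.one_fin_two]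
  ring

include hv hw h h' in
theorem rankOne_normalised :
    IsRankOnePair (rootGp v φ) (rootGp w ψ) ∧ IsPSL2PairOver F (rootGp v φ) (rootGp w ψ) := by
  refine pair_of_embedding (emb hv hw h h') (emb_injective hv hw h h') ?_ ?_
  · rw [Cfsg.Agent.S5016.upper_eq]
    ext t
    rw [mem_rootGp h]
    constructor
    · rintro ⟨_, ⟨y, rfl⟩, rfl⟩; exact ⟨y, emb_up hv hw h h' y⟩
    · rintro ⟨y, rfl⟩; exact ⟨_, ⟨y, rfl⟩, emb_up hv hw h h' y⟩
  · rw [Cfsg.Agent.S5016.lower_eq]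
    ext t
    rw [mem_rootGp h']
    constructor
    · rintro ⟨_, ⟨y, rfl⟩, rfl⟩; exact ⟨y, emb_lo hv hw h h' y⟩
    · rintro ⟨y, rfl⟩; exact ⟨_, ⟨y, rfl⟩, emb_lo hv hw h h' y⟩

end embedding

theorem rankOne {v φ w ψ : Fin n → F} (h : φ ⬝ᵥ v = 0) (h' : ψ ⬝ᵥ w = 0) (hx : φ ⬝ᵥ w ≠ 0)
    (hy : ψ ⬝ᵥ v ≠ 0) :
    IsRankOnePair (rootGp v φ) (rootGp w ψ) ∧ IsPSL2PairOver F (rootGp v φ) (rootGp w ψ) := by
  rw [← rootGp_smul h' (inv_ne_zero hx) (inv_ne_zero hy)]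
  refine rankOne_normalised ?_ ?_ h ?_
  · rw [smul_dotProduct, smul_eq_mul, inv_mul_cancel₀ hy]
  · rw [dotProduct_smul, smul_eq_mul, inv_mul_cancel₀ hx]
  · rw [smul_dotProduct, dotProduct_smul, h', smul_zero, smul_zero]

theorem isRootSubgroupSet : IsRootSubgroupSet (rootSet F n) := by
  refine ⟨?_, ?_, ?_, ?_, ?_⟩
  · rintro _ ⟨v, φ, -, -, h, rfl⟩
    refine ⟨⟨?_⟩⟩
    rintro ⟨p, hp⟩ ⟨q, hq⟩
    obtain ⟨a, rfl⟩ := (mem_rootGp h).1 hp
    obtain ⟨b, rfl⟩ := (mem_rootGp h).1 hq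
    exact Subtype.ext (commute_tv (dot_smul_zero h a) (dot_smul_zero h b) (dot_smul_zero h a) (dot_smul_zero h b))
  · rintro _ ⟨v, φ, hv, hφ, h, rfl⟩
    exact rootGp_ne_bot hv hφ h
  · refine CfsgLib.Classical.SL_le_of_transvections _ fun i j hij c => ?_
    have h : (Pi.single j (1 : F) : Fin n → F) ⬝ᵥ Pi.single i 1 = 0 := by simp [dotProduct_single, hij]
    refine Subgroup.mem_iSup_of_mem (rootGp (Pi.single i (1 : F)) (Pi.single j (1 : F)))
      (Subgroup.mem_iSup_of_mem ⟨_, _, by simp, by simp, h, rfl⟩ ?_)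
    refine (mem_rootGp h).2 ⟨c, Subtype.ext ?_⟩
    rw [coe_tv (dot_smul_zero h c)]
    change Matrix.transvection i j c = _
    rw [Matrix.transvection]
    congr 1
    ext a b
    simp only [Matrix.single_apply, vecMulVec_apply, Pi.smul_apply, Pi.single_apply, smul_eq_mul]
    rcases eq_or_ne a i with ha | ha <;> rcases eq_or_ne b j with hb | hb <;>
      simp [ha, hb, Ne.symm]
  · rintro _ ⟨v, φ, hv, hφ, h, rfl⟩ g
    obtain ⟨v', φ', hv', hφ', h'', he⟩ := isTv_conj (⟨v, φ, hv, hφ, h, rfl⟩ : IsTv (tv v φ)) g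
    refine ⟨(g : Mn) *ᵥ v, φ ᵥ* ((g⁻¹ : SLn) : Mn), ?_, ?_, ?_, conj_rootGp g h⟩
    · intro h0
      refine hv ?_
      have := congrArg (fun x => ((g⁻¹ : SLn) : Mn) *ᵥ x) h0
      simp only [mulVec_mulVec, coe_inv_mul, one_mulVec, mulVec_zero] at this
      exact this
    · intro h0
      refine hφ ?_
      have := congrArg (fun x => x ᵥ* (g : Mn)) h0
      simp only [vecMul_vecMul, coe_inv_mul, vecMul_one, zero_vecMul] at this
      exact this
    · rw [← dotProduct_mulVec, mulVec_mulVec, coe_inv_mul, one_mulVec, h]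
  · rintro _ ⟨v, φ, hv, hφ, h, rfl⟩ _ ⟨w, ψ, hw, hψ, h', rfl⟩
    by_cases hx : φ ⬝ᵥ w = 0 <;> by_cases hy : ψ ⬝ᵥ v = 0
    · refine Or.inl (Subgroup.commutator_eq_bot_iff_le_centralizer.2 fun p hp => ?_)
      obtain ⟨a, rfl⟩ := (mem_rootGp h).1 hp
      refine Subgroup.mem_centralizer_iff.2 fun q hq => ?_
      obtain ⟨b, rfl⟩ := (mem_rootGp h').1 hq
      exact (commute_tv (dot_smul_zero h a) (dot_smul_zero h' b) (dot_smul_zero hx a) (dot_smul_zero hy b)).symm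
    · exact Or.inr (Or.inr (commutatorCase_symm (commutatorCase hw hφ h' h hy hx)))
    · exact Or.inr (Or.inr (commutatorCase hv hψ h h' hx hy))
    · exact Or.inr (Or.inl (rankOne h h' hx hy).1)

theorem isKRootSubgroupSet : IsKRootSubgroupSet F (rootSet F n) := by
  refine ⟨isRootSubgroupSet, ?_⟩
  rintro _ ⟨v, φ, hv, hφ, h, rfl⟩ _ ⟨w, ψ, hw, hψ, h', rfl⟩ hr
  by_cases hx : φ ⬝ᵥ w = 0 <;> by_cases hy : ψ ⬝ᵥ v = 0
  · refine absurd ?_ (CfsgLib.RankOne.commutator_ne_bot_of_isRankOnePair hr)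
    refine Subgroup.commutator_eq_bot_iff_le_centralizer.2 fun p hp => ?_
    obtain ⟨a, rfl⟩ := (mem_rootGp h).1 hp
    refine Subgroup.mem_centralizer_iff.2 fun q hq => ?_
    obtain ⟨b, rfl⟩ := (mem_rootGp h').1 hq
    exact (commute_tv (dot_smul_zero h a) (dot_smul_zero h' b) (dot_smul_zero hx a) (dot_smul_zero hy b)).symm
  · exact absurd hr (not_rankOne_of_commutatorCase isRootSubgroupSet ⟨w, ψ, hw, hψ, h', rfl⟩
      (commutatorCase_symm (commutatorCase hw hφ h' h hy hx)))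
  · exact absurd hr (not_rankOne_of_commutatorCase isRootSubgroupSet ⟨w, ψ, hw, hψ, h', rfl⟩
      (commutatorCase hv hψ h h' hx hy))
  · exact (rankOne h h' hx hy).2

end CfsgLib.RootSubgroups.SLRoot
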