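import Cfsg.Agent.Lib.RootSubgroups.SLTransv

/-!
Products of two transvections of `SL n F` in characteristic two.
-/

set_option autoImplicit false

namespace CfsgLib.RootSubgroups.SLTransvTwo

open Matrix CfsgLib.Known.PSLMinIndex CfsgLib.RootSubgroups.SLTransv

section algebraic

variable {F R : Type*} [Field F] [CharP F 2] [Ring R] [Algebra F R]

theorem add_self_eq (F : Type*) [Field F] [CharP F 2] {R : Type*} [Ring R] [Algebra F R] (x : R) :
    x + x = 0 := by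
  rw [← two_smul F x, CharTwo.two_eq_zero, zero_smul]

/-- The square of `N = A + B + A * B`. -/
theorem pair_sq {A B : R} {s : F} (hA : A * A = 0) (hB : B * B = 0) (hABA : A * B * A = s • A)
    (hBAB : B * A * B = s • B) :
    (A + B + A * B) * (A + B + A * B) = A * B + B * A + s • (A + B + A * B) := by
  have e : (A + B + A * B) * (A + B + A * B) = A * A + A * B + A * A * B + B * A + B * B + B * A * B +
      A * B * A + A * (B * B) + A * B * A * B := by noncomm_ring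
  rw [e, hA, hB, hABA, hBAB, smul_mul_assoc]
  simp only [zero_mul, mul_zero, smul_add]
  abel

theorem pair_cube {A B : R} {s : F} (hA : A * A = 0) (hB : B * B = 0) (hABA : A * B * A = s • A)
    (hBAB : B * A * B = s • B) :
    (A + B + A * B) * ((A + B + A * B) * (A + B + A * B)) =
      s • (A + B + A * B) + s • ((A + B + A * B) * (A + B + A * B)) := by
  have e : (A + B + A * B) * (A * B + B * A) =
      A * A * B + A * B * A + B * A * B + B * B * A + A * B * A * B + A * (B * B) * A := by noncomm_ring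
  have h : (A + B + A * B) * (A * B + B * A) = s • (A + B + A * B) := by
    rw [e, hA, hB, hABA, hBAB, smul_mul_assoc]
    simp only [zero_mul, mul_zero, smul_add]
    abel
  conv_lhs => rw [pair_sq hA hB hABA hBAB]
  rw [mul_add, h, mul_smul_comm]

theorem pair_cubic {A B : R} {s : F} (hA : A * A = 0) (hB : B * B = 0) (hABA : A * B * A = s • A)
    (hBAB : B * A * B = s • B) :
    ((1 + A) * (1 + B)) ^ 3 + (s + 1) • ((1 + A) * (1 + B)) ^ 2 + (s + 1) • ((1 + A) * (1 + B)) + 1 = 0 := by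
  have hc := pair_cube hA hB hABA hBAB
  set N := A + B + A * B with hN
  have hT : (1 + A) * (1 + B) = 1 + N := by rw [hN]; noncomm_ring
  have e2 : (1 + N) ^ 2 = 1 + (N + N) + N * N := by rw [sq]; noncomm_ring
  have e3 : (1 + N) ^ 3 = 1 + (N + N) + N + (N * N + N * N) + N * N + N * (N * N) := by
    rw [pow_succ, sq]; noncomm_ring
  rw [hT, e3, e2, hc]
  match_scalars <;> grind

theorem separable_cubic {s : F} (hs : s ≠ 0) :
    (Polynomial.X ^ 3 + Polynomial.C (s + 1) * Polynomial.X ^ 2 + Polynomial.C (s + 1) * Polynomial.X + 1 :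
      Polynomial F).Separable := by
  open Polynomial in
  have hd : derivative (X ^ 3 + C (s + 1) * X ^ 2 + C (s + 1) * X + 1 : F[X]) = X ^ 2 + C (s + 1) := by
    have h3 : (3 : F) = 1 := by linear_combination (CharTwo.two_eq_zero : (2 : F) = 0)
    simp [derivative_pow, CharTwo.two_eq_zero, h3]
  open Polynomial in
  have h2 : (2 : F[X]) = 0 := CharTwo.two_eq_zero
  open Polynomial in
  refine (separable_def' _).2 ⟨C ((s ^ 2)⁻¹), C ((s ^ 2)⁻¹) * (X + C (s + 1)), ?_⟩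
  open Polynomial in
  rw [hd, mul_assoc, ← mul_add,
    show (X ^ 3 + C (s + 1) * X ^ 2 + C (s + 1) * X + 1 : F[X]) + (X + C (s + 1)) * (X ^ 2 + C (s + 1)) =
      C (s ^ 2) by
      simp only [map_add, map_pow, map_one]
      linear_combination (X ^ 3 + (C s + 1) * X ^ 2 + (C s + 1) * X + C s + 1) * h2,
    ← map_mul, inv_mul_cancel₀ (pow_ne_zero 2 hs), map_one]

end algebraic

variable {F : Type*} [Field F] [CharP F 2] {n : ℕ}

local notation "SLn" => Matrix.SpecialLinearGroup (Fin n) F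
local notation "Mn" => Matrix (Fin n) (Fin n) F

theorem tv_mul_self {v φ : Fin n → F} (h : φ ⬝ᵥ v = 0) : tv v φ * tv v φ = 1 := by
  rw [← tv_add h h, show φ + φ = 0 from funext fun i => CharTwo.add_self_eq_zero (φ i), tv_zero]

theorem tv_ne_one {v φ : Fin n → F} (hv : v ≠ 0) (hφ : φ ≠ 0) (h : φ ⬝ᵥ v = 0) : tv v φ ≠ 1 := by
  intro e
  have e' := congrArg (fun t : SLn => (t : Mn)) e
  simp only [coe_tv h, Matrix.SpecialLinearGroup.coe_one] at e'
  obtain ⟨i, hi⟩ := Function.ne_iff.1 hv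
  obtain ⟨j, hj⟩ := Function.ne_iff.1 hφ
  have := congrFun (congrFun (add_eq_left.1 e') i) j
  rw [vecMulVec_apply] at this
  exact mul_ne_zero hi hj this

theorem orderOf_isTv {t : SLn} (ht : IsTv t) : orderOf t = 2 := by
  obtain ⟨v, φ, hv, hφ, h, rfl⟩ := ht
  exact orderOf_eq_prime (by rw [sq, tv_mul_self h]) (tv_ne_one hv hφ h)

/-- One vanishing pairing: the square of the product is a transvection. -/
theorem sq_eq {v φ w ψ : Fin n → F} (h : φ ⬝ᵥ v = 0) (h' : ψ ⬝ᵥ w = 0) (hy : ψ ⬝ᵥ v = 0) :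
    (tv v φ * tv w ψ) * (tv v φ * tv w ψ) = tv v ((φ ⬝ᵥ w) • ψ) := by
  refine Matrix.SpecialLinearGroup.ext _ _ fun i j => ?_
  refine congrFun (congrFun ?_ i) j
  rw [coe_mul', coe_mul', coe_tv h, coe_tv h', coe_tv (by rw [smul_dotProduct, hy, smul_zero]),
    vecMulVec_smul, ← CfsgLib.Known.PSLMinIndex.vecMulVec_mul v φ w ψ]
  have hz : vecMulVec w ψ * vecMulVec v φ = (0 : Mn) := by rw [CfsgLib.Known.PSLMinIndex.vecMulVec_mul, hy, zero_smul]
  have hA : vecMulVec v φ * vecMulVec v φ = (0 : Mn) := by rw [CfsgLib.Known.PSLMinIndex.vecMulVec_mul, h, zero_smul]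
  have hB : vecMulVec w ψ * vecMulVec w ψ = (0 : Mn) := by rw [CfsgLib.Known.PSLMinIndex.vecMulVec_mul, h', zero_smul]
  set A : Mn := vecMulVec v φ
  set B : Mn := vecMulVec w ψ
  have hp := pair_sq (F := F) (s := 0) hA hB (by rw [zero_smul, mul_assoc, hz, mul_zero])
    (by rw [zero_smul, hz, zero_mul])
  rw [zero_smul, hz, add_zero, add_zero] at hp
  calc (1 + A) * (1 + B) * ((1 + A) * (1 + B))
      = 1 + ((A + B + A * B) + (A + B + A * B)) + (A + B + A * B) * (A + B + A * B) := by noncomm_ring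
    _ = 1 + A * B := by rw [add_self_eq F, add_zero, hp]

theorem sq_eq' {v φ w ψ : Fin n → F} (h : φ ⬝ᵥ v = 0) (h' : ψ ⬝ᵥ w = 0) (hx : φ ⬝ᵥ w = 0) :
    (tv v φ * tv w ψ) * (tv v φ * tv w ψ) = tv w ((ψ ⬝ᵥ v) • φ) := by
  rw [← _root_.inv_inj]
  have e : (tv v φ * tv w ψ)⁻¹ = tv w ψ * tv v φ := by
    rw [_root_.mul_inv_rev, inv_eq_of_mul_eq_one_right (tv_mul_self h'), inv_eq_of_mul_eq_one_right (tv_mul_self h)]
  rw [_root_.mul_inv_rev, e, sq_eq h' h hx,
    inv_eq_of_mul_eq_one_right (tv_mul_self (by rw [smul_dotProduct, hx, smul_zero]))]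

theorem commute_of_pair_zero {v φ w ψ : Fin n → F} (h : φ ⬝ᵥ v = 0) (h' : ψ ⬝ᵥ w = 0)
    (hx : φ ⬝ᵥ w = 0) (hy : ψ ⬝ᵥ v = 0) : tv v φ * tv w ψ = tv w ψ * tv v φ := by
  refine Matrix.SpecialLinearGroup.ext _ _ fun i j => ?_
  refine congrFun (congrFun ?_ i) j
  rw [coe_mul', coe_mul', coe_tv h, coe_tv h', add_mul, mul_add, mul_add, add_mul, mul_add, mul_add,
    CfsgLib.Known.PSLMinIndex.vecMulVec_mul, CfsgLib.Known.PSLMinIndex.vecMulVec_mul, hx, hy, zero_smul, zero_smul]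
  simp only [one_mul, mul_one, add_zero]
  abel

theorem cubic_eq {v φ w ψ : Fin n → F} (h : φ ⬝ᵥ v = 0) (h' : ψ ⬝ᵥ w = 0) :
    let s := (φ ⬝ᵥ w) * (ψ ⬝ᵥ v)
    let T : Mn := (tv v φ * tv w ψ : SLn)
    T ^ 3 + (s + 1) • T ^ 2 + (s + 1) • T + 1 = 0 := by
  intro s T
  simp only [T, coe_mul', coe_tv h, coe_tv h']
  refine pair_cubic ?_ ?_ ?_ ?_
  · rw [CfsgLib.Known.PSLMinIndex.vecMulVec_mul, h, zero_smul]
  · rw [CfsgLib.Known.PSLMinIndex.vecMulVec_mul, h', zero_smul]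
  · rw [CfsgLib.Known.PSLMinIndex.vecMulVec_mul, smul_mul_assoc, CfsgLib.Known.PSLMinIndex.vecMulVec_mul, smul_smul]
  · rw [CfsgLib.Known.PSLMinIndex.vecMulVec_mul, smul_mul_assoc, CfsgLib.Known.PSLMinIndex.vecMulVec_mul, smul_smul, mul_comm]

theorem odd_orderOf [Finite F] {v φ w ψ : Fin n → F} (h : φ ⬝ᵥ v = 0) (h' : ψ ⬝ᵥ w = 0)
    (hx : φ ⬝ᵥ w ≠ 0) (hy : ψ ⬝ᵥ v ≠ 0) : Odd (orderOf (tv v φ * tv w ψ)) := by
  classical
  have : Fintype F := Fintype.ofFinite F
  set T := tv v φ * tv w ψ with hT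
  obtain ⟨a, m, hm, hTo⟩ := Nat.exists_eq_two_pow_mul_odd (orderOf_pos T).ne'
  have hP : Polynomial.aeval (T : Mn) (Polynomial.X ^ 3 + Polynomial.C ((φ ⬝ᵥ w) * (ψ ⬝ᵥ v) + 1) *
      Polynomial.X ^ 2 + Polynomial.C ((φ ⬝ᵥ w) * (ψ ⬝ᵥ v) + 1) * Polynomial.X + 1) = 0 := by
    simp only [map_add, map_mul, map_pow, Polynomial.aeval_X, Polynomial.aeval_C, map_one,
      ← Algebra.smul_def]
    simpa [hT, Algebra.smul_def, map_add] using cubic_eq h h'
  have hsq := ((separable_cubic (mul_ne_zero hx hy)).squarefree).squarefree_of_dvd (minpoly.dvd F _ hP)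
  have hpow : ∀ k, (T : Mn) ^ k = ((T ^ k : SLn) : Mn) := fun k =>
    (Matrix.SpecialLinearGroup.coe_pow T k).symm
  have hd : minpoly F (T : Mn) ∣ (Polynomial.X ^ m - 1 : Polynomial F) ^ (2 ^ a) := by
    rw [sub_pow_char_pow, one_pow, ← pow_mul, mul_comm m, ← hTo]
    refine minpoly.dvd F _ ?_
    rw [map_sub, map_pow, Polynomial.aeval_X, map_one, hpow, pow_orderOf_eq_one,
      Matrix.SpecialLinearGroup.coe_one, sub_self]
  have hd' := (hsq.dvd_pow_iff_dvd (pow_ne_zero a two_ne_zero)).1 hd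
  have h0 := Polynomial.aeval_eq_zero_of_dvd_aeval_eq_zero hd' (minpoly.aeval F (T : Mn))
  rw [map_sub, map_pow, Polynomial.aeval_X, map_one, sub_eq_zero, hpow] at h0
  refine hm.of_dvd_nat (orderOf_dvd_of_pow_eq_one (Subtype.ext ?_))
  exact h0

theorem pair_cases [Finite F] {s t : SLn} (hs : IsTv s) (ht : IsTv t) :
    s * t = t * s ∨ Odd (orderOf (s * t)) ∨ (orderOf (s * t) = 4 ∧ IsTv ((s * t) ^ 2)) := by
  obtain ⟨v, φ, hv, hφ, h, rfl⟩ := hs
  obtain ⟨w, ψ, hw, hψ, h', rfl⟩ := ht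
  have key : ∀ r : SLn, IsTv r → (tv v φ * tv w ψ) * (tv v φ * tv w ψ) = r →
      orderOf (tv v φ * tv w ψ) = 4 ∧ IsTv ((tv v φ * tv w ψ) ^ 2) := by
    intro r hr e
    refine ⟨?_, by rw [sq, e]; exact hr⟩
    have hr2 := orderOf_isTv hr
    have : orderOf (tv v φ * tv w ψ) = 2 ^ (1 + 1) := by
      refine orderOf_eq_prime_pow ?_ ?_
      · rw [pow_one, sq, e]
        intro h1
        rw [h1, orderOf_one] at hr2
        omega
      · rw [pow_succ, pow_mul, pow_one, sq (tv v φ * tv w ψ), e, ← hr2, pow_orderOf_eq_one]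
    simpa using this
  by_cases hx : φ ⬝ᵥ w = 0 <;> by_cases hy : ψ ⬝ᵥ v = 0
  · exact Or.inl (commute_of_pair_zero h h' hx hy)
  · exact Or.inr (Or.inr (key _ ⟨w, _, hw, smul_ne_zero hy hφ, by rw [smul_dotProduct, hx, smul_zero],
      rfl⟩ (sq_eq' h h' hx)))
  · exact Or.inr (Or.inr (key _ ⟨v, _, hv, smul_ne_zero hx hψ, by rw [smul_dotProduct, hy, smul_zero],
      rfl⟩ (sq_eq h h' hy)))
  · exact Or.inr (Or.inl (odd_orderOf h h' hx hy))

/-- Over the field with two elements a product of odd order has order one or three. -/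
theorem orderOf_dvd_three [Fintype F] (h2 : Fintype.card F = 2) {s t : SLn} (hs : IsTv s) (ht : IsTv t)
    (ho : Odd (orderOf (s * t))) : orderOf (s * t) = 1 ∨ orderOf (s * t) = 3 := by
  obtain ⟨v, φ, hv, hφ, h, rfl⟩ := hs
  obtain ⟨w, ψ, hw, hψ, h', rfl⟩ := ht
  refine (Nat.dvd_prime Nat.prime_three).1 ?_
  have h01 : ∀ x : F, x = 0 ∨ x = 1 := by
    intro x
    have := FiniteField.pow_card x
    rw [h2] at this
    rcases eq_or_ne x 0 with h0 | h0
    · exact Or.inl h0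
    · exact Or.inr (mul_left_cancel₀ h0 (by rw [← sq, this, mul_one]))
  rcases h01 ((φ ⬝ᵥ w) * (ψ ⬝ᵥ v)) with h0 | h0
  · have hdvd : orderOf (tv v φ * tv w ψ) ∣ 4 := by
      refine orderOf_dvd_of_pow_eq_one ?_
      rcases mul_eq_zero.1 h0 with hx | hy
      · rw [show (4 : ℕ) = 2 * 2 from rfl, pow_mul, sq (tv v φ * tv w ψ), sq_eq' h h' hx, sq,
          tv_mul_self (by rw [smul_dotProduct, hx, smul_zero])]
      · rw [show (4 : ℕ) = 2 * 2 from rfl, pow_mul, sq (tv v φ * tv w ψ), sq_eq h h' hy, sq,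
          tv_mul_self (by rw [smul_dotProduct, hy, smul_zero])]
    have h1 : orderOf (tv v φ * tv w ψ) = 1 :=
      Nat.eq_one_of_dvd_coprimes ((Nat.Coprime.pow_left 2 ho.coprime_two_left).symm) dvd_rfl
        (show orderOf (tv v φ * tv w ψ) ∣ 2 ^ 2 from hdvd)
    rw [h1]; exact one_dvd _
  · refine orderOf_dvd_of_pow_eq_one (Subtype.ext ?_)
    have hc := cubic_eq h h'
    simp only [h0, CharTwo.add_self_eq_zero, zero_smul, add_zero] at hc
    show ((tv v φ * tv w ψ) ^ 3 : SLn).1 = (1 : Mn)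
    rw [Matrix.SpecialLinearGroup.coe_pow]
    exact eq_of_sub_eq_zero (by rw [sub_eq_add_neg, show (-1 : Mn) = 1 from
      neg_eq_of_add_eq_zero_left (add_self_eq F _)]; exact hc)

end CfsgLib.RootSubgroups.SLTransvTwo
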