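import Cfsg.Agent.Lib.RootSubgroups.Ambient
import Cfsg.Agent.Lib.Classical.HermLines
import Cfsg.Agent.Lib.Classical.SU2

/-!
The transvection subgroups of the special unitary group.
-/

set_option autoImplicit false

namespace CfsgLib.RootSubgroups.SURoot

open Matrix Cfsg CfsgLib.Classical CfsgLib.RootSubgroups.SL2Pair

variable {F : Type*} [Field F] [Fintype F] {q N : ℕ} {σ : F →+* F}

/-- The action on column vectors. -/
abbrev act (g : SU N F q) (v : Fin N → F) : Fin N → F :=
  ((g : Matrix.SpecialLinearGroup (Fin N) F) : Matrix (Fin N) (Fin N) F) *ᵥ v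

omit [Fintype F] in
theorem su_ext {g g' : SU N F q} (h : ∀ v, act g v = act g' v) : g = g' :=
  Subtype.ext (Subtype.ext (Matrix.ext_of_mulVec_single fun _ => h _))

omit [Fintype F] in
theorem act_mul (g g' : SU N F q) (v : Fin N → F) : act (g * g') v = act g (act g' v) := by
  simp only [act, Subgroup.coe_mul, Matrix.SpecialLinearGroup.coe_mul, Matrix.mulVec_mulVec]

omit [Fintype F] in
theorem act_one (v : Fin N → F) : act (1 : SU N F q) v = v := by simp [act]

omit [Fintype F] in
theorem act_inv_act (g : SU N F q) (v : Fin N → F) : act g⁻¹ (act g v) = v := by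
  rw [← act_mul, inv_mul_cancel, act_one]

omit [Fintype F] in
theorem act_act_inv (g : SU N F q) (v : Fin N → F) : act g (act g⁻¹ v) = v := by
  rw [← act_mul, mul_inv_cancel, act_one]

omit [Fintype F] in
theorem act_form (g : SU N F q) (u v : Fin N → F) :
    hermForm N F q (act g u) (act g v) = hermForm N F q u v :=
  g.2 u v

theorem herm_add_right (hσ : ∀ a, σ a = a ^ q) (u v w : Fin N → F) :
    hermForm N F q u (v + w) = hermForm N F q u v + hermForm N F q u w := by
  simp [hermForm_apply N hσ, mul_add, Finset.sum_add_distrib]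

theorem herm_smul_right (hσ : ∀ a, σ a = a ^ q) (a : F) (u v : Fin N → F) :
    hermForm N F q u (a • v) = σ a * hermForm N F q u v := by
  simp [hermForm_apply N hσ, Finset.mul_sum, mul_left_comm]

theorem exists_herm_ne (hF : Fintype.card F = q ^ 2) {p : Fin N → F} (hp : p ≠ 0) :
    ∃ a, hermForm N F q a p ≠ 0 := by
  obtain ⟨σ, hσ, -, -⟩ := exists_qPow hF
  by_contra h
  push Not at h
  exact hp (hermForm_nondeg hσ (by have := two_le_q hF; omega) fun w => by rw [hermB_apply]; exact h w)

/-- The defining condition of a unitary transvection with centre `p`. -/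
def IsT (p : Fin N → F) (g : SU N F q) : Prop :=
  (∀ v : Fin N → F, ∃ c : F, act g v = v + c • p) ∧ ∀ v : Fin N → F, hermForm N F q v p = 0 → act g v = v

/-- The transvection group with centre `p`. -/
def rootGp (q : ℕ) (p : Fin N → F) : Subgroup (SU N F q) := Subgroup.closure {g | IsT p g}

/-- `g` is `v ↦ v + c h(v,p) p`. -/
def HasParam (p : Fin N → F) (g : SU N F q) (c : F) : Prop :=
  ∀ v : Fin N → F, act g v = v + (c * hermForm N F q v p) • p

theorem exists_hasParam (hF : Fintype.card F = q ^ 2) {p : Fin N → F} (hpp : hermForm N F q p p = 0) {c : F}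
    (hc : c ^ q = -c) : ∃ g : SU N F q, HasParam p g c := by
  obtain ⟨σ, hσ, -, -⟩ := exists_qPow hF
  let f : Module.Dual F (Fin N → F) :=
    { toFun := fun v => c * hermForm N F q v p
      map_add' := fun u v => by rw [hermForm_add_left, mul_add]
      map_smul' := fun a v => by rw [hermForm_smul_left, RingHom.id_apply, smul_eq_mul]; ring }
  have hdet : (LinearMap.toMatrix' (LinearMap.transvection f p)).det = 1 := by
    rw [LinearMap.det_toMatrix', LinearMap.transvection.det]
    simp [f, hpp]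
  have hact : ∀ v, LinearMap.toMatrix' (LinearMap.transvection f p) *ᵥ v = v + (c * hermForm N F q v p) • p :=
    fun v => LinearMap.toMatrix'_mulVec _ v
  refine ⟨⟨⟨_, hdet⟩, fun u v => ?_⟩, hact⟩
  show hermForm N F q (LinearMap.toMatrix' (LinearMap.transvection f p) *ᵥ u)
    (LinearMap.toMatrix' (LinearMap.transvection f p) *ᵥ v) = _
  rw [hact, hact, hermForm_add_left, herm_add_right hσ, herm_add_right hσ, hermForm_smul_left,
    hermForm_smul_left, herm_smul_right hσ, herm_smul_right hσ, map_mul, hσ c, hc, hσ (hermForm N F q v p),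
    hermForm_conj hF, hpp]
  ring

theorem hasParam_of_isT (hF : Fintype.card F = q ^ 2) {p : Fin N → F} (hp : p ≠ 0)
    (hpp : hermForm N F q p p = 0) {g : SU N F q} (hg : IsT p g) : ∃ c : F, c ^ q = -c ∧ HasParam p g c := by
  obtain ⟨σ, hσ, -, -⟩ := exists_qPow hF
  obtain ⟨a, ha⟩ := exists_herm_ne hF hp
  obtain ⟨c0, hc0⟩ := hg.1 a
  refine ⟨c0 / hermForm N F q a p, ?_, fun v => ?_⟩
  · have e := act_form g a a
    rw [hc0, hermForm_add_left, herm_add_right hσ, herm_add_right hσ, hermForm_smul_left,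
      hermForm_smul_left, herm_smul_right hσ, herm_smul_right hσ, hpp] at e
    have hpa : hermForm N F q p a = σ (hermForm N F q a p) := by rw [hσ, hermForm_conj hF]
    rw [hpa] at e
    have hne : σ (hermForm N F q a p) ≠ 0 := fun h => ha (σ.injective (h.trans (map_zero σ).symm))
    rw [← hσ, map_div₀, div_eq_iff hne, neg_mul, div_mul_eq_mul_div, ← neg_div, eq_div_iff ha]
    linear_combination e
  · have hv := hg.2 (v - (hermForm N F q v p / hermForm N F q a p) • a) (by
      rw [sub_eq_add_neg, ← neg_smul, hermForm_add_left, hermForm_smul_left, neg_mul,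
        div_mul_cancel₀ _ ha, add_neg_cancel])
    rw [act, Matrix.mulVec_sub, Matrix.mulVec_smul] at hv
    rw [act, eq_add_of_sub_eq hv, show ((g : Matrix.SpecialLinearGroup (Fin N) F) :
      Matrix (Fin N) (Fin N) F) *ᵥ a = a + c0 • p from hc0]
    module

omit [Fintype F] in
theorem HasParam.isT {p : Fin N → F} {g : SU N F q} {c : F} (h : HasParam p g c) : IsT p g :=
  ⟨fun v => ⟨_, h v⟩, fun v hv => by rw [h v, hv, mul_zero, zero_smul, add_zero]⟩

theorem mem_rootGp (hF : Fintype.card F = q ^ 2) {p : Fin N → F} (hp : p ≠ 0)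
    (hpp : hermForm N F q p p = 0) {g : SU N F q} :
    g ∈ rootGp q p ↔ ∃ c : F, c ^ q = -c ∧ HasParam p g c := by
  refine ⟨fun hg => ?_, fun ⟨c, _, hc⟩ => Subgroup.subset_closure hc.isT⟩
  obtain ⟨σ, hσ, -, -⟩ := exists_qPow hF
  induction hg using Subgroup.closure_induction with
  | mem x hx => exact hasParam_of_isT hF hp hpp hx
  | one =>
    refine ⟨0, by rw [← hσ, map_zero, neg_zero], fun v => ?_⟩
    rw [act_one, zero_mul, zero_smul, add_zero]
  | mul x y _ _ hx hy =>
    obtain ⟨a, ha, hax⟩ := hx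
    obtain ⟨b, hb, hby⟩ := hy
    refine ⟨a + b, by rw [← hσ, map_add, hσ, hσ, ha, hb, neg_add], fun v => ?_⟩
    rw [act_mul, hby v, hax, hermForm_add_left, hermForm_smul_left, hpp]
    module
  | inv x _ hx =>
    obtain ⟨a, ha, hax⟩ := hx
    refine ⟨-a, by rw [← hσ, map_neg, hσ, ha], fun v => ?_⟩
    have h := hax (v + (-a * hermForm N F q v p) • p)
    rw [hermForm_add_left, hermForm_smul_left, hpp] at h
    conv_lhs => rw [show v = act x (v + (-a * hermForm N F q v p) • p) by rw [h]; module]
    rw [act_inv_act]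

omit [Fintype F] in
theorem conj_rootGp_le (g : SU N F q) (p : Fin N → F) : conjBy (rootGp q p) g ≤ rootGp q (act g p) := by
  show (rootGp q p).map _ ≤ _
  rw [rootGp, MonoidHom.map_closure]
  refine Subgroup.closure_mono ?_
  rintro _ ⟨t, ht, rfl⟩
  show IsT (act g p) (g * t * g⁻¹)
  refine ⟨fun v => ?_, fun v hv => ?_⟩
  · obtain ⟨c, hc⟩ := ht.1 (act g⁻¹ v)
    exact ⟨c, by rw [act_mul, act_mul, hc, act, Matrix.mulVec_add, Matrix.mulVec_smul, act, ← act, act_act_inv]⟩
  · rw [act_mul, act_mul, ht.2 (act g⁻¹ v) (by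
      rw [← act_form g, act_act_inv, hv]), act_act_inv]

omit [Fintype F] in
theorem conj_rootGp (g : SU N F q) (p : Fin N → F) : conjBy (rootGp q p) g = rootGp q (act g p) := by
  refine le_antisymm (conj_rootGp_le g p) ?_
  have h := conj_rootGp_le g⁻¹ (act g p)
  rw [act_inv_act] at h
  calc rootGp q (act g p) = conjBy (conjBy (rootGp q (act g p)) g⁻¹) g :=
        (CfsgLib.RankOne.conjBy_conjBy_inv _ _).symm
    _ ≤ conjBy (rootGp q p) g := Subgroup.map_mono h

theorem rootGp_smul_le (hF : Fintype.card F = q ^ 2) {a : F} (ha : a ≠ 0) (p : Fin N → F) :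
    rootGp q p ≤ rootGp q (a • p) := by
  obtain ⟨σ, hσ, -, -⟩ := exists_qPow hF
  refine Subgroup.closure_mono ?_
  rintro t ⟨h1, h2⟩
  refine ⟨fun v => ?_, fun v hv => h2 v ?_⟩
  · obtain ⟨c, hc⟩ := h1 v
    exact ⟨c / a, by rw [smul_smul, div_mul_cancel₀ _ ha, hc]⟩
  · rw [herm_smul_right hσ] at hv
    exact (mul_eq_zero.1 hv).resolve_left fun h => ha (σ.injective (h.trans (map_zero σ).symm))

theorem rootGp_smul (hF : Fintype.card F = q ^ 2) {a : F} (ha : a ≠ 0) (p : Fin N → F) :
    rootGp q (a • p) = rootGp q p := by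
  refine le_antisymm ?_ (rootGp_smul_le hF ha p)
  have h := rootGp_smul_le hF (inv_ne_zero ha) (a • p)
  rwa [inv_smul_smul₀ ha] at h

theorem exists_anti (hF : Fintype.card F = q ^ 2) : ∃ δ : F, δ ≠ 0 ∧ δ ^ q = -δ := by
  obtain ⟨σ, hσ, hinv, hne⟩ := exists_qPow hF
  obtain ⟨x, hx⟩ : ∃ x, σ x ≠ x := not_forall.1 fun h => hne (RingHom.ext h)
  exact ⟨σ x - x, sub_ne_zero.2 hx, by rw [← hσ, map_sub, hinv]; ring⟩

theorem rootGp_ne_bot (hF : Fintype.card F = q ^ 2) {p : Fin N → F} (hp : p ≠ 0)
    (hpp : hermForm N F q p p = 0) : rootGp q p ≠ ⊥ := by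
  intro e
  obtain ⟨δ, hδ, hδ'⟩ := exists_anti hF
  obtain ⟨g, hg⟩ := exists_hasParam hF hpp hδ'
  have hm : g ∈ rootGp q p := Subgroup.subset_closure hg.isT
  rw [e, Subgroup.mem_bot] at hm
  obtain ⟨a, ha⟩ := exists_herm_ne hF hp
  have h := hg a
  rw [hm, act_one, left_eq_add, smul_eq_zero] at h
  exact h.elim (fun h => (mul_ne_zero hδ ha) h) hp

theorem commute_of_perp (hF : Fintype.card F = q ^ 2) {p r : Fin N → F} (hp : p ≠ 0)
    (hpp : hermForm N F q p p = 0) (hr : r ≠ 0) (hrr : hermForm N F q r r = 0)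
    (h : hermForm N F q p r = 0) : ⁅rootGp q p, rootGp q r⁆ = ⊥ := by
  have h' : hermForm N F q r p = 0 := by
    rw [← hermForm_conj hF, h, zero_pow (by have := two_le_q hF; omega)]
  refine Subgroup.commutator_eq_bot_iff_le_centralizer.2 fun x hx => ?_
  obtain ⟨a, -, hax⟩ := (mem_rootGp hF hp hpp).1 hx
  refine Subgroup.mem_centralizer_iff.2 fun y hy => ?_
  obtain ⟨b, -, hby⟩ := (mem_rootGp hF hr hrr).1 hy
  refine su_ext fun v => ?_
  rw [act_mul, act_mul, hax v, hby v, hby, hax, hermForm_add_left, hermForm_add_left, hermForm_smul_left,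
    hermForm_smul_left, h, h']
  module

section embedding

/-- The action of a two by two matrix on the plane of `p` and `r`. -/
noncomputable def planeLin (q : ℕ) (p r : Fin N → F) (M : Matrix (Fin 2) (Fin 2) F) :
    (Fin N → F) →ₗ[F] (Fin N → F) where
  toFun x := x + ((M 0 0 - 1) * hermForm N F q x r + M 0 1 * hermForm N F q x p) • p +
    (M 1 0 * hermForm N F q x r + (M 1 1 - 1) * hermForm N F q x p) • r
  map_add' x y := by simp only [hermForm_add_left]; module
  map_smul' a x := by simp only [hermForm_smul_left, RingHom.id_apply]; module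

omit [Fintype F] in
theorem planeLin_apply (p r : Fin N → F) (M : Matrix (Fin 2) (Fin 2) F) (x : Fin N → F) :
    planeLin q p r M x = x + ((M 0 0 - 1) * hermForm N F q x r + M 0 1 * hermForm N F q x p) • p +
    (M 1 0 * hermForm N F q x r + (M 1 1 - 1) * hermForm N F q x p) • r := rfl

variable {L : Type*} [Field L]

/-- The matrix over `F` attached to a matrix over the fixed field. -/
def twist (f : L →+* F) (δ : F) (M : Matrix (Fin 2) (Fin 2) L) : Matrix (Fin 2) (Fin 2) F :=
  !![f (M 0 0), f (M 0 1) * δ; f (M 1 0) * δ⁻¹, f (M 1 1)]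

theorem exists_planeHom (hF : Fintype.card F = q ^ 2) {p r : Fin N → F} (hpp : hermForm N F q p p = 0)
    (hrr : hermForm N F q r r = 0) (hpr : hermForm N F q p r = 1) (f : L →+* F) (hf : ∀ x, (f x) ^ q = f x)
    {δ : F} (hδ : δ ≠ 0) (hδ' : δ ^ q = -δ) :
    ∃ φ : Matrix.SpecialLinearGroup (Fin 2) L →* SU N F q,
      ∀ M x, act (φ M) x = planeLin q p r (twist f δ M.1) x := by
  obtain ⟨σ, hσ, -, -⟩ := exists_qPow hF
  have hq := two_le_q hF
  have hrp : hermForm N F q r p = 1 := by rw [← hermForm_conj hF, hpr, one_pow]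
  let Mat : Matrix.SpecialLinearGroup (Fin 2) L →* Matrix (Fin N) (Fin N) F :=
    { toFun := fun M => LinearMap.toMatrix' (planeLin q p r (twist f δ M.1))
      map_one' := by
        refine Matrix.ext_of_mulVec_single fun i => ?_
        rw [LinearMap.toMatrix'_mulVec, planeLin_apply, one_mulVec]
        simp [twist]
      map_mul' := fun M K => by
        refine Matrix.ext_of_mulVec_single fun i => ?_
        rw [← mulVec_mulVec, LinearMap.toMatrix'_mulVec, LinearMap.toMatrix'_mulVec, LinearMap.toMatrix'_mulVec]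
        rw [planeLin_apply, planeLin_apply p r (twist f δ K.1), planeLin_apply]
        simp only [hermForm_add_left, hermForm_smul_left, hpp, hrr, hpr, hrp, twist, Matrix.of_apply,
          Matrix.cons_val', Matrix.cons_val_zero, Matrix.cons_val_one, Matrix.cons_val_fin_one,
          Matrix.SpecialLinearGroup.coe_mul, Matrix.mul_apply, Fin.sum_univ_two, map_add, map_mul]
        match_scalars <;> field_simp <;> ring }
  have hMat : ∀ M x, Mat M *ᵥ x = planeLin q p r (twist f δ M.1) x :=
    fun M x => LinearMap.toMatrix'_mulVec _ _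
  have hone : ∀ (c : F) (u : Fin N → F) (A : Matrix (Fin N) (Fin N) F), hermForm N F q u u = 0 →
      (∀ x, A *ᵥ x = x + (c * hermForm N F q x u) • u) → A.det = 1 := by
    intro c u A hu hA
    let g : Module.Dual F (Fin N → F) :=
      { toFun := fun v => c * hermForm N F q v u
        map_add' := fun a b => by rw [hermForm_add_left, mul_add]
        map_smul' := fun a v => by rw [hermForm_smul_left, RingHom.id_apply, smul_eq_mul]; ring }
    have e : A = LinearMap.toMatrix' (LinearMap.transvection g u) :=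
      Matrix.ext_of_mulVec_single fun i => by rw [LinearMap.toMatrix'_mulVec, hA]; rfl
    rw [e, LinearMap.det_toMatrix', LinearMap.transvection.det]
    simp [g, hu]
  have hdet : ∀ M, (Mat M).det = 1 := by
    intro M
    have hM : M ∈ upperUnipotentSL2 L ⊔ lowerUnipotentSL2 L := by
      rw [sup_comm, Cfsg.Agent.S5016.lower_eq, Cfsg.Agent.S5016.upper_eq, Cfsg.Agent.S5016.sup_eq_top L]
      trivial
    let χ := (Matrix.detMonoidHom : Matrix (Fin N) (Fin N) F →* F).comp Mat
    have hle : upperUnipotentSL2 L ⊔ lowerUnipotentSL2 L ≤ χ.ker := by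
      refine sup_le ?_ ?_
      · rw [Cfsg.Agent.S5016.upper_eq]
        rintro _ ⟨y, rfl⟩
        refine MonoidHom.mem_ker.2 (hone (f y * δ) p _ hpp fun x => ?_)
        rw [hMat, planeLin_apply]
        simp [twist]
      · rw [Cfsg.Agent.S5016.lower_eq]
        rintro _ ⟨y, rfl⟩
        refine MonoidHom.mem_ker.2 (hone (f y * δ⁻¹) r _ hrr fun x => ?_)
        rw [hMat, planeLin_apply]
        simp [twist]
    exact MonoidHom.mem_ker.1 (hle hM)
  have hform : ∀ M, (⟨Mat M, hdet M⟩ : Matrix.SpecialLinearGroup (Fin N) F) ∈ SU N F q := by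
    intro M u v
    show hermForm N F q (Mat M *ᵥ u) (Mat M *ᵥ v) = _
    have hd : f (M.1 0 0) * f (M.1 1 1) - f (M.1 0 1) * f (M.1 1 0) = 1 := by
      rw [← map_mul, ← map_mul, ← map_sub, ← Matrix.det_fin_two, M.2, map_one]
    have hfix : ∀ x, σ (f x) = f x := fun x => by rw [hσ, hf]
    have hδi : σ δ⁻¹ = -δ⁻¹ := by rw [map_inv₀, hσ, hδ', inv_neg]
    have hδσ : σ δ = -δ := by rw [hσ, hδ']
    have hu2 : hermForm N F q p v = σ (hermForm N F q v p) := by rw [hσ, hermForm_conj hF]
    have hu1 : hermForm N F q r v = σ (hermForm N F q v r) := by rw [hσ, hermForm_conj hF]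
    simp only [hMat, planeLin_apply, hermForm_add_left, herm_add_right hσ, hermForm_smul_left,
      herm_smul_right hσ, hpp, hrr, hpr, hrp, hu1, hu2, twist, Matrix.of_apply, Matrix.cons_val',
      Matrix.cons_val_zero, Matrix.cons_val_one, Matrix.cons_val_fin_one, map_add, map_sub, map_mul, map_one,
      hfix, hδi, hδσ]
    field_simp
    linear_combination (hermForm N F q u r * σ (hermForm N F q v p) +
      hermForm N F q u p * σ (hermForm N F q v r)) * δ ^ 2 * hd
  refine ⟨{ toFun := fun M => ⟨⟨Mat M, hdet M⟩, hform M⟩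
            map_one' := Subtype.ext (Subtype.ext Mat.map_one)
            map_mul' := fun M K => Subtype.ext (Subtype.ext (Mat.map_mul M K)) }, fun M x => hMat M x⟩

theorem fixed_eq_range [Fintype L] (hF : Fintype.card F = q ^ 2) (hL : Fintype.card L = q) (f : L →+* F)
    (hf : ∀ x, (f x) ^ q = f x) {a : F} (ha : a ^ q = a) : ∃ x, f x = a := by
  classical
  open Polynomial in
  have hq := two_le_q hF
  have hne : (X ^ q - X : F[X]) ≠ 0 := FiniteField.X_pow_card_sub_X_ne_zero F (by omega)
  have hdeg : (X ^ q - X : F[X]).natDegree = q := FiniteField.X_pow_card_sub_X_natDegree_eq F (by omega)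
  have hroot : ∀ y : F, y ^ q = y → y ∈ (X ^ q - X : F[X]).roots.toFinset := fun y hy => by
    rw [Multiset.mem_toFinset, mem_roots hne]
    simp [hy]
  have hsub : Finset.univ.image f ⊆ (X ^ q - X : F[X]).roots.toFinset := by
    intro y hy
    obtain ⟨x, -, rfl⟩ := Finset.mem_image.1 hy
    exact hroot _ (hf x)
  have hcard : (Finset.univ.image f).card = q := by
    rw [Finset.card_image_of_injective _ f.injective, Finset.card_univ, hL]
  have heq := Finset.eq_of_subset_of_card_le hsub (by
    rw [hcard]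
    exact (Multiset.toFinset_card_le _).trans ((card_roots' _).trans hdeg.le))
  have h := hroot a ha
  rw [← heq] at h
  obtain ⟨x, -, hx⟩ := Finset.mem_image.1 h
  exact ⟨x, hx⟩

theorem rankOne_normalised [Fintype L] (hF : Fintype.card F = q ^ 2) (hL : Fintype.card L = q)
    {p r : Fin N → F} (hpp : hermForm N F q p p = 0) (hrr : hermForm N F q r r = 0)
    (hpr : hermForm N F q p r = 1) :
    IsRankOnePair (rootGp q p) (rootGp q r) ∧ IsPSL2PairOver L (rootGp q p) (rootGp q r) := by
  obtain ⟨σ, hσ, -, -⟩ := exists_qPow hF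
  have hq := two_le_q hF
  obtain ⟨f, hf⟩ := exists_embedding_fixed hF hL
  obtain ⟨δ, hδ, hδ'⟩ := exists_anti hF
  obtain ⟨φ, hφ⟩ := exists_planeHom hF hpp hrr hpr f hf hδ hδ'
  have hrp : hermForm N F q r p = 1 := by rw [← hermForm_conj hF, hpr, one_pow]
  have h0 : hermForm N F q (0 : Fin N → F) r = 0 := (hermForm_zero_left (by omega) r).1
  have hp0 : p ≠ 0 := fun h => by rw [h, h0] at hpr; exact zero_ne_one hpr
  have hr0 : r ≠ 0 := fun h => by
    rw [h, (hermForm_zero_left (by omega) p).2] at hpr; exact zero_ne_one hpr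
  have hinj : Function.Injective φ := by
    refine (injective_iff_map_eq_one φ).2 fun M hM => ?_
    have h1 := hφ M p
    have h2 := hφ M r
    rw [hM, act_one, planeLin_apply, hpp, hpr, add_assoc, left_eq_add] at h1
    rw [hM, act_one, planeLin_apply, hrr, hrp, add_assoc, left_eq_add] at h2
    have e1 := congrArg (fun v => hermForm N F q v r) h1
    have e2 := congrArg (fun v => hermForm N F q v p) h1
    have e3 := congrArg (fun v => hermForm N F q v r) h2
    have e4 := congrArg (fun v => hermForm N F q v p) h2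
    simp only [hermForm_add_left, hermForm_smul_left, hpp, hrr, hpr, hrp,
      (hermForm_zero_left (F := F) (n := N) (show 1 ≤ q by omega) _).1, twist, Matrix.of_apply, Matrix.cons_val',
      Matrix.cons_val_zero, Matrix.cons_val_one, Matrix.cons_val_fin_one, mul_one, mul_zero, add_zero,
      zero_add, sub_eq_zero, mul_eq_zero, inv_eq_zero, hδ, or_false, map_eq_zero,
      map_eq_one_iff f f.injective] at e1 e2 e3 e4
    refine Matrix.SpecialLinearGroup.ext _ _ fun i j => ?_
    fin_cases i <;> fin_cases j <;> simp [e1, e2, e3, e4]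
  have hup : ∀ y, HasParam p (φ (Cfsg.Agent.S5016.up y)) (f y * δ) := fun y v => by
    rw [hφ, planeLin_apply]
    simp [twist]
  have hlo : ∀ y, HasParam r (φ (Cfsg.Agent.S5016.lo y)) (f y * δ⁻¹) := fun y v => by
    rw [hφ, planeLin_apply]
    simp [twist]
  have hanti : ∀ y, (f y * δ) ^ q = -(f y * δ) ∧ (f y * δ⁻¹) ^ q = -(f y * δ⁻¹) := fun y => by
    rw [mul_pow, mul_pow, inv_pow, hf, hδ', inv_neg, mul_neg, mul_neg]
    exact ⟨rfl, rfl⟩
  have hpar : ∀ {u : Fin N → F} {g g' : SU N F q} {c : F}, HasParam u g c → HasParam u g' c → g = g' :=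
    fun h h' => su_ext fun v => (h v).trans (h' v).symm
  refine pair_of_embedding φ hinj ?_ ?_
  · rw [Cfsg.Agent.S5016.upper_eq]
    ext t
    rw [mem_rootGp hF hp0 hpp]
    constructor
    · rintro ⟨_, ⟨y, rfl⟩, rfl⟩
      exact ⟨_, (hanti y).1, hup y⟩
    · rintro ⟨c, hc, ht⟩
      obtain ⟨y, hy⟩ := fixed_eq_range hF hL f hf (a := c * δ⁻¹) (by
        rw [mul_pow, inv_pow, hc, hδ', inv_neg, neg_mul_neg])
      refine ⟨_, ⟨y, rfl⟩, hpar (hup y) ?_⟩
      rwa [hy, inv_mul_cancel_right₀ hδ]
  · rw [Cfsg.Agent.S5016.lower_eq]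
    ext t
    rw [mem_rootGp hF hr0 hrr]
    constructor
    · rintro ⟨_, ⟨y, rfl⟩, rfl⟩
      exact ⟨_, (hanti y).2, hlo y⟩
    · rintro ⟨c, hc, ht⟩
      obtain ⟨y, hy⟩ := fixed_eq_range hF hL f hf (a := c * δ) (by
        rw [mul_pow, hc, hδ', neg_mul_neg])
      refine ⟨_, ⟨y, rfl⟩, hpar (hlo y) ?_⟩
      rwa [hy, mul_inv_cancel_right₀ hδ]

theorem rankOne [Fintype L] (hF : Fintype.card F = q ^ 2) (hL : Fintype.card L = q) {p r : Fin N → F}
    (hpp : hermForm N F q p p = 0) (hrr : hermForm N F q r r = 0) (hpr : hermForm N F q p r ≠ 0) :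
    IsRankOnePair (rootGp q p) (rootGp q r) ∧ IsPSL2PairOver L (rootGp q p) (rootGp q r) := by
  rw [← rootGp_smul hF (inv_ne_zero hpr) p]
  refine rankOne_normalised hF hL ?_ hrr ?_
  · obtain ⟨σ, hσ, -, -⟩ := exists_qPow hF
    rw [hermForm_smul_left, herm_smul_right hσ, hpp, mul_zero, mul_zero]
  · rw [hermForm_smul_left, inv_mul_cancel₀ hpr]

end embedding

theorem exists_common (hF : Fintype.card F = q ^ 2) {p r : Fin N → F} (hpp : hermForm N F q p p = 0)
    (hli : LinearIndependent F ![p, r]) (hpr : hermForm N F q p r = 0) :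
    ∃ s, s ≠ 0 ∧ hermForm N F q s s = 0 ∧ hermForm N F q p s ≠ 0 ∧ hermForm N F q r s ≠ 0 := by
  obtain ⟨σ, hσ, hinv, hne⟩ := exists_qPow hF
  have hq := two_le_q hF
  let L : (Fin N → F) →ₗ[F] (Fin 2 → F) :=
    LinearMap.pi fun i => (show (Fin N → F) →ₗ[F] F from
      { toFun := fun v => hermForm N F q v (![p, r] i)
        map_add' := fun a b => hermForm_add_left a b _
        map_smul' := fun a v => hermForm_smul_left a v _ })
  have hsurj : Function.Surjective L := by
    rw [← LinearMap.range_eq_top]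
    by_contra hne'
    obtain ⟨φ, hφ0, hφ⟩ := Submodule.exists_le_ker_of_lt_top _ (lt_top_iff_ne_top.2 hne')
    have hzero : ∀ v, φ (Pi.single 0 1) * hermForm N F q v p + φ (Pi.single 1 1) * hermForm N F q v r = 0 := by
      intro v
      have h := LinearMap.mem_ker.1 (hφ ⟨v, rfl⟩)
      have e : L v = hermForm N F q v p • (Pi.single 0 1 : Fin 2 → F) + hermForm N F q v r • Pi.single 1 1 := by
        ext i; fin_cases i <;> simp [L]
      rw [e, map_add, map_smul, map_smul, smul_eq_mul, smul_eq_mul] at h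
      linear_combination h
    have hz : σ (φ (Pi.single 0 1)) • p + σ (φ (Pi.single 1 1)) • r = 0 :=
      hermForm_nondeg hσ (by omega) fun w => by
        rw [hermB_apply, herm_add_right hσ, herm_smul_right hσ, herm_smul_right hσ, hinv, hinv, hzero w]
    obtain ⟨h1, h2⟩ := LinearIndependent.pair_iff.1 hli _ _ hz
    rw [map_eq_zero] at h1 h2
    refine hφ0 (LinearMap.pi_ext fun i x => ?_)
    have hx : (Pi.single i x : Fin 2 → F) = x • Pi.single i 1 := by
      ext j; by_cases hj : j = i <;> simp [hj]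
    rw [hx, map_smul]
    fin_cases i <;> simp [h1, h2]
  obtain ⟨x, hx⟩ := hsurj ![1, 1]
  have hxp : hermForm N F q x p = 1 := congrFun hx 0
  have hxr : hermForm N F q x r = 1 := congrFun hx 1
  have hpx : hermForm N F q p x = 1 := by rw [← hermForm_conj hF, hxp, one_pow]
  have hrx : hermForm N F q r x = 1 := by rw [← hermForm_conj hF, hxr, one_pow]
  have hrp : hermForm N F q r p = 0 := by rw [← hermForm_conj hF, hpr, zero_pow (by omega)]
  obtain ⟨y, hy⟩ : ∃ y, y + σ y ≠ 0 := by
    by_contra h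
    push Not at h
    have h11 := h 1
    rw [map_one] at h11
    refine hne (RingHom.ext fun x => ?_)
    rw [RingHom.id_apply]
    linear_combination h x - x * h11
  have hxx : σ (hermForm N F q x x) = hermForm N F q x x := by rw [hσ, hermForm_conj hF]
  set a : F := -(hermForm N F q x x) * y / (y + σ y) with ha
  have hatr : a + σ a = -(hermForm N F q x x) := by
    rw [ha, map_div₀, map_mul, map_neg, map_add, hinv, hxx, add_comm (σ y) y, ← add_div,
      div_eq_iff hy]
    ring
  refine ⟨x + a • p, fun h => ?_, ?_, ?_, ?_⟩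
  · have e := congrArg (fun v => hermForm N F q v p) h
    simp only [hermForm_add_left, hermForm_smul_left, hxp, hpp, mul_zero, add_zero,
      (hermForm_zero_left (F := F) (n := N) (show 1 ≤ q by omega) p).1] at e
    exact one_ne_zero e
  · rw [hermForm_add_left, herm_add_right hσ, herm_add_right hσ, hermForm_smul_left, hermForm_smul_left,
      herm_smul_right hσ, herm_smul_right hσ, hxp, hpx, hpp]
    linear_combination hatr
  · rw [herm_add_right hσ, herm_smul_right hσ, hpx, hpp, mul_zero, add_zero]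
    exact one_ne_zero
  · rw [herm_add_right hσ, herm_smul_right hσ, hrx, hrp, mul_zero, add_zero]
    exact one_ne_zero

end CfsgLib.RootSubgroups.SURoot
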