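import Cfsg.Agent.Lib.RootSubgroups.Ambient
import Cfsg.Agent.Lib.Classical.QuadPOmega

/-!
The Siegel transvection groups of the singular lines of a quadratic form.
-/

set_option autoImplicit false

namespace CfsgLib.RootSubgroups.Siegel

open Matrix Cfsg CfsgLib.Classical CfsgLib.RootSubgroups.SL2Pair

variable {F : Type*} [Field F] {ι : Type} [Fintype ι] [DecidableEq ι] {Q : QuadraticForm F (ι → F)}

set_option quotPrecheck false in
local notation "B" => QuadraticMap.polar (DFunLike.coe Q)

/-- `p` and `r` span a totally singular space. -/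
structure Sing (Q : QuadraticForm F (ι → F)) (p r : ι → F) : Prop where
  left : Q p = 0
  right : Q r = 0
  orth : QuadraticMap.polar Q p r = 0

omit [Fintype ι] [DecidableEq ι] in
theorem Sing.symm {p r : ι → F} (h : Sing Q p r) : Sing Q r p :=
  ⟨h.right, h.left, (QuadraticMap.polar_comm _ _ _).trans h.orth⟩

omit [Fintype ι] [DecidableEq ι] in
theorem polar_self_zero {p : ι → F} (h : Q p = 0) : B p p = 0 := by
  rw [quad_polar_self, h, mul_zero]

omit [Fintype ι] [DecidableEq ι] in
/-- Prescribing the polar values against an independent family. -/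
theorem exists_polar (hQ : PolarNondeg Q) {k : ℕ} {u : Fin k → ι → F} (hu : LinearIndependent F u)
    (e : Fin k → F) : ∃ x, ∀ i, B x (u i) = e i := by
  let L : (ι → F) →ₗ[F] (Fin k → F) := LinearMap.pi fun i => (QuadraticMap.polarBilin Q).flip (u i)
  have hL : ∀ x i, L x i = B x (u i) := fun x i => rfl
  suffices hs : Function.Surjective L by
    obtain ⟨x, hx⟩ := hs e
    exact ⟨x, fun i => (hL x i).symm.trans (congrFun hx i)⟩
  rw [← LinearMap.range_eq_top]
  by_contra hne
  obtain ⟨φ, hφ0, hφ⟩ := Submodule.exists_le_ker_of_lt_top _ (lt_top_iff_ne_top.2 hne)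
  have hsingle : ∀ (i : Fin k) (a : F), (Pi.single i a : Fin k → F) = a • Pi.single i 1 := fun i a => by
    ext j; by_cases hj : j = i <;> simp [hj]
  have hz : ∑ i, φ (Pi.single i 1) • u i = 0 := by
    refine hQ _ fun w => ?_
    have h := LinearMap.mem_ker.1 (hφ ⟨w, rfl⟩)
    rw [← Finset.univ_sum_single (L w), map_sum] at h
    rw [QuadraticMap.polar_comm, ← QuadraticMap.polarBilin_apply_apply, map_sum]
    refine Eq.trans (Finset.sum_congr rfl fun i _ => ?_) h
    rw [map_smul, QuadraticMap.polarBilin_apply_apply, hsingle i (L w i), map_smul, hL, smul_eq_mul, smul_eq_mul,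
      mul_comm]
  have hz' := Fintype.linearIndependent_iff.1 hu _ hz
  refine hφ0 (LinearMap.pi_ext fun i a => ?_)
  rw [hsingle, map_smul, hz', smul_zero, LinearMap.zero_apply]

/-- `g` is `v ↦ v + c (f(v,p) r - f(v,r) p)`. -/
def HasPar (p r : ι → F) (g : isometryGroup F ⇑Q) (c : F) : Prop :=
  ∀ x : ι → F, isoApply g x = x + c • (QuadraticMap.polar Q x p • r - QuadraticMap.polar Q x r • p)

theorem hasPar_unique {p r : ι → F} {g g' : isometryGroup F ⇑Q} {c : F} (h : HasPar p r g c)
    (h' : HasPar p r g' c) : g = g' :=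
  iso_ext fun x => (h x).trans (h' x).symm

/-- The linear map of `HasPar`. -/
noncomputable def sLin (Q : QuadraticForm F (ι → F)) (p r : ι → F) (c : F) : (ι → F) →ₗ[F] (ι → F) where
  toFun x := x + c • (QuadraticMap.polar Q x p • r - QuadraticMap.polar Q x r • p)
  map_add' x y := by simp only [QuadraticMap.polar_add_left]; module
  map_smul' a x := by simp only [QuadraticMap.polar_smul_left, RingHom.id_apply, smul_eq_mul]; module

omit [Fintype ι] [DecidableEq ι] in
theorem injective_of_isometry (hQ : PolarNondeg Q) (f : (ι → F) →ₗ[F] (ι → F)) (hf : ∀ x, Q (f x) = Q x) :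
    Function.Injective f := by
  rw [← LinearMap.ker_eq_bot, LinearMap.ker_eq_bot']
  intro x hx
  refine hQ x fun w => ?_
  have e : B (f x) (f w) = B x w := by
    simp only [QuadraticMap.polar, ← map_add, hf]
  rw [← e, hx, QuadraticMap.polar_zero_left]

theorem exists_hasPar (hQ : PolarNondeg Q) {p r : ι → F} (h : Sing Q p r) (c : F) :
    ∃ g : isometryGroup F ⇑Q, HasPar p r g c := by
  have hiso : ∀ x, Q (sLin Q p r c x) = Q x := by
    intro x
    show Q (x + c • (B x p • r - B x r • p)) = Q x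
    rw [sub_eq_add_neg, ← neg_smul, quad_add, quad_smul, quad_add, quad_smul, quad_smul, h.left, h.right]
    simp only [QuadraticMap.polar_add_right, QuadraticMap.polar_smul_right, QuadraticMap.polar_smul_left,
      h.symm.orth, smul_eq_mul]
    ring
  exact ⟨isoMk (sLin Q p r c) (injective_of_isometry hQ _ hiso) hiso, fun x => isoMk_apply _ _ _ x⟩

/-- The Siegel transvection group of the line of `p` and `r`. -/
def rootGp (Q : QuadraticForm F (ι → F)) (p r : ι → F) : Subgroup (isometryGroup F ⇑Q) :=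
  Subgroup.closure {g | ∀ v : ι → F, QuadraticMap.polar Q v p = 0 → QuadraticMap.polar Q v r = 0 →
    isoApply g v = v}

theorem HasPar.mem {p r : ι → F} {g : isometryGroup F ⇑Q} {c : F} (h : HasPar p r g c) : g ∈ rootGp Q p r :=
  Subgroup.subset_closure fun v h1 h2 => by rw [h v, h1, h2]; module

theorem hasPar_of_fix (hQ : PolarNondeg Q) {p r : ι → F} (h : Sing Q p r)
    (hli : LinearIndependent F ![p, r]) {g : isometryGroup F ⇑Q}
    (hg : ∀ v, B v p = 0 → B v r = 0 → isoApply g v = v) : ∃ c, HasPar p r g c := by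
  obtain ⟨xp, hxp⟩ := exists_polar hQ hli ![1, 0]
  obtain ⟨xr, hxr⟩ := exists_polar hQ hli ![0, 1]
  have h1 : B xp p = 1 := hxp 0
  have h2 : B xp r = 0 := hxp 1
  have h3 : B xr p = 0 := hxr 0
  have h4 : B xr r = 1 := hxr 1
  set u := isoApply g xp - xp with hu
  set w := isoApply g xr - xr with hw
  have hlin : ∀ x, isoApply g x = x + B x p • u + B x r • w := by
    intro x
    have e := hg (x - B x p • xp - B x r • xr)
      (by simp [sub_eq_add_neg, ← neg_smul, h1, h3])
      (by simp [sub_eq_add_neg, ← neg_smul, h2, h4])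
    simp only [isoApply, Matrix.mulVec_sub, Matrix.mulVec_smul] at e
    rw [sub_eq_iff_eq_add, sub_eq_iff_eq_add] at e
    rw [hu, hw]
    simp only [isoApply]
    rw [e]
    module
  have hperp : ∀ z, (∀ y, B y p = 0 → B y r = 0 → B z y = 0) →
      z = B z xp • p + B z xr • r := by
    intro z hz
    refine sub_eq_zero.1 (hQ _ fun y => ?_)
    have e := hz (y - B y p • xp - B y r • xr) (by simp [sub_eq_add_neg, ← neg_smul, h1, h3])
      (by simp [sub_eq_add_neg, ← neg_smul, h2, h4])
    simp only [sub_eq_add_neg, ← neg_smul, QuadraticMap.polar_add_right, QuadraticMap.polar_smul_right,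
      smul_eq_mul] at e
    simp only [sub_eq_add_neg, neg_add, ← neg_smul, QuadraticMap.polar_add_left, QuadraticMap.polar_smul_left,
      QuadraticMap.polar_comm Q p y, QuadraticMap.polar_comm Q r y, smul_eq_mul]
    linear_combination e
  have hmove : ∀ x y, B y p = 0 → B y r = 0 → B (isoApply g x - x) y = 0 := by
    intro x y hy hy'
    have e : B (isoApply g x) (isoApply g y) = B x y := iso_polar Q g x y
    rw [hg y hy hy'] at e
    rw [QuadraticMap.polar_sub_left, e, sub_self]
  have hu' := hperp u (hmove xp)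
  have hw' := hperp w (hmove xr)
  have hQu : ∀ a b : F, Q (a • p + b • r) = 0 := fun a b => by
    simp [quad_add, quad_smul, h.left, h.right, h.orth]
  have key : ∀ x, B x (isoApply g x - x) = -Q (isoApply g x - x) := by
    intro x
    have e := isoApply_Q g x
    rw [show isoApply g x = x + (isoApply g x - x) from (add_sub_cancel _ _).symm, quad_add] at e
    linear_combination e
  have ka := key xp
  rw [← hu, hu', hQu, neg_zero, QuadraticMap.polar_add_right, QuadraticMap.polar_smul_right,
    QuadraticMap.polar_smul_right, h1, h2, smul_zero, add_zero, smul_eq_mul, mul_one] at ka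
  have kb := key xr
  rw [← hw, hw', hQu, neg_zero, QuadraticMap.polar_add_right, QuadraticMap.polar_smul_right,
    QuadraticMap.polar_smul_right, h3, h4, smul_zero, zero_add, smul_eq_mul, mul_one] at kb
  rw [ka, zero_smul, zero_add] at hu'
  rw [kb, zero_smul, add_zero] at hw'
  have kc := key (xp + xr)
  have hd : isoApply g (xp + xr) - (xp + xr) = B w xp • p + B u xr • r := by
    rw [← hw', ← hu', hu, hw]
    simp only [isoApply, Matrix.mulVec_add]
    abel
  rw [hd, hQu, neg_zero] at kc
  simp only [QuadraticMap.polar_add_left, QuadraticMap.polar_add_right, QuadraticMap.polar_smul_right, h1, h2,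
    h3, h4, smul_eq_mul, mul_one, mul_zero, add_zero, zero_add] at kc
  generalize hcu : B u xr = cu at hu' kc
  generalize hcw : B w xp = cw at hw' kc
  refine ⟨cu, fun x => ?_⟩
  rw [hlin, hu', hw', show cw = -cu by linear_combination kc]
  module

theorem mem_rootGp (hQ : PolarNondeg Q) {p r : ι → F} (h : Sing Q p r) (hli : LinearIndependent F ![p, r])
    {g : isometryGroup F ⇑Q} : g ∈ rootGp Q p r ↔ ∃ c, HasPar p r g c := by
  refine ⟨fun hg => ?_, fun ⟨c, hc⟩ => hc.mem⟩
  induction hg using Subgroup.closure_induction with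
  | mem x hx => exact hasPar_of_fix hQ h hli hx
  | one => exact ⟨0, fun x => by rw [isoApply_one, zero_smul, add_zero]⟩
  | mul x y _ _ hx hy =>
    obtain ⟨a, ha⟩ := hx
    obtain ⟨b, hb⟩ := hy
    refine ⟨a + b, fun v => ?_⟩
    rw [isoApply_mul, hb v, ha]
    simp [sub_eq_add_neg, ← neg_smul, polar_self_zero h.left, polar_self_zero h.right, h.orth, h.symm.orth]
    module
  | inv x _ hx =>
    obtain ⟨a, ha⟩ := hx
    refine ⟨-a, fun v => ?_⟩
    have e : isoApply x (v + (-a) • (B v p • r - B v r • p)) = v := by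
      rw [ha]
      simp [sub_eq_add_neg, ← neg_smul, polar_self_zero h.left, polar_self_zero h.right, h.orth, h.symm.orth]
      module
    conv_lhs => rw [← e, isoApply_inv_apply]

theorem rootGp_congr {p r p' r' : ι → F}
    (h : ∀ v, (B v p = 0 ∧ B v r = 0) ↔ (B v p' = 0 ∧ B v r' = 0)) : rootGp Q p r = rootGp Q p' r' := by
  unfold rootGp
  congr 1
  ext g
  exact ⟨fun hg v h1 h2 => hg v ((h v).2 ⟨h1, h2⟩).1 ((h v).2 ⟨h1, h2⟩).2,
    fun hg v h1 h2 => hg v ((h v).1 ⟨h1, h2⟩).1 ((h v).1 ⟨h1, h2⟩).2⟩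

/-- Changing the basis of the line. -/
theorem rootGp_base {p r : ι → F} {a b c d : F} (hd : a * d - b * c ≠ 0) :
    rootGp Q (a • p + b • r) (c • p + d • r) = rootGp Q p r := by
  refine rootGp_congr fun v => ?_
  simp only [QuadraticMap.polar_add_right, QuadraticMap.polar_smul_right, smul_eq_mul]
  constructor
  · rintro ⟨h1, h2⟩
    constructor <;> refine (mul_eq_zero.1 ?_).resolve_left hd
    · linear_combination d * h1 - b * h2
    · linear_combination a * h2 - c * h1
  · rintro ⟨h1, h2⟩
    rw [h1, h2]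
    simp

omit [Fintype ι] [DecidableEq ι] in
theorem Sing.base {p r : ι → F} (h : Sing Q p r) (a b c d : F) :
    Sing Q (a • p + b • r) (c • p + d • r) := by
  refine ⟨?_, ?_, ?_⟩ <;>
    simp [quad_add, quad_smul, h.left, h.right, h.orth, h.symm.orth, polar_self_zero h.left,
      polar_self_zero h.right]

omit [Fintype ι] [DecidableEq ι] in
theorem li_base {p r : ι → F} (hli : LinearIndependent F ![p, r]) {a b c d : F} (hd : a * d - b * c ≠ 0) :
    LinearIndependent F ![a • p + b • r, c • p + d • r] := by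
  rw [LinearIndependent.pair_iff] at hli ⊢
  intro s t hst
  obtain ⟨h1, h2⟩ := hli (s * a + t * c) (s * b + t * d) (by rw [← hst]; module)
  constructor <;> refine (mul_eq_zero.1 ?_).resolve_left hd
  · linear_combination d * h1 - c * h2
  · linear_combination a * h2 - b * h1

theorem isoApply_linear (g : isometryGroup F ⇑Q) (a : F) (x y : ι → F) :
    isoApply g (x + a • y) = isoApply g x + a • isoApply g y := by
  simp [isoApply, Matrix.mulVec_add, Matrix.mulVec_smul]

theorem conj_rootGp_le (g : isometryGroup F ⇑Q) (p r : ι → F) :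
    conjBy (rootGp Q p r) g ≤ rootGp Q (isoApply g p) (isoApply g r) := by
  show (rootGp Q p r).map _ ≤ _
  rw [rootGp, MonoidHom.map_closure]
  refine Subgroup.closure_mono ?_
  rintro _ ⟨t, ht, rfl⟩
  intro v h1 h2
  show isoApply (g * t * g⁻¹) v = v
  rw [isoApply_mul, isoApply_mul, ht (isoApply g⁻¹ v) ?_ ?_, isoApply_apply_inv] <;>
    rw [← iso_polar Q g, isoApply_apply_inv] <;> assumption

theorem conj_rootGp (g : isometryGroup F ⇑Q) (p r : ι → F) :
    conjBy (rootGp Q p r) g = rootGp Q (isoApply g p) (isoApply g r) := by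
  refine le_antisymm (conj_rootGp_le g p r) ?_
  have h := conj_rootGp_le g⁻¹ (isoApply g p) (isoApply g r)
  rw [isoApply_inv_apply, isoApply_inv_apply] at h
  calc rootGp Q (isoApply g p) (isoApply g r)
      = conjBy (conjBy (rootGp Q (isoApply g p) (isoApply g r)) g⁻¹) g :=
        (CfsgLib.RankOne.conjBy_conjBy_inv _ _).symm
    _ ≤ conjBy (rootGp Q p r) g := Subgroup.map_mono h

theorem rootGp_ne_bot (hQ : PolarNondeg Q) {p r : ι → F} (h : Sing Q p r)
    (hli : LinearIndependent F ![p, r]) : rootGp Q p r ≠ ⊥ := by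
  intro e
  obtain ⟨g, hg⟩ := exists_hasPar hQ h 1
  have hm := hg.mem
  rw [e, Subgroup.mem_bot] at hm
  obtain ⟨x, hx⟩ := exists_polar hQ hli ![1, 0]
  have h1 : B x p = 1 := hx 0
  have h2 : B x r = 0 := hx 1
  have e' := hg x
  rw [hm, isoApply_one, h1, h2, one_smul, one_smul, zero_smul, sub_zero, left_eq_add] at e'
  exact hli.ne_zero 1 (by simpa using e')

theorem comm_formula {p r s t : ι → F} (h : Sing Q p r) (h' : Sing Q s t) (hps : B p s = 0) (hpt : B p t = 0)
    (hrs : B r s = 0) {g g' g'' : isometryGroup F ⇑Q} {c d : F} (hg : HasPar p r g c) (hg' : HasPar s t g' d)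
    (hg'' : HasPar p s g'' (c * d * B r t)) : g * g' = g'' * (g' * g) := by
  refine iso_ext fun v => ?_
  rw [isoApply_mul, isoApply_mul, isoApply_mul, hg', hg, hg v, hg', hg'']
  simp [sub_eq_add_neg, ← neg_smul, polar_self_zero h.left, polar_self_zero h.right, polar_self_zero h'.left,
    polar_self_zero h'.right, h.orth, h.symm.orth, h'.orth, h'.symm.orth, hps, hpt, hrs,
    QuadraticMap.polar_comm Q s p, QuadraticMap.polar_comm Q t p, QuadraticMap.polar_comm Q s r,
    QuadraticMap.polar_comm Q t r]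
  module

theorem hasPar_trivial {p s : ι → F} {g : isometryGroup F ⇑Q} {c : F} (hg : HasPar p s g c)
    (h : ¬ LinearIndependent F ![p, s]) (hp : p ≠ 0) : g = 1 := by
  rw [LinearIndependent.pair_iff' hp] at h
  push Not at h
  obtain ⟨a, rfl⟩ := h
  refine iso_ext fun v => ?_
  rw [hg v, isoApply_one, QuadraticMap.polar_smul_right, smul_eq_mul]
  module

/-- Normalised lines with singular pairing commute unless the pairing is non-zero and the kernels differ. -/
theorem commute_of_deg (hQ : PolarNondeg Q) {p r s t : ι → F} (h : Sing Q p r)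
    (hli : LinearIndependent F ![p, r]) (h' : Sing Q s t) (hli' : LinearIndependent F ![s, t])
    (hps : B p s = 0) (hpt : B p t = 0) (hrs : B r s = 0)
    (hk : B r t = 0 ∨ ¬ LinearIndependent F ![p, s]) : ⁅rootGp Q p r, rootGp Q s t⁆ = ⊥ := by
  refine Subgroup.commutator_eq_bot_iff_le_centralizer.2 fun x hx => ?_
  obtain ⟨c, hc⟩ := (mem_rootGp hQ h hli).1 hx
  refine Subgroup.mem_centralizer_iff.2 fun y hy => ?_
  obtain ⟨d, hd⟩ := (mem_rootGp hQ h' hli').1 hy
  obtain ⟨z, hz⟩ := exists_hasPar hQ (⟨h.left, h'.left, hps⟩ : Sing Q p s) (c * d * B r t)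
  have e := comm_formula h h' hps hpt hrs hc hd hz
  have hz1 : z = 1 := by
    rcases hk with hk | hk
    · refine iso_ext fun v => ?_
      rw [hz v, isoApply_one, hk, mul_zero, zero_smul, add_zero]
    · exact hasPar_trivial hz hk (by simpa using hli.ne_zero 0)
  rw [hz1, one_mul] at e
  exact e.symm

/-- All Siegel transvection groups of singular lines. -/
def lineSet (Q : QuadraticForm F (ι → F)) : Set (Subgroup (isometryGroup F ⇑Q)) :=
  {A | ∃ p r : ι → F, LinearIndependent F ![p, r] ∧ Sing Q p r ∧ A = rootGp Q p r}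

theorem commutatorCase_of_deg (hQ : PolarNondeg Q) {p r s t : ι → F} (h : Sing Q p r)
    (hli : LinearIndependent F ![p, r]) (h' : Sing Q s t) (hli' : LinearIndependent F ![s, t])
    (hps : B p s = 0) (hpt : B p t = 0) (hrs : B r s = 0) (hk : B r t ≠ 0)
    (hlps : LinearIndependent F ![p, s]) : RootCommutatorCase (lineSet Q) (rootGp Q p r) (rootGp Q s t) := by
  have hS : Sing Q p s := ⟨h.left, h'.left, hps⟩
  have hcomm : ∀ a b : isometryGroup F ⇑Q, ∀ c d : F, HasPar p r a c → HasPar s t b d →
      HasPar p s (a * b * a⁻¹ * b⁻¹) (c * d * B r t) := by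
    intro a b c d ha hb
    obtain ⟨z, hz⟩ := exists_hasPar hQ hS (c * d * B r t)
    have e := comm_formula h h' hps hpt hrs ha hb hz
    rwa [show a * b * a⁻¹ * b⁻¹ = z by rw [e]; group]
  have hmem : ∀ a ∈ rootGp Q p r, ∀ b ∈ rootGp Q s t, a * b * a⁻¹ * b⁻¹ ∈ rootGp Q p s := by
    intro a ha b hb
    obtain ⟨c, hc⟩ := (mem_rootGp hQ h hli).1 ha
    obtain ⟨d, hd⟩ := (mem_rootGp hQ h' hli').1 hb
    exact (hcomm a b c d hc hd).mem
  have hle : ⁅rootGp Q p r, rootGp Q s t⁆ ≤ rootGp Q p s := Subgroup.commutator_le.2 fun a ha b hb => hmem a ha b hb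
  have hleft : ∀ a ∈ rootGp Q p r, a ≠ 1 → rootGp Q p s ≤
      Subgroup.closure ((fun b => a * b * a⁻¹ * b⁻¹) '' (rootGp Q s t : Set (isometryGroup F ⇑Q))) := by
    intro a ha ha1 z hz
    obtain ⟨c, hc⟩ := (mem_rootGp hQ h hli).1 ha
    obtain ⟨e, he⟩ := (mem_rootGp hQ hS hlps).1 hz
    have hc0 : c ≠ 0 := fun h0 => ha1 (iso_ext fun v => by rw [hc v, h0, zero_smul, add_zero, isoApply_one])
    obtain ⟨b, hb⟩ := exists_hasPar hQ h' (e / (c * B r t))
    refine Subgroup.subset_closure ⟨b, hb.mem, hasPar_unique (hcomm a b c _ hc hb) ?_⟩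
    rwa [show c * (e / (c * B r t)) * B r t = e by field_simp]
  have hright : ∀ b ∈ rootGp Q s t, b ≠ 1 → rootGp Q p s ≤
      Subgroup.closure ((fun a => a * b * a⁻¹ * b⁻¹) '' (rootGp Q p r : Set (isometryGroup F ⇑Q))) := by
    intro b hb hb1 z hz
    obtain ⟨d, hd⟩ := (mem_rootGp hQ h' hli').1 hb
    obtain ⟨e, he⟩ := (mem_rootGp hQ hS hlps).1 hz
    have hd0 : d ≠ 0 := fun h0 => hb1 (iso_ext fun v => by rw [hd v, h0, zero_smul, add_zero, isoApply_one])
    obtain ⟨a, ha⟩ := exists_hasPar hQ h (e / (d * B r t))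
    refine Subgroup.subset_closure ⟨a, ha.mem, hasPar_unique (hcomm a b _ d ha hd) ?_⟩
    rwa [show e / (d * B r t) * d * B r t = e by field_simp]
  obtain ⟨g, hg⟩ := exists_hasPar hQ h 1
  have hg1 : g ≠ 1 := by
    intro e
    obtain ⟨x, hx⟩ := exists_polar hQ hli ![1, 0]
    have h1 : B x p = 1 := hx 0
    have h2 : B x r = 0 := hx 1
    have e' := hg x
    rw [e, isoApply_one, h1, h2, one_smul, one_smul, zero_smul, sub_zero, left_eq_add] at e'
    exact hli.ne_zero 1 (by simpa using e')
  have heq : ⁅rootGp Q p r, rootGp Q s t⁆ = rootGp Q p s := by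
    refine le_antisymm hle ((hleft g hg.mem hg1).trans ((Subgroup.closure_le _).2 ?_))
    rintro _ ⟨b, hb, rfl⟩
    exact Subgroup.commutator_mem_commutator hg.mem hb
  refine ⟨heq ▸ ⟨p, s, hlps, hS, rfl⟩, ?_, ?_, ?_⟩
  · rw [heq]
    intro z hz x hx
    have h1 : ⁅rootGp Q p r, rootGp Q p s⁆ = ⊥ :=
      commute_of_deg hQ h hli hS hlps (polar_self_zero h.left) hps h.symm.orth (Or.inl hrs)
    have h2 : ⁅rootGp Q p s, rootGp Q s t⁆ = ⊥ :=
      commute_of_deg hQ hS hlps h' hli' hps hpt (polar_self_zero h'.left) (Or.inl h'.orth)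
    have h3 : rootGp Q p r ⊔ rootGp Q s t ≤ Subgroup.centralizer (rootGp Q p s : Set (isometryGroup F ⇑Q)) :=
      sup_le (Subgroup.commutator_eq_bot_iff_le_centralizer.1 h1)
        (Subgroup.commutator_eq_bot_iff_le_centralizer.1 (Subgroup.commutator_comm (rootGp Q p s) _ ▸ h2))
    exact Subgroup.mem_centralizer_iff.1 (h3 hx) z hz
  · intro a ha ha1
    rw [heq]
    refine le_antisymm ((Subgroup.closure_le _).2 ?_) (hleft a ha ha1)
    rintro _ ⟨b, hb, rfl⟩
    exact hmem a ha b hb
  · intro b hb hb1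
    rw [heq]
    refine le_antisymm ((Subgroup.closure_le _).2 ?_) (hright b hb hb1)
    rintro _ ⟨a, ha, rfl⟩
    exact hmem a ha b hb

section embedding

/-- The action of a two by two matrix on the two planes of a pair of opposite lines. -/
noncomputable def planeLin (Q : QuadraticForm F (ι → F)) (p r s t : ι → F) (M : Matrix (Fin 2) (Fin 2) F) :
    (ι → F) →ₗ[F] (ι → F) where
  toFun x := x + ((M 0 0 - 1) * QuadraticMap.polar Q x t + M 0 1 * QuadraticMap.polar Q x p) • r +
    (M 1 0 * QuadraticMap.polar Q x t + (M 1 1 - 1) * QuadraticMap.polar Q x p) • s +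
    ((M 0 0 - 1) * QuadraticMap.polar Q x s - M 0 1 * QuadraticMap.polar Q x r) • p +
    (-(M 1 0) * QuadraticMap.polar Q x s + (M 1 1 - 1) * QuadraticMap.polar Q x r) • t
  map_add' x y := by simp only [QuadraticMap.polar_add_left]; module
  map_smul' a x := by simp only [QuadraticMap.polar_smul_left, RingHom.id_apply, smul_eq_mul]; module

omit [Fintype ι] [DecidableEq ι] in
theorem planeLin_apply (p r s t : ι → F) (M : Matrix (Fin 2) (Fin 2) F) (x : ι → F) :
    planeLin Q p r s t M x =
    x + ((M 0 0 - 1) * B x t + M 0 1 * B x p) • r + (M 1 0 * B x t + (M 1 1 - 1) * B x p) • s +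
    ((M 0 0 - 1) * B x s - M 0 1 * B x r) • p + (-(M 1 0) * B x s + (M 1 1 - 1) * B x r) • t := rfl

theorem rankOne_normalised (hQ : PolarNondeg Q) {p r s t : ι → F} (h : Sing Q p r) (h' : Sing Q s t)
    (hps : B p s = 1) (hpt : B p t = 0) (hrs : B r s = 0) (hrt : B r t = 1) :
    IsRankOnePair (rootGp Q p r) (rootGp Q s t) ∧ IsPSL2PairOver F (rootGp Q p r) (rootGp Q s t) := by
  have hli : LinearIndependent F ![p, r] := by
    rw [LinearIndependent.pair_iff]
    intro a b e
    have e1 := congrArg (fun v => B v s) e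
    have e2 := congrArg (fun v => B v t) e
    simp [hps, hpt, hrs, hrt] at e1 e2
    exact ⟨e1, e2⟩
  have hli' : LinearIndependent F ![s, t] := by
    rw [LinearIndependent.pair_iff]
    intro a b e
    have e1 := congrArg (fun v => B p v) e
    have e2 := congrArg (fun v => B r v) e
    simp [hps, hpt, hrs, hrt] at e1 e2
    exact ⟨e1, e2⟩
  have hsp : B s p = 1 := (QuadraticMap.polar_comm _ _ _).trans hps
  have htp : B t p = 0 := (QuadraticMap.polar_comm _ _ _).trans hpt
  have hsr : B s r = 0 := (QuadraticMap.polar_comm _ _ _).trans hrs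
  have htr : B t r = 1 := (QuadraticMap.polar_comm _ _ _).trans hrt
  have hpp := polar_self_zero h.left
  have hrr := polar_self_zero h.right
  have hss := polar_self_zero h'.left
  have htt := polar_self_zero h'.right
  have hiso : ∀ (M : Matrix.SpecialLinearGroup (Fin 2) F) x, Q (planeLin Q p r s t M.1 x) = Q x := by
    intro M x
    have hd := M.2
    rw [Matrix.det_fin_two] at hd
    rw [planeLin_apply]
    simp [quad_add, quad_smul, h.left, h.right, h'.left, h'.right, h.orth, h.symm.orth, h'.orth, h'.symm.orth,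
      hps, hpt, hrs, hrt, hsp, htp, hsr, htr, hpp, hrr, hss, htt]
    linear_combination (B x t * B x r + B x p * B x s) * hd
  let el : Matrix.SpecialLinearGroup (Fin 2) F → isometryGroup F ⇑Q := fun M =>
    isoMk (planeLin Q p r s t M.1) (injective_of_isometry hQ _ (hiso M)) (hiso M)
  have hel : ∀ M x, isoApply (el M) x = planeLin Q p r s t M.1 x := fun M x => isoMk_apply _ _ _ x
  let φ : Matrix.SpecialLinearGroup (Fin 2) F →* isometryGroup F ⇑Q :=
    { toFun := el
      map_one' := iso_ext fun x => by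
        rw [hel, planeLin_apply, isoApply_one, Matrix.SpecialLinearGroup.coe_one]
        simp
      map_mul' := fun M N => iso_ext fun x => by
        rw [isoApply_mul, hel, hel, hel, planeLin_apply p r s t M.1, planeLin_apply p r s t N.1,
          planeLin_apply p r s t (M * N).1]
        simp only [QuadraticMap.polar_add_left, QuadraticMap.polar_smul_left, smul_eq_mul, h.orth, h.symm.orth,
          h'.orth, h'.symm.orth, hps, hpt, hrs, hrt, hsp, htp, hsr, htr, hpp, hrr, hss, htt,
          Matrix.SpecialLinearGroup.coe_mul, Matrix.mul_apply, Fin.sum_univ_two]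
        module }
  have hup : ∀ y, HasPar p r (φ (Cfsg.Agent.S5016.up y)) y := fun y x => by
    show isoApply (el _) x = _
    rw [hel, planeLin_apply]
    simp
    module
  have hlo : ∀ y, HasPar s t (φ (Cfsg.Agent.S5016.lo y)) (-y) := fun y x => by
    show isoApply (el _) x = _
    rw [hel, planeLin_apply]
    simp
    module
  have hinj : Function.Injective φ := by
    intro M N e
    have key : ∀ M, B (isoApply (el M) r) t = M.1 0 0 ∧ B (isoApply (el M) r) p = M.1 1 0 ∧
        B (isoApply (el M) s) t = M.1 0 1 ∧ B (isoApply (el M) s) p = M.1 1 1 := by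
      intro M
      rw [hel, hel, planeLin_apply, planeLin_apply]
      simp [h.orth, h.symm.orth, h'.orth, h'.symm.orth, hps, hpt, hrs, hrt, hsp, htp, hsr, htr, hpp, hrr,
        hss, htt]
    obtain ⟨a, b, c, d⟩ := key M
    obtain ⟨a', b', c', d'⟩ := key N
    rw [show el M = el N from e] at a b c d
    refine Matrix.SpecialLinearGroup.ext _ _ fun i j => ?_
    fin_cases i <;> fin_cases j
    · exact a.symm.trans a'
    · exact c.symm.trans c'
    · exact b.symm.trans b'
    · exact d.symm.trans d'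
  refine pair_of_embedding φ hinj ?_ ?_
  · rw [Cfsg.Agent.S5016.upper_eq]
    ext g
    rw [mem_rootGp hQ h hli]
    constructor
    · rintro ⟨_, ⟨y, rfl⟩, rfl⟩; exact ⟨y, hup y⟩
    · rintro ⟨c, hc⟩; exact ⟨_, ⟨c, rfl⟩, hasPar_unique (hup c) hc⟩
  · rw [Cfsg.Agent.S5016.lower_eq]
    ext g
    rw [mem_rootGp hQ h' hli']
    constructor
    · rintro ⟨_, ⟨y, rfl⟩, rfl⟩; exact ⟨-y, hlo y⟩
    · rintro ⟨c, hc⟩; exact ⟨_, ⟨-c, rfl⟩, hasPar_unique (hlo (-c)) (by rwa [neg_neg])⟩

theorem rankOne (hQ : PolarNondeg Q) {p r s t : ι → F} (h : Sing Q p r) (h' : Sing Q s t)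
    (hd : B p s * B r t - B p t * B r s ≠ 0) :
    IsRankOnePair (rootGp Q p r) (rootGp Q s t) ∧ IsPSL2PairOver F (rootGp Q p r) (rootGp Q s t) := by
  set D := B p s * B r t - B p t * B r s with hD
  have hne : B r t / D * (B p s / D) - -(B r s / D) * -(B p t / D) ≠ 0 := by
    rw [neg_mul_neg, div_mul_div_comm, div_mul_div_comm, ← sub_div,
      show B r t * B p s - B r s * B p t = D by rw [hD]; ring, ← sq]
    exact div_ne_zero hd (pow_ne_zero 2 hd)
  rw [← rootGp_base (p := s) (r := t) hne]
  refine rankOne_normalised hQ h (h'.base _ _ _ _) ?_ ?_ ?_ ?_ <;>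
    simp only [QuadraticMap.polar_add_right, QuadraticMap.polar_smul_right, smul_eq_mul]
  · rw [div_mul_eq_mul_div, neg_mul, div_mul_eq_mul_div, ← sub_eq_add_neg, ← sub_div, div_eq_one_iff_eq hd, hD]
    ring
  · ring
  · ring
  · rw [div_mul_eq_mul_div, neg_mul, div_mul_eq_mul_div, neg_add_eq_sub, ← sub_div, div_eq_one_iff_eq hd, hD]

end embedding

omit [Fintype ι] [DecidableEq ι] in
theorem exists_ker_two {a b c d : F} (hd : a * d - b * c = 0) :
    ∃ u v : F, (u ≠ 0 ∨ v ≠ 0) ∧ u * a + v * c = 0 ∧ u * b + v * d = 0 := by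
  by_cases h : c = 0 ∧ a = 0
  · obtain ⟨rfl, rfl⟩ := h
    by_cases h' : d = 0 ∧ b = 0
    · obtain ⟨rfl, rfl⟩ := h'
      exact ⟨1, 0, Or.inl one_ne_zero, by simp, by simp⟩
    · refine ⟨d, -b, ?_, by simp, by ring⟩
      rw [neg_ne_zero]
      tauto
  · refine ⟨c, -a, ?_, by ring, by linear_combination -hd⟩
    rw [neg_ne_zero]
    tauto

omit [Fintype ι] [DecidableEq ι] in
theorem exists_completion {u v : F} (h : u ≠ 0 ∨ v ≠ 0) : ∃ x y : F, u * y - v * x ≠ 0 := by
  rcases h with h | h
  · exact ⟨0, 1, by simpa using h⟩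
  · exact ⟨1, 0, by simpa using h⟩

theorem pair (hQ : PolarNondeg Q) {p r s t : ι → F} (h : Sing Q p r) (hli : LinearIndependent F ![p, r])
    (h' : Sing Q s t) (hli' : LinearIndependent F ![s, t]) :
    ⁅rootGp Q p r, rootGp Q s t⁆ = ⊥ ∨
    (IsRankOnePair (rootGp Q p r) (rootGp Q s t) ∧ IsPSL2PairOver F (rootGp Q p r) (rootGp Q s t)) ∨
    RootCommutatorCase (lineSet Q) (rootGp Q p r) (rootGp Q s t) := by
  by_cases hd : B p s * B r t - B p t * B r s = 0
  swap
  · exact Or.inr (Or.inl (rankOne hQ h h' hd))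
  obtain ⟨u, v, huv, hu1, hu2⟩ := exists_ker_two hd
  obtain ⟨u', v', huv', hv1, hv2⟩ := exists_ker_two
    (show B p s * B r t - B r s * B p t = 0 by rw [mul_comm (B r s)]; exact hd)
  obtain ⟨x, y, hxy⟩ := exists_completion huv
  obtain ⟨x', y', hxy'⟩ := exists_completion huv'
  rw [← rootGp_base (p := p) (r := r) hxy, ← rootGp_base (p := s) (r := t) hxy']
  have e1 : B (u • p + v • r) (u' • s + v' • t) = 0 := by
    simp only [QuadraticMap.polar_add_left, QuadraticMap.polar_smul_left, QuadraticMap.polar_add_right,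
      QuadraticMap.polar_smul_right, smul_eq_mul]
    linear_combination u' * hu1 + v' * hu2
  have e2 : B (u • p + v • r) (x' • s + y' • t) = 0 := by
    simp only [QuadraticMap.polar_add_left, QuadraticMap.polar_smul_left, QuadraticMap.polar_add_right,
      QuadraticMap.polar_smul_right, smul_eq_mul]
    linear_combination x' * hu1 + y' * hu2
  have e3 : B (x • p + y • r) (u' • s + v' • t) = 0 := by
    simp only [QuadraticMap.polar_add_left, QuadraticMap.polar_smul_left, QuadraticMap.polar_add_right,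
      QuadraticMap.polar_smul_right, smul_eq_mul]
    linear_combination x * hv1 + y * hv2
  by_cases hk : B (x • p + y • r) (x' • s + y' • t) = 0 ∨ ¬ LinearIndependent F ![u • p + v • r, u' • s + v' • t]
  · exact Or.inl (commute_of_deg hQ (h.base _ _ _ _) (li_base hli hxy) (h'.base _ _ _ _) (li_base hli' hxy') e1 e2 e3 hk)
  · push Not at hk
    exact Or.inr (Or.inr (commutatorCase_of_deg hQ (h.base _ _ _ _) (li_base hli hxy) (h'.base _ _ _ _)
      (li_base hli' hxy') e1 e2 e3 hk.1 hk.2))

theorem isRootSubgroupSet (hQ : PolarNondeg Q) : IsRootSubgroupSet (Ambient.inSpan (lineSet Q)) := by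
  refine Ambient.isRootSubgroupSet ?_ ?_ ?_ ?_
  · rintro _ ⟨p, r, hli, h, rfl⟩
    refine ⟨⟨fun x y => Subtype.ext ?_⟩⟩
    have e := Subgroup.commutator_eq_bot_iff_le_centralizer.1
      (commute_of_deg hQ h hli h hli (polar_self_zero h.left) h.orth h.symm.orth (Or.inl (polar_self_zero h.right)))
    exact (Subgroup.mem_centralizer_iff.1 (e x.2) y.1 y.2).symm
  · rintro _ ⟨p, r, hli, h, rfl⟩
    exact rootGp_ne_bot hQ h hli
  · rintro _ ⟨p, r, hli, h, rfl⟩ g
    refine ⟨isoApply g p, isoApply g r, ?_, ?_, conj_rootGp g p r⟩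
    · rw [LinearIndependent.pair_iff] at hli ⊢
      intro a b e
      apply hli a b
      have e' := congrArg (isoApply g⁻¹) e
      simpa [isoApply, Matrix.mulVec_add, Matrix.mulVec_smul, Matrix.mulVec_mulVec] using e'
    · exact ⟨(isoApply_Q g p).trans h.left, (isoApply_Q g r).trans h.right,
        (iso_polar Q g p r).trans h.orth⟩
  · rintro _ ⟨p, r, hli, h, rfl⟩ _ ⟨s, t, hli', h', rfl⟩
    exact (pair hQ h hli h' hli').imp id (Or.imp And.left id)

theorem isKRootSubgroupSet (hQ : PolarNondeg Q) : IsKRootSubgroupSet F (Ambient.inSpan (lineSet Q)) := by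
  refine Ambient.isKRootSubgroupSet (isRootSubgroupSet hQ) fun A hA C hC hAC => ?_
  have hA' := hA; have hC' := hC
  obtain ⟨p, r, hli, h, rfl⟩ := hA
  obtain ⟨s, t, hli', h', rfl⟩ := hC
  rcases pair hQ h hli h' hli' with e | e | e
  · exact absurd e (CfsgLib.RankOne.commutator_ne_bot_of_isRankOnePair hAC)
  · exact e.2
  · exact absurd (Ambient.pair_transfer hA' hC' hAC) (not_rankOne_of_commutatorCase (isRootSubgroupSet hQ)
      ⟨_, hC', rfl⟩ (Ambient.commutatorCase_transfer hA' hC' e))

theorem exists_opposite (hQ : PolarNondeg Q) (hn : 5 ≤ Fintype.card ι) {p r t : ι → F} (h : Sing Q p r)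
    (h' : Sing Q p t) (hli : LinearIndependent F ![p, r, t]) :
    ∃ x y : ι → F, Sing Q x y ∧ B p x * B r y - B p y * B r x ≠ 0 ∧
      B p x * B t y - B p y * B t x ≠ 0 := by
  obtain ⟨x0, hx0⟩ := exists_polar hQ hli ![1, 0, 0]
  have a1 : B x0 p = 1 := hx0 0
  have a2 : B x0 r = 0 := hx0 1
  have a3 : B x0 t = 0 := hx0 2
  set x := x0 + (-Q x0) • p with hx
  have hpp := polar_self_zero h.left
  have x1 : B x p = 1 := by simp [hx, a1, hpp]
  have x2 : B x r = 0 := by simp [hx, a2, h.orth]
  have x3 : B x t = 0 := by simp [hx, a3, h'.orth]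
  have xQ : Q x = 0 := by simp [hx, quad_add, quad_smul, h.left, a1]
  have hli4 : LinearIndependent F ![p, x, r, t] := by
    rw [Fintype.linearIndependent_iff] at hli ⊢
    intro g hg
    simp only [Fin.sum_univ_four, Matrix.cons_val_zero, Matrix.cons_val_one, Matrix.cons_val] at hg
    have e := congrArg (fun v => B v p) hg
    simp [hpp, x1, h.symm.orth, h'.symm.orth] at e
    have e' := hli ![g 0, g 2, g 3] (by
      rw [Fin.sum_univ_three]
      simp only [Matrix.cons_val_zero, Matrix.cons_val_one, Matrix.cons_val]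
      rw [e, zero_smul, add_zero] at hg
      exact hg)
    intro i
    fin_cases i
    · exact e' 0
    · exact e
    · exact e' 1
    · exact e' 2
  suffices hy : ∃ y, Q y = 0 ∧ B y p = 0 ∧ B y x = 0 ∧ B y r ≠ 0 ∧ B y t ≠ 0 by
    obtain ⟨y, y0, y1, y2, y3, y4⟩ := hy
    refine ⟨x, y, ⟨xQ, y0, (QuadraticMap.polar_comm _ _ _).trans y2⟩, ?_, ?_⟩
    · rwa [QuadraticMap.polar_comm Q p x, x1, QuadraticMap.polar_comm Q p y, y1, zero_mul, sub_zero, one_mul,
        QuadraticMap.polar_comm]
    · rwa [QuadraticMap.polar_comm Q p x, x1, QuadraticMap.polar_comm Q p y, y1, zero_mul, sub_zero, one_mul,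
        QuadraticMap.polar_comm]
  have hrp := h.symm.orth
  have htp := h'.symm.orth
  have hrx : B r x = 0 := (QuadraticMap.polar_comm _ _ _).trans x2
  have htx : B t x = 0 := (QuadraticMap.polar_comm _ _ _).trans x3
  have hrr := polar_self_zero h.right
  have htt := polar_self_zero h'.right
  have htr : B t r = B r t := QuadraticMap.polar_comm _ _ _
  by_cases hk : B r t = 0
  · obtain ⟨y0, hy0⟩ := exists_polar hQ hli4 ![0, 0, 1, 1]
    have b1 : B y0 p = 0 := hy0 0
    have b2 : B y0 x = 0 := hy0 1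
    have b3 : B y0 r = 1 := hy0 2
    have b4 : B y0 t = 1 := hy0 3
    refine ⟨y0 + (-Q y0) • r, ?_, ?_, ?_, ?_, ?_⟩
    · simp [quad_add, quad_smul, h.right, b3]
    · simp [b1, hrp]
    · simp [b2, hrx]
    · simp [b3, hrr]
    · simp [b4, hk]
  · obtain ⟨w, w1, w2, w3, w4, wQ⟩ : ∃ w, B w p = 0 ∧ B w x = 0 ∧ B w r = 0 ∧ B w t = 0 ∧ Q w ≠ 0 := by
      let L : (ι → F) →ₗ[F] (Fin 4 → F) :=
        LinearMap.pi fun i => (QuadraticMap.polarBilin Q).flip (![p, x, r, t] i)
      have hker : LinearMap.ker L ≠ ⊥ := LinearMap.ker_ne_bot_of_finrank_lt (by simp; omega)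
      obtain ⟨w0, hw0, hw0'⟩ := Submodule.exists_mem_ne_zero_of_ne_bot hker
      have c1 : B w0 p = 0 := congrFun hw0 0
      have c2 : B w0 x = 0 := congrFun hw0 1
      have c3 : B w0 r = 0 := congrFun hw0 2
      have c4 : B w0 t = 0 := congrFun hw0 3
      by_cases hq0 : Q w0 = 0
      swap
      · exact ⟨w0, c1, c2, c3, c4, hq0⟩
      obtain ⟨z, hz⟩ := exists_polar hQ (u := ![w0]) (by simpa using hw0') ![1]
      have hz1 : B w0 z = 1 := (QuadraticMap.polar_comm _ _ _).trans (hz 0)
      set z' := z + (-B z p) • x + (-B z x) • p + (-(B z t / B r t)) • r + (-(B z r / B r t)) • t with hz'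
      have hxx := polar_self_zero xQ
      have hpx : B p x = 1 := (QuadraticMap.polar_comm _ _ _).trans x1
      have d1 : B z' p = 0 := by simp [hz', x1, hpp, hrp, htp]
      have d2 : B z' x = 0 := by simp [hz', hxx, hpx, hrx, htx]
      have d3 : B z' r = 0 := by simp [hz', x2, h.orth, hrr, htr, hk]
      have d4 : B z' t = 0 := by simp [hz', x3, h'.orth, htt, hk]
      have d5 : B w0 z' = 1 := by simp [hz', c1, c2, c3, c4, hz1]
      by_cases hq1 : Q z' = 0
      · exact ⟨w0 + z', by simp [c1, d1], by simp [c2, d2], by simp [c3, d3], by simp [c4, d4],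
          by simp [quad_add, hq0, hq1, d5]⟩
      · exact ⟨z', d1, d2, d3, d4, hq1⟩
    refine ⟨(B r t)⁻¹ • t + (-Q w) • r + w, ?_, ?_, ?_, ?_, ?_⟩
    · have hwt : B t w = 0 := (QuadraticMap.polar_comm _ _ _).trans w4
      have hwr : B r w = 0 := (QuadraticMap.polar_comm _ _ _).trans w3
      simp [quad_add, quad_smul, h.right, h'.right, hwt, hwr, htr]
      field_simp
      ring
    · simp [htp, hrp, w1]
    · simp [htx, hrx, w2]
    · simp [htr, hrr, w3, hk]
    · simp [htt, w4, hk, wQ]

theorem connected (hQ : PolarNondeg Q) (hn : 5 ≤ Fintype.card ι) :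
    IsConnectedFamily (FAdj (lineSet Q)) (lineSet Q) := by
  have step : ∀ p r t : ι → F, LinearIndependent F ![p, r] → Sing Q p r → LinearIndependent F ![p, t] →
      Sing Q p t → Relation.ReflTransGen (FAdj (lineSet Q)) (rootGp Q p r) (rootGp Q p t) := by
    intro p r t hli h hli' h'
    by_cases hli3 : LinearIndependent F ![p, r, t]
    · obtain ⟨x, y, hxy, h1, h2⟩ := exists_opposite hQ hn h h' hli3
      have hlxy : LinearIndependent F ![x, y] := by
        rw [LinearIndependent.pair_iff]
        intro a b e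
        have e1 := congrArg (fun v => B p v) e
        have e2 := congrArg (fun v => B r v) e
        simp only [QuadraticMap.polar_add_right, QuadraticMap.polar_smul_right, smul_eq_mul,
          QuadraticMap.polar_zero_right] at e1 e2
        constructor <;> refine (mul_eq_zero.1 ?_).resolve_left h1
        · linear_combination B r y * e1 - B p y * e2
        · linear_combination B p x * e2 - B r x * e1
      refine (Relation.ReflTransGen.single (b := rootGp Q x y) ?_).tail ?_
      · exact ⟨⟨p, r, hli, h, rfl⟩, ⟨x, y, hlxy, hxy, rfl⟩, (rankOne hQ h hxy h1).1⟩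
      · exact ⟨⟨x, y, hlxy, hxy, rfl⟩, ⟨p, t, hli', h', rfl⟩,
          RankOnePair_symm (rankOne hQ h' hxy h2).1⟩
    · rw [Fintype.linearIndependent_iff] at hli3
      push Not at hli3
      obtain ⟨g, hg, i, hi⟩ := hli3
      rw [Fin.sum_univ_three] at hg
      simp only [Matrix.cons_val_zero, Matrix.cons_val_one, Matrix.cons_val] at hg
      rw [LinearIndependent.pair_iff] at hli hli'
      have hg2 : g 2 ≠ 0 := fun h0 => hi (by
        rw [h0, zero_smul, add_zero] at hg
        obtain ⟨e0, e1⟩ := hli _ _ hg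
        fin_cases i <;> assumption)
      have ht : t = (-g 0 / g 2) • p + (-g 1 / g 2) • r := by
        apply smul_right_injective _ hg2
        simp only [smul_add, smul_smul, mul_div_cancel₀ _ hg2]
        linear_combination (norm := module) hg
      have hb : (1 : F) * (-g 1 / g 2) - 0 * (-g 0 / g 2) ≠ 0 := by
        rw [one_mul, zero_mul, sub_zero]
        intro h0
        rw [h0, zero_smul, add_zero] at ht
        exact neg_ne_zero.2 one_ne_zero (hli' (-g 0 / g 2) (-1) (by rw [← ht]; module)).2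
      conv_rhs => rw [show rootGp Q p t = rootGp Q ((1 : F) • p + (0 : F) • r) t by rw [one_smul, zero_smul, add_zero],
        ht, rootGp_base hb]
  rintro _ ⟨p, r, hli, h, rfl⟩ _ ⟨s, t, hli', h', rfl⟩
  obtain ⟨a, b, c, d, hd, he⟩ : ∃ a b c d : F, a * d - b * c ≠ 0 ∧ B (a • p + b • r) s = 0 := by
    by_cases hps : B p s = 0
    · exact ⟨1, 0, 0, 1, by simp, by simp [hps]⟩
    · refine ⟨B r s, -B p s, 1, 0, by simpa using hps, ?_⟩
      simp only [QuadraticMap.polar_add_left, QuadraticMap.polar_smul_left, smul_eq_mul]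
      ring
  rw [← rootGp_base (p := p) (r := r) hd]
  set p' := a • p + b • r
  set r' := c • p + d • r
  have hS := h.base a b c d
  have hli₁ : LinearIndependent F ![p', r'] := li_base hli hd
  by_cases hps : LinearIndependent F ![p', s]
  · have hS2 : Sing Q p' s := ⟨hS.left, h'.left, he⟩
    refine (step p' r' s hli₁ hS hps hS2).trans ?_
    rw [show rootGp Q p' s = rootGp Q s p' from rootGp_congr fun v => And.comm]
    exact step s p' t (LinearIndependent.pair_symm_iff.1 hps) hS2.symm hli' h'
  · rw [LinearIndependent.pair_iff' (by simpa using hli₁.ne_zero 0)] at hps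
    push Not at hps
    obtain ⟨e, he'⟩ := hps
    have he0 : e ≠ 0 := fun h0 => hli'.ne_zero 0 (by simp [← he', h0])
    have hst : rootGp Q s t = rootGp Q p' t := by
      refine rootGp_congr fun v => ?_
      rw [← he', QuadraticMap.polar_smul_right, smul_eq_mul, mul_eq_zero, or_iff_right he0]
    rw [hst]
    refine step p' r' t hli₁ hS ?_ ⟨hS.left, h'.right, ?_⟩
    · rw [LinearIndependent.pair_iff] at hli' ⊢
      intro u v huv
      obtain ⟨h1, h2⟩ := hli' (u / e) v (by rw [← huv, ← he', smul_smul, div_mul_cancel₀ _ he0])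
      exact ⟨(div_eq_zero_iff.1 h1).resolve_right he0, h2⟩
    · have h2 := h'.orth
      rw [← he', QuadraticMap.polar_smul_left, smul_eq_mul, mul_eq_zero, or_iff_right he0] at h2
      exact h2

end CfsgLib.RootSubgroups.Siegel
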