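import Cfsg.Agent.Lib.RootSubgroups.SL2Pair
import Cfsg.Agent.Lib.Classical.SpBasic

/-!
The transvection subgroups of the symplectic group.
-/

set_option autoImplicit false

namespace CfsgLib.RootSubgroups.SpRoot

open Matrix Cfsg CfsgLib.Classical CfsgLib.RootSubgroups.SL2Pair

variable {F : Type*} [Field F] {m : ℕ}

local notation "Spm" => symplecticGroup (Fin m) F
local notation "Vec" => Fin m ⊕ Fin m → F

/-- The transvections with centre `p`. -/
def rootGp (p : Vec) : Subgroup Spm := Subgroup.closure (Set.range (spT p))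

theorem mem_rootGp {p : Vec} {t : Spm} : t ∈ rootGp p ↔ ∃ c : F, t = spT p c := by
  refine ⟨fun ht => ?_, fun ⟨c, hc⟩ => hc ▸ Subgroup.subset_closure ⟨c, rfl⟩⟩
  induction ht using Subgroup.closure_induction with
  | mem x hx => exact let ⟨c, hc⟩ := hx; ⟨c, hc.symm⟩
  | one => exact ⟨0, (spT_zero p).symm⟩
  | mul x y _ _ hx hy =>
    obtain ⟨a, rfl⟩ := hx; obtain ⟨b, rfl⟩ := hy
    exact ⟨a + b, spT_mul p a b⟩
  | inv x _ hx =>
    obtain ⟨a, rfl⟩ := hx
    exact ⟨-a, spT_inv p a⟩

theorem spT_mem_rootGp (p : Vec) (c : F) : spT p c ∈ rootGp p := mem_rootGp.2 ⟨c, rfl⟩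

theorem commute_spT {p r : Vec} (h : sympForm m F p r = 0) (c d : F) :
    spT p c * spT r d = spT r d * spT p c := by
  have h' : sympForm m F r p = 0 := by rw [sympForm_swap, h, neg_zero]
  refine sp_ext fun x => ?_
  rw [Submonoid.coe_mul, Submonoid.coe_mul, ← mulVec_mulVec, ← mulVec_mulVec, spT_apply, spT_apply,
    spT_apply, spT_apply, sympForm_add_left, sympForm_add_left, sympForm_smul_left, sympForm_smul_left,
    h, h', mul_zero, mul_zero, add_zero, add_zero]
  abel

theorem rootGp_commute {p r : Vec} (h : sympForm m F p r = 0) : ⁅rootGp p, rootGp r⁆ = ⊥ := by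
  refine Subgroup.commutator_eq_bot_iff_le_centralizer.2 fun x hx => ?_
  obtain ⟨c, rfl⟩ := mem_rootGp.1 hx
  refine Subgroup.mem_centralizer_iff.2 fun y hy => ?_
  obtain ⟨d, rfl⟩ := mem_rootGp.1 hy
  exact (commute_spT h c d).symm

theorem rootGp_ne_bot {p : Vec} (hp : p ≠ 0) : rootGp p ≠ ⊥ := by
  intro e
  have h := spT_mem_rootGp p (1 : F)
  rw [e, Subgroup.mem_bot] at h
  obtain ⟨a, ha⟩ := exists_sympForm_ne_zero hp
  have h' := congrArg (fun t : Spm => t.1 *ᵥ a) h
  simp only [spT_apply, one_mul, Submonoid.coe_one, one_mulVec, add_eq_left, smul_eq_zero] at h'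
  rcases h' with h' | h'
  · exact ha (by rw [sympForm_swap, h', neg_zero])
  · exact hp h'

theorem rootGp_smul {p : Vec} {a : F} (ha : a ≠ 0) : rootGp (a • p) = rootGp p := by
  unfold rootGp
  congr 1
  ext t
  simp only [Set.mem_range, spT_smul]
  exact ⟨fun ⟨c, hc⟩ => ⟨_, hc⟩, fun ⟨c, hc⟩ => ⟨c / a ^ 2, by rw [div_mul_cancel₀ _ (pow_ne_zero 2 ha), hc]⟩⟩

theorem conj_rootGp (g : Spm) (p : Vec) : conjBy (rootGp p) g = rootGp (g.1 *ᵥ p) := by
  unfold rootGp conjBy
  rw [MonoidHom.map_closure, ← Set.range_comp]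
  congr 1
  refine congrArg Set.range (funext fun c => ?_)
  simp only [Function.comp_apply, MulEquiv.coe_toMonoidHom, MulAut.conj_apply]
  rw [spT_conj]

section embedding

/-- The action of a two by two matrix on the plane of `p` and `r`. -/
noncomputable def planeLin (p r : Vec) (M : Matrix (Fin 2) (Fin 2) F) : Vec →ₗ[F] Vec where
  toFun x := x + ((M 0 0 - 1) * sympForm m F x r + M 0 1 * sympForm m F p x) • p +
    (M 1 0 * sympForm m F x r + (M 1 1 - 1) * sympForm m F p x) • r
  map_add' x y := by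
    simp only [sympForm_add_left, sympForm_add_right]
    module
  map_smul' a x := by
    simp only [sympForm_smul_left, sympForm_smul_right, RingHom.id_apply]
    module

theorem planeLin_apply (p r : Vec) (M : Matrix (Fin 2) (Fin 2) F) (x : Vec) :
    planeLin p r M x = x + ((M 0 0 - 1) * sympForm m F x r + M 0 1 * sympForm m F p x) • p +
    (M 1 0 * sympForm m F x r + (M 1 1 - 1) * sympForm m F p x) • r := rfl

theorem planeLin_isom {p r : Vec} (h : sympForm m F p r = 1) {M : Matrix (Fin 2) (Fin 2) F}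
    (hM : M.det = 1) (u v : Vec) :
    sympForm m F (planeLin p r M u) (planeLin p r M v) = sympForm m F u v := by
  rw [Matrix.det_fin_two] at hM
  simp only [planeLin_apply, sympForm_add_left, sympForm_add_right, sympForm_smul_left, sympForm_smul_right,
    sympForm_self, h, show sympForm m F r p = -1 by rw [sympForm_swap, h],
    show sympForm m F r v = -sympForm m F v r from sympForm_swap v r,
    show sympForm m F u p = -sympForm m F p u from sympForm_swap p u]
  linear_combination (sympForm m F u r * sympForm m F p v - sympForm m F p u * sympForm m F v r) * hM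

/-- The embedded element. -/
noncomputable def planeEl {p r : Vec} (h : sympForm m F p r = 1) (M : Matrix.SpecialLinearGroup (Fin 2) F) : Spm :=
  ⟨LinearMap.toMatrix' (planeLin p r M.1), by
    rw [mem_sp_iff]
    intro u v
    rw [LinearMap.toMatrix'_mulVec, LinearMap.toMatrix'_mulVec, planeLin_isom h M.2]⟩

theorem planeEl_apply {p r : Vec} (h : sympForm m F p r = 1) (M : Matrix.SpecialLinearGroup (Fin 2) F) (x : Vec) :
    (planeEl h M).1 *ᵥ x = planeLin p r M.1 x :=
  LinearMap.toMatrix'_mulVec _ _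

/-- The embedding of `SL₂`. -/
noncomputable def planeHom {p r : Vec} (h : sympForm m F p r = 1) :
    Matrix.SpecialLinearGroup (Fin 2) F →* Spm where
  toFun := planeEl h
  map_one' := sp_ext fun x => by
    rw [planeEl_apply, planeLin_apply, Submonoid.coe_one, one_mulVec, Matrix.SpecialLinearGroup.coe_one]
    simp
  map_mul' M N := sp_ext fun x => by
    rw [Submonoid.coe_mul, ← mulVec_mulVec, planeEl_apply, planeEl_apply, planeEl_apply,
      planeLin_apply p r M.1, planeLin_apply p r N.1, planeLin_apply p r (M * N).1]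
    simp only [sympForm_add_left, sympForm_add_right, sympForm_smul_left, sympForm_smul_right, sympForm_self,
      h, Matrix.SpecialLinearGroup.coe_mul, Matrix.mul_apply, Fin.sum_univ_two]
    module

theorem planeHom_injective {p r : Vec} (h : sympForm m F p r = 1) : Function.Injective (planeHom h) := by
  intro M N e
  have hrp : sympForm m F r p = -1 := by rw [sympForm_swap, h]
  have key : ∀ (M : Matrix.SpecialLinearGroup (Fin 2) F),
      sympForm m F ((planeHom h M).1 *ᵥ p) r = M.1 0 0 ∧ sympForm m F p ((planeHom h M).1 *ᵥ p) = M.1 1 0 ∧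
      sympForm m F ((planeHom h M).1 *ᵥ r) r = M.1 0 1 ∧ sympForm m F p ((planeHom h M).1 *ᵥ r) = M.1 1 1 := by
    intro M
    rw [show planeHom h M = planeEl h M from rfl, planeEl_apply, planeEl_apply, planeLin_apply, planeLin_apply]
    simp [sympForm_add_left, sympForm_add_right, sympForm_smul_left, sympForm_smul_right, sympForm_self, h, hrp]
  obtain ⟨a, b, c, d⟩ := key M
  obtain ⟨a', b', c', d'⟩ := key N
  rw [e] at a b c d
  refine Matrix.SpecialLinearGroup.ext _ _ fun i j => ?_
  fin_cases i <;> fin_cases j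
  · exact a.symm.trans a'
  · exact c.symm.trans c'
  · exact b.symm.trans b'
  · exact d.symm.trans d'

theorem planeHom_up {p r : Vec} (h : sympForm m F p r = 1) (y : F) :
    planeHom h (Cfsg.Agent.S5016.up y) = spT p (-y) := by
  refine sp_ext fun x => ?_
  rw [show planeHom h (Cfsg.Agent.S5016.up y) = planeEl h _ from rfl, planeEl_apply, planeLin_apply, spT_apply,
    sympForm_swap p x]
  simp

theorem planeHom_lo {p r : Vec} (h : sympForm m F p r = 1) (y : F) :
    planeHom h (Cfsg.Agent.S5016.lo y) = spT r y := by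
  refine sp_ext fun x => ?_
  rw [show planeHom h (Cfsg.Agent.S5016.lo y) = planeEl h _ from rfl, planeEl_apply, planeLin_apply, spT_apply]
  simp

theorem rankOne_normalised {p r : Vec} (h : sympForm m F p r = 1) :
    IsRankOnePair (rootGp p) (rootGp r) ∧ IsPSL2PairOver F (rootGp p) (rootGp r) := by
  refine pair_of_embedding (planeHom h) (planeHom_injective h) ?_ ?_
  · rw [Cfsg.Agent.S5016.upper_eq]
    ext t
    rw [mem_rootGp]
    constructor
    · rintro ⟨_, ⟨y, rfl⟩, rfl⟩; exact ⟨-y, planeHom_up h y⟩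
    · rintro ⟨y, rfl⟩; exact ⟨_, ⟨-y, rfl⟩, by rw [planeHom_up, neg_neg]⟩
  · rw [Cfsg.Agent.S5016.lower_eq]
    ext t
    rw [mem_rootGp]
    constructor
    · rintro ⟨_, ⟨y, rfl⟩, rfl⟩; exact ⟨y, planeHom_lo h y⟩
    · rintro ⟨y, rfl⟩; exact ⟨_, ⟨y, rfl⟩, planeHom_lo h y⟩

theorem rankOne {p r : Vec} (h : sympForm m F p r ≠ 0) :
    IsRankOnePair (rootGp p) (rootGp r) ∧ IsPSL2PairOver F (rootGp p) (rootGp r) := by
  rw [← rootGp_smul (p := r) (inv_ne_zero h)]
  exact rankOne_normalised (by rw [sympForm_smul_right, inv_mul_cancel₀ h])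

end embedding

/-- The set of transvection subgroups. -/
def rootSet (F : Type*) [Field F] (m : ℕ) : Set (Subgroup (symplecticGroup (Fin m) F)) :=
  {A | ∃ p : Fin m ⊕ Fin m → F, p ≠ 0 ∧ A = rootGp p}

theorem isRootSubgroupSet : IsRootSubgroupSet (rootSet F m) := by
  refine ⟨?_, ?_, ?_, ?_, ?_⟩
  · rintro _ ⟨p, -, rfl⟩
    refine ⟨⟨?_⟩⟩
    rintro ⟨x, hx⟩ ⟨y, hy⟩
    obtain ⟨a, rfl⟩ := mem_rootGp.1 hx
    obtain ⟨b, rfl⟩ := mem_rootGp.1 hy
    exact Subtype.ext (commute_spT (sympForm_self p) a b)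
  · rintro _ ⟨p, hp, rfl⟩
    exact rootGp_ne_bot hp
  · rw [eq_top_iff, ← spT_closure_eq_top, Subgroup.closure_le]
    rintro A ⟨w, c, hA⟩
    rw [show A = spT w c from Subtype.ext hA]
    rcases eq_or_ne w 0 with rfl | hw
    · rw [show spT (0 : Vec) c = 1 from sp_ext fun x => by
        rw [spT_apply, smul_zero, add_zero, Submonoid.coe_one, one_mulVec]]
      exact one_mem _
    · exact Subgroup.mem_iSup_of_mem (rootGp w) (Subgroup.mem_iSup_of_mem ⟨w, hw, rfl⟩ (spT_mem_rootGp w c))
  · rintro _ ⟨p, hp, rfl⟩ g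
    refine ⟨g.1 *ᵥ p, fun h0 => hp ?_, conj_rootGp g p⟩
    exact sp_mulVec_injective g (by simpa using h0)
  · rintro _ ⟨p, hp, rfl⟩ _ ⟨r, hr, rfl⟩
    by_cases h : sympForm m F p r = 0
    · exact Or.inl (rootGp_commute h)
    · exact Or.inr (Or.inl (rankOne h).1)

theorem isKRootSubgroupSet : IsKRootSubgroupSet F (rootSet F m) := by
  refine ⟨isRootSubgroupSet, ?_⟩
  rintro _ ⟨p, hp, rfl⟩ _ ⟨r, hr, rfl⟩ hpr
  by_cases h : sympForm m F p r = 0
  · exact absurd (rootGp_commute h) (CfsgLib.RankOne.commutator_ne_bot_of_isRankOnePair hpr)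
  · exact (rankOne h).2

theorem isDegenerate : IsDegenerateRootSet (rootSet F m) := by
  rintro _ ⟨p, hp, rfl⟩ B hB h
  obtain ⟨r, hr, rfl⟩ := hB
  by_cases h0 : sympForm m F p r = 0
  · obtain ⟨w, hw, hwe⟩ := h.1
    rw [rootGp_commute h0] at hwe
    exact rootGp_ne_bot hw hwe.symm
  · exact not_rankOne_of_commutatorCase isRootSubgroupSet ⟨r, hr, rfl⟩ h (rankOne h0).1

end CfsgLib.RootSubgroups.SpRoot
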