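import Cfsg.Agent.Lib.RootSubgroups.RootSet

/-!
Two commuting members with a common rank one partner.

If `A`, `C` commute and both form rank one pairs with `R`, then for corresponding elements `a`, `r`, `c` the
element `x = a c⁻¹` moves `R` to a member commuting with `R`, and `y = ⁅r, x⁆` moves `A` to `C`.
-/

set_option autoImplicit false

namespace CfsgLib.RootTriple

open Subgroup Cfsg CfsgLib.RankOne

variable {G : Type*} [Group G] {S : Set (Subgroup G)} {A B C P Q R : Subgroup G} {a a' c c' r s x g : G}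

/-- Elementwise commuting subgroups. -/
def Cm (P Q : Subgroup G) : Prop := ∀ u ∈ P, ∀ v ∈ Q, Commute u v

theorem Cm.symm (h : Cm P Q) : Cm Q P := fun u hu v hv => (h v hv u hu).symm

theorem Cm.conj (h : Cm P Q) (g : G) : Cm (conjBy P g) (conjBy Q g) := by
  rintro _ ⟨u, hu, rfl⟩ _ ⟨v, hv, rfl⟩
  exact (h u hu v hv).map _

theorem Cm.fix (h : Cm P Q) (hq : g ∈ Q) : conjBy P g = P :=
  conjBy_eq_self_iff.2 (centralizer_le_normalizer _ (mem_centralizer_iff.2 fun p hp => h p hp g hq))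

theorem cm_of_commutator (h : ⁅P, Q⁆ = ⊥) : Cm P Q := fun _ hu _ hv => commute_of_commutator_eq_bot h hu hv

theorem Cm.commutator_eq (h : Cm P Q) : ⁅P, Q⁆ = ⊥ :=
  commutator_eq_bot_iff_le_centralizer.2 fun u hu => mem_centralizer_iff.2 fun v hv => (h u hu v hv).symm.eq

theorem not_cm (h : IsRankOnePair A B) : ¬ Cm A B := fun hc => commutator_ne_bot_of_isRankOnePair h hc.commutator_eq

theorem cm_self (hS : IsRootSubgroupSet S) (hA : A ∈ S) : Cm A A := fun _ hu _ hv => member_comm hS hA hu hv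

/-- A subgroup commuting with two unipotent subgroups commutes with the first one. -/
theorem cm_of_two (h : IsRankOnePair A B) {U V : Subgroup G} (hU : U ∈ unipotentSubgroups A B)
    (hV : V ∈ unipotentSubgroups A B) (hne : U ≠ V) (hPU : Cm P U) (hPV : Cm P V) : Cm P A := by
  obtain ⟨g, hg, hgA, hgB⟩ := two_transitive h self_mem_unipotentSubgroups (right_mem_unipotentSubgroups h)
    hU hV h.ne hne
  have hle : A ⊔ B ≤ U ⊔ V := by
    conv_lhs => rw [← conjBy_of_mem (A := A ⊔ B) hg]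
    rw [conjBy, Subgroup.map_sup]
    exact (sup_le_sup hgA.le hgB.le)
  intro p hp a ha
  have hc : U ⊔ V ≤ centralizer ({p} : Set G) :=
    sup_le (fun u hu => mem_centralizer_singleton_iff.2 (hPU p hp u hu).symm.eq)
      (fun v hv => mem_centralizer_singleton_iff.2 (hPV p hp v hv).symm.eq)
  exact (show Commute a p from mem_centralizer_singleton_iff.1 (hc (hle (mem_sup_left ha)))).symm

/-- `A` and `C` are different commuting members, both forming rank one pairs with `R`. -/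
structure Triple (S : Set (Subgroup G)) (A C R : Subgroup G) : Prop where
  root : IsRootSubgroupSet S
  memA : A ∈ S
  memC : C ∈ S
  memR : R ∈ S
  ne : A ≠ C
  comm : Cm A C
  pairA : IsRankOnePair A R
  pairC : IsRankOnePair C R

theorem Triple.swap (T : Triple S A C R) : Triple S C A R :=
  ⟨T.root, T.memC, T.memA, T.memR, T.ne.symm, T.comm.symm, T.pairC, T.pairA⟩

/-- `a`, `r`, `c` correspond. -/
structure Corr (A C R : Subgroup G) (a r c : G) : Prop where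
  memA : a ∈ A
  memR : r ∈ R
  memC : c ∈ C
  neA : a ≠ 1
  neR : r ≠ 1
  neC : c ≠ 1
  eqA : conjBy A r⁻¹ = conjBy R a⁻¹
  eqC : conjBy C r⁻¹ = conjBy R c⁻¹

theorem Triple.exists_corr (T : Triple S A C R) (ha : a ∈ A) (ha1 : a ≠ 1) : ∃ r c, Corr A C R a r c := by
  obtain ⟨r, hr, hr1, he⟩ := T.pairA.cond_left a ha ha1
  obtain ⟨c, hc, hc1, he'⟩ := T.pairC.cond_right r hr hr1
  exact ⟨r, c, ha, hr, hc, ha1, hr1, hc1, he, he'.symm⟩

theorem Triple.fixA (T : Triple S A C R) (ha : a ∈ A) (hc : c ∈ C) : conjBy A (a * c⁻¹) = A := by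
  rw [conjBy_mul, T.comm.fix (inv_mem hc), conjBy_of_mem ha]

theorem Triple.fixA' (T : Triple S A C R) (ha : a ∈ A) (hc : c ∈ C) : conjBy A (a * c⁻¹)⁻¹ = A :=
  conjBy_eq_self_iff.2 (inv_mem (conjBy_eq_self_iff.1 (T.fixA ha hc)))

theorem Triple.fixC (T : Triple S A C R) (ha : a ∈ A) (hc : c ∈ C) : conjBy C (a * c⁻¹) = C := by
  rw [conjBy_mul, conjBy_of_mem (inv_mem hc), T.comm.symm.fix ha]

theorem Corr.cm (T : Triple S A C R) (h : Corr A C R a r c) : Cm (conjBy R (a * c⁻¹)) R := by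
  have h1 := (T.comm.symm.conj r⁻¹).conj a
  rw [h.eqA, h.eqC, ← conjBy_mul, ← conjBy_mul, mul_inv_cancel, conjBy_one] at h1
  exact h1

theorem Triple.unique_left (T : Triple S A C R) (ha : a ∈ A) (ha' : a' ∈ A) (hc : c ∈ C)
    (h : Cm (conjBy R (a * c⁻¹)) R) (h' : Cm (conjBy R (a' * c⁻¹)) R) : a = a' := by
  by_contra hne
  have key : ∀ b ∈ A, Cm (conjBy R (b * c⁻¹)) R → Cm (conjBy R c⁻¹) (conjBy R b⁻¹) := fun b _ hh => by
    have := hh.conj b⁻¹
    rwa [← conjBy_mul, inv_mul_cancel_left] at this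
  have hU : ∀ b ∈ A, conjBy R b⁻¹ ∈ unipotentSubgroups A R := fun b hb =>
    conjBy_mem_unipotentSubgroups (right_mem_unipotentSubgroups T.pairA) (mem_sup_left (inv_mem hb))
  have hd : conjBy R a⁻¹ ≠ conjBy R a'⁻¹ := fun e =>
    hne (inv_injective (eq_of_conjBy_eq_right T.pairA (inv_mem ha) (inv_mem ha') e))
  have h2 := (cm_of_two T.pairA (hU a ha) (hU a' ha') hd (key a ha h) (key a' ha' h')).conj c
  rw [conjBy_conjBy_inv, T.comm.fix hc] at h2
  exact not_cm T.pairA h2.symm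

theorem Triple.unique_right (T : Triple S A C R) (ha : a ∈ A) (hc : c ∈ C) (hc' : c' ∈ C)
    (h : Cm (conjBy R (a * c⁻¹)) R) (h' : Cm (conjBy R (a * c'⁻¹)) R) : c = c' := by
  have key : ∀ d ∈ C, Cm (conjBy R (a * d⁻¹)) R → Cm (conjBy R (d * a⁻¹)) R := fun d hd hh => by
    have := hh.conj (a * d⁻¹)⁻¹
    rw [conjBy_inv_conjBy, mul_inv_rev, inv_inv] at this
    exact this.symm
  exact T.swap.unique_left hc hc' ha (key c hc h) (key c' hc' h')

theorem Triple.not_fix (T : Triple S A C R) (ha : a ∈ A) (ha1 : a ≠ 1) (hc : c ∈ C) :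
    conjBy R (a * c⁻¹) ≠ R := by
  intro he
  have h2 : conjBy R c⁻¹ = conjBy R a⁻¹ := by
    have := congrArg (fun P => conjBy P a⁻¹) he
    simpa only [← conjBy_mul, inv_mul_cancel_left] using this
  by_cases hc1 : c = 1
  · rw [hc1, inv_one, conjBy_one] at h2
    refine ha1 (inv_eq_one.1 (eq_of_conjBy_eq_right T.pairA (inv_mem ha) (one_mem A) ?_))
    rw [← h2, conjBy_one]
  obtain ⟨r, hr, -, hra⟩ := T.pairA.cond_left a ha ha1
  obtain ⟨r', hr', -, hrc⟩ := T.pairC.cond_left c hc hc1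
  have hCU : C ∈ unipotentSubgroups A R := by
    rw [← conjBy_conjBy_inv C r', hrc, h2, ← hra]
    exact conjBy_mem_unipotentSubgroups (conjBy_mem_unipotentSubgroups self_mem_unipotentSubgroups
      (mem_sup_right (inv_mem hr))) (mem_sup_right hr')
  exact T.ne (eq_of_commute_unipotent T.pairA hCU self_mem_unipotentSubgroups
    fun u hu v hv => (T.comm v hv u hu).symm.eq).symm

theorem Triple.unipotent_move (T : Triple S A C R) (hs : s ∈ R) (hs1 : s ≠ 1) :
    ∃ b ∈ A, conjBy A s⁻¹ = conjBy R b⁻¹ := by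
  obtain ⟨b, hb, -, he⟩ := T.pairA.cond_right s hs hs1
  exact ⟨b, hb, he.symm⟩

theorem Triple.x_comm (T : Triple S A C R) (ha : a ∈ A) (hc : c ∈ C) {b : G} (hb : b ∈ A) :
    Commute b (a * c⁻¹) :=
  (show Commute b a from member_comm T.root T.memA hb ha).mul_right (T.comm b hb c hc).inv_right

/-- The commutator `⁅s, x⁆`. -/
def yel (s x : G) : G := s * x * s⁻¹ * x⁻¹

theorem yel_commute (hS : IsRootSubgroupSet S) (hR : R ∈ S) (hx : Cm (conjBy R x) R) (hs : s ∈ R) {v : G}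
    (hv : v ∈ R) : Commute (yel s x) v := by
  have h1 : Commute (x * s⁻¹ * x⁻¹) v := hx _ ⟨s⁻¹, inv_mem hs, rfl⟩ v hv
  have h2 : Commute s v := member_comm hS hR hs hv
  rw [show yel s x = s * (x * s⁻¹ * x⁻¹) by unfold yel; group]
  exact h2.mul_left h1

theorem yel_mul (hS : IsRootSubgroupSet S) (hR : R ∈ S) (hx : Cm (conjBy R x) R) {p q : G} (hp : p ∈ R)
    (hq : q ∈ R) : yel p x * yel q x = yel (p * q) x := by
  have h1 : Commute (x * p⁻¹ * x⁻¹) q := hx _ ⟨p⁻¹, inv_mem hp, rfl⟩ q hq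
  have h2 : Commute p q := member_comm hS hR hp hq
  calc yel p x * yel q x = p * ((x * p⁻¹ * x⁻¹) * q) * (x * q⁻¹ * x⁻¹) := by unfold yel; group
    _ = p * (q * (x * p⁻¹ * x⁻¹)) * (x * q⁻¹ * x⁻¹) := by rw [h1.eq]
    _ = p * q * x * (p⁻¹ * q⁻¹) * x⁻¹ := by group
    _ = yel (p * q) x := by rw [h2.inv_inv.eq, ← mul_inv_rev]; rfl

theorem yel_one : yel 1 x = 1 := by simp [yel]

theorem yel_inv (hS : IsRootSubgroupSet S) (hR : R ∈ S) (hx : Cm (conjBy R x) R) {p : G} (hp : p ∈ R) :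
    yel p⁻¹ x = (yel p x)⁻¹ :=
  eq_inv_of_mul_eq_one_left (by rw [yel_mul hS hR hx (inv_mem hp) hp, inv_mul_cancel, yel_one])

theorem Triple.yel_conjA (T : Triple S A C R) (ha : a ∈ A) (hc : c ∈ C) :
    conjBy A (yel s (a * c⁻¹)) = conjBy (conjBy (conjBy A s⁻¹) (a * c⁻¹)) s := by
  rw [show yel s (a * c⁻¹) = s * (a * c⁻¹) * s⁻¹ * (a * c⁻¹)⁻¹ from rfl, conjBy_mul, T.fixA' ha hc, conjBy_mul,
    conjBy_mul]

/-- The conjugates of `A` by `⁅R, x⁆` commute with `A`. -/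
theorem Triple.yel_cm (T : Triple S A C R) (ha : a ∈ A) (hc : c ∈ C) (hx : Cm (conjBy R (a * c⁻¹)) R)
    (hs : s ∈ R) : Cm (conjBy A (yel s (a * c⁻¹))) A := by
  by_cases hs1 : s = 1
  · rw [hs1, yel_one, conjBy_one]; exact cm_self T.root T.memA
  obtain ⟨b, hb, hP⟩ := T.unipotent_move hs hs1
  have h2 : Cm (conjBy (conjBy A s⁻¹) (a * c⁻¹)) (conjBy A s⁻¹) := by
    rw [hP, ← conjBy_mul, show a * c⁻¹ * b⁻¹ = b⁻¹ * (a * c⁻¹) from
      (T.x_comm ha hc (inv_mem hb)).eq.symm, conjBy_mul]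
    exact hx.conj b⁻¹
  have h3 := h2.conj s
  rwa [← T.yel_conjA ha hc, conjBy_conjBy_inv] at h3

theorem Triple.eq_one_of_yel_fix (T : Triple S A C R) (ha : a ∈ A) (ha1 : a ≠ 1) (hc : c ∈ C) (hs : s ∈ R)
    (h : conjBy A (yel s (a * c⁻¹)) = A) : s = 1 := by
  by_contra hs1
  obtain ⟨b, hb, hP⟩ := T.unipotent_move hs hs1
  rw [T.yel_conjA ha hc] at h
  have h1 : conjBy (conjBy A s⁻¹) (a * c⁻¹) = conjBy A s⁻¹ :=
    conjBy_injective (h.trans (conjBy_conjBy_inv A s).symm)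
  rw [hP, ← conjBy_mul, show a * c⁻¹ * b⁻¹ = b⁻¹ * (a * c⁻¹) from
    (T.x_comm ha hc (inv_mem hb)).eq.symm, conjBy_mul] at h1
  exact T.not_fix ha ha1 hc (conjBy_injective h1)

theorem Triple.yel_eq_left (T : Triple S A C R) (ha : a ∈ A) (ha1 : a ≠ 1) (hc : c ∈ C)
    (hx : Cm (conjBy R (a * c⁻¹)) R) {p q : G} (hp : p ∈ R) (hq : q ∈ R)
    (h : conjBy A (yel p (a * c⁻¹)) = conjBy A (yel q (a * c⁻¹))) : p = q := by
  refine (inv_mul_eq_one.1 (T.eq_one_of_yel_fix ha ha1 hc (mul_mem (inv_mem hp) hq) ?_))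
  rw [← yel_mul T.root T.memR hx (inv_mem hp) hq, conjBy_mul, ← h, ← conjBy_mul,
    yel_mul T.root T.memR hx (inv_mem hp) hp, inv_mul_cancel, yel_one, conjBy_one]

theorem Corr.conjA (T : Triple S A C R) (h : Corr A C R a r c) :
    conjBy A (yel r (a * c⁻¹)) = C := by
  rw [T.yel_conjA h.memA h.memC, h.eqA, ← conjBy_mul _ (a * c⁻¹) a⁻¹,
    show a * c⁻¹ * a⁻¹ = c⁻¹ from by rw [(T.comm a h.memA c h.memC).inv_right.eq, mul_inv_cancel_right],
    ← h.eqC, conjBy_conjBy_inv]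

/-- `y = ⁅r, x⁆` induces the correspondence between `A` and `C`. -/
theorem Corr.map_eq (T : Triple S A C R) (h : Corr A C R a r c) {a₁ r₁ c₁ : G} (h₁ : Corr A C R a₁ r₁ c₁) :
    yel r (a * c⁻¹) * a₁ * (yel r (a * c⁻¹))⁻¹ = c₁ := by
  set y := yel r (a * c⁻¹) with hy
  have hyR : ∀ v ∈ R, Commute y v := fun v hv => yel_commute T.root T.memR (h.cm T) h.memR hv
  have hRy : conjBy R y⁻¹ = R := conjBy_eq_self_iff.2 (inv_mem (centralizer_le_normalizer _
    (mem_centralizer_iff.2 fun v hv => ((hyR v hv).symm).eq)))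
  have hmem : y * a₁ * y⁻¹ ∈ C := by
    rw [← Corr.conjA T h]
    exact ⟨a₁, h₁.memA, rfl⟩
  have h2 : conjBy R (y * a₁ * y⁻¹)⁻¹ = conjBy R c₁⁻¹ := by
    rw [show (y * a₁ * y⁻¹)⁻¹ = y * a₁⁻¹ * y⁻¹ by group, conjBy_mul, hRy, conjBy_mul, ← h₁.eqA,
      ← conjBy_mul A y, (hyR _ (inv_mem h₁.memR)).eq, conjBy_mul, Corr.conjA T h, h₁.eqC]
  exact inv_injective (eq_of_conjBy_eq_right T.pairC (inv_mem hmem) (inv_mem h₁.memC) h2)

theorem Corr.inv (T : Triple S A C R) (h : Corr A C R a r c) : Corr A C R a⁻¹ r⁻¹ c⁻¹ := by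
  obtain ⟨r', c', h'⟩ := T.exists_corr (inv_mem h.memA) (inv_ne_one.2 h.neA)
  have hx := h.cm T
  have hxi : Cm (conjBy R (a⁻¹ * c⁻¹⁻¹)) R := by
    have := (hx.conj (a * c⁻¹)⁻¹).symm
    rw [conjBy_inv_conjBy, mul_inv_rev, inv_inv] at this
    rwa [inv_inv, (T.comm a h.memA c h.memC).inv_left.eq]
  have hc : c⁻¹ = c' := T.unique_right (inv_mem h.memA) (inv_mem h.memC) h'.memC hxi (h'.cm T)
  subst hc
  have hxe : a⁻¹ * c⁻¹⁻¹ = (a * c⁻¹)⁻¹ := by
    rw [mul_inv_rev, inv_inv, (T.comm a h.memA c h.memC).inv_left.eq]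
  have h1 := Corr.conjA T h'
  rw [hxe] at h1
  have h2 : yel r' (a * c⁻¹)⁻¹ = (a * c⁻¹)⁻¹ * (yel r' (a * c⁻¹))⁻¹ * (a * c⁻¹) := by unfold yel; group
  rw [h2, ← yel_inv T.root T.memR hx h'.memR, conjBy_mul, T.fixA h.memA h.memC, conjBy_mul] at h1
  have h3 : conjBy A (yel r'⁻¹ (a * c⁻¹)) = C := by
    have := congrArg (fun P => conjBy P (a * c⁻¹)) h1
    simpa only [conjBy_conjBy_inv, T.fixC h.memA h.memC] using this
  have h4 : r'⁻¹ = r := T.yel_eq_left h.memA h.neA h.memC hx (inv_mem h'.memR) h.memR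
    (h3.trans (Corr.conjA T h).symm)
  rw [← h4, inv_inv]
  exact h'

/-- `r a⁻¹ r⁻¹ = a r a⁻¹`. -/
theorem Corr.braid (T : Triple S A C R) (h : Corr A C R a r c) : r * a⁻¹ * r⁻¹ = a * r * a⁻¹ := by
  have hrA : conjBy A r = conjBy R a := by
    have := (h.inv T).eqA
    rwa [inv_inv, inv_inv] at this
  obtain ⟨σ, hσ, hσe⟩ : r * a⁻¹ * r⁻¹ ∈ conjBy R a := hrA.le ⟨a⁻¹, inv_mem h.memA, rfl⟩
  have hσe' : r * a⁻¹ * r⁻¹ = a * σ * a⁻¹ := hσe.symm
  set x := a * c⁻¹ with hx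
  set y := yel r x with hy
  have hyR : ∀ v ∈ R, Commute y v := fun v hv => yel_commute T.root T.memR (h.cm T) h.memR hv
  have hya : y * a * y⁻¹ = c := Corr.map_eq T h h
  have hσc : r * c⁻¹ * r⁻¹ = c * σ * c⁻¹ := by
    have h1 : MulAut.conj y (r * a⁻¹ * r⁻¹) = MulAut.conj y (a * σ * a⁻¹) := congrArg _ hσe'
    have hyr : MulAut.conj y r = r := mul_inv_eq_iff_eq_mul.2 (hyR r h.memR).eq
    have hys : MulAut.conj y σ = σ := mul_inv_eq_iff_eq_mul.2 (hyR σ hσ).eq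
    simp only [map_mul, map_inv, hyr, hys, show MulAut.conj y a = c from hya] at h1
    exact h1
  have hxc : x * c = a := by rw [hx, inv_mul_cancel_right]
  have hax : a⁻¹ * c = x⁻¹ := by rw [hx, mul_inv_rev, inv_inv, (T.comm a h.memA c h.memC).inv_left.eq]
  have e1 : r * x * r⁻¹ = a * (σ⁻¹ * (a⁻¹ * c) * σ) * c⁻¹ := by
    calc r * x * r⁻¹ = (r * a⁻¹ * r⁻¹)⁻¹ * (r * c⁻¹ * r⁻¹) := by rw [hx]; group
      _ = (a * σ * a⁻¹)⁻¹ * (c * σ * c⁻¹) := by rw [hσe', hσc]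
      _ = _ := by group
  rw [hax] at e1
  have e2 : σ⁻¹ * x⁻¹ * σ = x⁻¹ * y := by
    calc σ⁻¹ * x⁻¹ * σ = a⁻¹ * (r * x * r⁻¹) * c := by rw [e1]; group
      _ = a⁻¹ * y * (x * c) := by rw [hy, yel]; group
      _ = a⁻¹ * (y * a * y⁻¹) * y := by rw [hxc]; group
      _ = x⁻¹ * y := by rw [hya, hax]
  have hcs : Commute (x * σ⁻¹ * x⁻¹) σ := h.cm T _ ⟨σ⁻¹, inv_mem hσ, rfl⟩ σ hσ
  have e3 : yel σ x = y := by
    calc yel σ x = σ * (x * σ⁻¹ * x⁻¹) := by unfold yel; group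
      _ = (x * σ⁻¹ * x⁻¹) * σ := hcs.eq.symm
      _ = x * (σ⁻¹ * x⁻¹ * σ) := by group
      _ = y := by rw [e2, mul_inv_cancel_left]
  have h4 : σ = r := T.yel_eq_left h.memA h.neA h.memC (h.cm T) hσ h.memR (by rw [e3, hy])
  rw [hσe', h4]

/-- A rank one pair with a member commuting with the first and not the second is special. -/
theorem Triple.special (T : Triple S A C R) : IsSpecialRankOnePair A R := by
  refine ⟨T.pairA, fun a ha ha1 r hr hr1 he => ?_⟩
  obtain ⟨r', c, h⟩ := T.exists_corr ha ha1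
  obtain ⟨w0, -, hu⟩ := existsUnique_partner T.pairA ha ha1
  have e : r' = r := (hu r' ⟨h.memR, h.neR, h.eqA⟩).trans (hu r ⟨hr, hr1, he⟩).symm
  subst e
  have h1 := (h.inv T).braid T
  rwa [inv_inv, inv_inv] at h1

theorem special_symm (h : IsSpecialRankOnePair B A) : IsSpecialRankOnePair A B := by
  refine ⟨RankOnePair_symm h.1, fun a ha ha1 b hb hb1 he => ?_⟩
  have h1 := congrArg (·⁻¹) (h.2 b hb hb1 a ha ha1 he.symm)
  simp only [mul_inv_rev, inv_inv, ← mul_assoc] at h1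
  exact h1.symm

/-- Abelian unipotent subgroups of exponent two give special pairs. -/
theorem special_of_involutions (h : IsRankOnePair A B) (hA : Cm A A) (hA2 : ∀ u ∈ A, u * u = 1) :
    IsSpecialRankOnePair A B := by
  refine ⟨h, fun a ha ha1 b hb hb1 he => ?_⟩
  obtain ⟨g, -, hg⟩ := right_mem_unipotentSubgroups h
  have hb2 : b * b = 1 := by
    obtain ⟨u, hu, hue⟩ := hg.le hb
    rw [← hue, ← map_mul, hA2 u hu, map_one]
  have hai : a⁻¹ = a := inv_eq_of_mul_eq_one_right (hA2 a ha)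
  have hbi : b⁻¹ = b := inv_eq_of_mul_eq_one_right hb2
  rw [hai, hbi] at he
  obtain ⟨σ, hσ, hσe⟩ : b * a * b⁻¹ ∈ conjBy B a := he.le ⟨a, ha, rfl⟩
  obtain ⟨α, hα, hαe⟩ : a * b * a⁻¹ ∈ conjBy A b := he.ge ⟨b, hb, rfl⟩
  have hσe' : a * σ * a⁻¹ = b * a * b⁻¹ := hσe
  have hαe' : b * α * b⁻¹ = a * b * a⁻¹ := hαe
  have e1 : a * α = a * b * a * b * a * b := by
    calc a * α = a * b⁻¹ * (b * α * b⁻¹) * b := by group
      _ = _ := by rw [hαe', hai, hbi]; group
  have e2 : σ * b = a * b * a * b * a * b := by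
    calc σ * b = a⁻¹ * (a * σ * a⁻¹) * a * b := by group
      _ = _ := by rw [hσe', hai, hbi]; group
  have hz : a * α = 1 := (Subgroup.eq_bot_iff_forall _).1 (normalizer_inf_eq_bot h) _
    ⟨mul_mem ha hα, le_normalizer (e1.trans e2.symm ▸ mul_mem hσ hb)⟩
  rw [e1] at hz
  rw [hai, hbi]
  calc b * a * b = (a * b * a) * (a * b * a * b * a * b) := by
        rw [hz, mul_one]
        have := eq_inv_of_mul_eq_one_right (show (a * b * a) * (b * a * b) = 1 by simpa only [mul_assoc] using hz)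
        rw [this, mul_inv_rev, mul_inv_rev, hai, hbi]; group
    _ = a * b * a := by rw [hz, mul_one]

/-- If every member commuting with `A` commutes with `B`, then `a² = 1` as soon as `R` has four elements. -/
theorem Triple.sq_eq_one (T : Triple S A C R) (hAB : IsRankOnePair A B)
    (hall : ∀ P ∈ S, Cm P A → P ≠ A → Cm P B) (h : Corr A C R a r c) (hs : s ∈ R) (hs1 : s ≠ 1) (hsr : s ≠ r)
    (hsri : s ≠ r⁻¹) : a * a = 1 := by
  set x := a * c⁻¹ with hxdef
  have hx := h.cm T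
  rw [← hxdef] at hx
  set K := centralizer (B : Set G) with hK
  set F : G → G := fun t => yel t x * a * (yel t x)⁻¹ with hF
  have hFK : ∀ t ∈ R, t ≠ 1 → F t ∈ K := by
    intro t ht ht1
    have hne : conjBy A (yel t x) ≠ A := fun e => ht1 (T.eq_one_of_yel_fix h.memA h.neA h.memC ht e)
    refine mem_centralizer_iff.2 fun b hb => ?_
    exact ((hall _ (T.root.conj_mem A T.memA _) (T.yel_cm h.memA h.memC hx ht) hne) _ ⟨a, h.memA, rfl⟩ b hb).eq.symm
  set y := yel r x with hy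
  have hyR : ∀ v ∈ R, Commute y v := fun v hv => yel_commute T.root T.memR hx h.memR hv
  have hya : y * a * y⁻¹ = c := Corr.map_eq T h h
  -- `x²` also moves `R` to a commuting member
  have hx2 : Cm (conjBy R (x * x)) R := by
    by_cases ha2 : a * a = 1
    · have hc2 : c * c = 1 := by
        rw [← hya, show y * a * y⁻¹ * (y * a * y⁻¹) = y * (a * a) * y⁻¹ by group, ha2, mul_one, mul_inv_cancel]
      have e : x * x = 1 := by
        rw [hxdef, ((T.comm a h.memA c h.memC).inv_right.symm).mul_mul_mul_comm, ha2, ← mul_inv_rev, hc2, inv_one,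
          one_mul]
      rw [e, conjBy_one]; exact cm_self T.root T.memR
    · obtain ⟨r2, c2, h2⟩ := T.exists_corr (mul_mem h.memA h.memA) ha2
      have e : x * x = a * a * c2⁻¹ := by
        rw [← Corr.map_eq T h h2, hxdef, ← hy, ((T.comm a h.memA c h.memC).inv_right.symm).mul_mul_mul_comm, ← hya]
        group
      rw [e]; exact h2.cm T
  set e := x⁻¹ * y⁻¹ * x * y with he
  have hye : ∀ t ∈ R, Commute (yel t x) e := by
    intro t ht
    have hcy : Commute (yel t x) y := by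
      show yel t x * y = y * yel t x
      rw [hy, yel_mul T.root T.memR hx ht h.memR, yel_mul T.root T.memR hx h.memR ht,
        member_comm T.root T.memR ht h.memR]
    have hc2 : Commute (yel t x) (x⁻¹ * y⁻¹ * x) := by
      have h0 : Commute (x * yel t x * x⁻¹) y⁻¹ := by
        rw [show x * yel t x * x⁻¹ = (x * t * x⁻¹) * ((x * x) * t⁻¹ * (x * x)⁻¹) by unfold yel; group]
        have hr1 : ∀ w : G, Cm (conjBy R w) R → ∀ q ∈ R, Commute (w * q * w⁻¹) r := fun w hw q hq =>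
          hw _ ⟨q, hq, rfl⟩ r h.memR
        have hyv : ∀ v : G, Commute v r → Commute v (x * r⁻¹ * x⁻¹) → Commute v y⁻¹ := fun v hv hv' => by
          rw [hy, show yel r x = r * (x * r⁻¹ * x⁻¹) by unfold yel; group]
          exact (hv.mul_right hv').inv_right
        refine Commute.mul_left (hyv _ (hr1 x hx t ht) ?_) (hyv _ (hr1 _ hx2 _ (inv_mem ht)) ?_)
        · exact (show Commute t r⁻¹ from member_comm T.root T.memR ht (inv_mem h.memR)).map (MulAut.conj x)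
        · have := (hx _ ⟨t⁻¹, inv_mem ht, rfl⟩ _ (inv_mem h.memR)).map (MulAut.conj x)
          simpa [mul_assoc] using this
      have := h0.map (MulAut.conj x⁻¹)
      simpa [mul_assoc] using this
    exact hc2.mul_right hcy
  have hee : e = c * a⁻¹ * (yel r⁻¹ x * a * (yel r⁻¹ x)⁻¹) * a⁻¹ := by
    rw [yel_inv T.root T.memR hx h.memR, ← hy, he, hxdef, ← hya]
    group
  have hconj : e = F (s * r) * (F s)⁻¹ * F (s * r⁻¹) * (F s)⁻¹ := by
    calc e = yel s x * e * (yel s x)⁻¹ := by rw [(hye s hs).eq, mul_inv_cancel_right]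
      _ = _ := by
        rw [hee, ← hya, hy]
        simp only [hF]
        rw [← yel_mul T.root T.memR hx hs h.memR, ← yel_mul T.root T.memR hx hs (inv_mem h.memR)]
        group
  have hsr1 : s * r ≠ 1 := fun e' => hsri (eq_inv_of_mul_eq_one_left e')
  have hsr2 : s * r⁻¹ ≠ 1 := fun e' => hsr (by simpa using eq_inv_of_mul_eq_one_left e')
  have heK : e ∈ K := by
    rw [hconj]
    exact mul_mem (mul_mem (mul_mem (hFK _ (mul_mem hs h.memR) hsr1) (inv_mem (hFK s hs hs1)))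
      (hFK _ (mul_mem hs (inv_mem h.memR)) hsr2)) (inv_mem (hFK s hs hs1))
  have hcK : c ∈ K := by
    have := hFK r h.memR h.neR
    simpa only [hF, ← hy, hya] using this
  have hc'K : F r⁻¹ ∈ K := hFK _ (inv_mem h.memR) (inv_ne_one.2 h.neR)
  have hcm : Commute (F r⁻¹) a := T.yel_cm h.memA h.memC hx (inv_mem h.memR) _ ⟨a, h.memA, rfl⟩ a h.memA
  have h2 : (a * a)⁻¹ ∈ K := by
    have e3 : (a * a)⁻¹ = (F r⁻¹)⁻¹ * (c⁻¹ * e) := by
      rw [hee]
      show (a * a)⁻¹ = (F r⁻¹)⁻¹ * (c⁻¹ * (c * a⁻¹ * F r⁻¹ * a⁻¹))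
      calc (a * a)⁻¹ = (F r⁻¹)⁻¹ * (F r⁻¹ * a⁻¹) * a⁻¹ := by group
        _ = (F r⁻¹)⁻¹ * (a⁻¹ * F r⁻¹) * a⁻¹ := by rw [hcm.inv_right.eq]
        _ = _ := by group
    rw [e3]
    exact mul_mem (inv_mem hc'K) (mul_mem (inv_mem hcK) heK)
  exact inv_eq_one.1 ((Subgroup.eq_bot_iff_forall _).1 (normalizer_inf_eq_bot hAB) _
    (mem_inf.2 ⟨inv_mem (mul_mem h.memA h.memA), centralizer_le_normalizer _ h2⟩))

end CfsgLib.RootTriple
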